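import Groth.Agent.Depth.Basic
import Mathlib

/-!
# Regular pairs
-/

set_option autoImplicit false
set_option linter.style.haveILetI false

universe u

open IsLocalRing

namespace Groth.Agent.PurityReg

/-- `x` is regular and `y` is regular modulo `x`. -/
structure RegPair {R : Type u} [CommRing R] (x y : R) : Prop where
  reg : ∀ w : R, x * w = 0 → w = 0
  div : ∀ w : R, x ∣ y * w → x ∣ w

variable {R : Type u} [CommRing R] {x y : R}

theorem RegPair.isWeaklyRegular (h : RegPair x y) : RingTheory.Sequence.IsWeaklyRegular R [x, y] := by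
  rw [RingTheory.Sequence.isWeaklyRegular_cons_iff, RingTheory.Sequence.isWeaklyRegular_singleton_iff]
  refine ⟨fun a b hab => sub_eq_zero.1 (h.reg _ (by rw [mul_sub]; exact sub_eq_zero.2 hab)), fun a b => ?_⟩
  obtain ⟨a, rfl⟩ := Submodule.Quotient.mk_surjective _ a
  obtain ⟨b, rfl⟩ := Submodule.Quotient.mk_surjective _ b
  intro hab
  simp only [← Submodule.Quotient.mk_smul] at hab
  rw [Submodule.Quotient.eq, Submodule.mem_smul_pointwise_iff_exists] at hab ⊢
  obtain ⟨c, -, hc⟩ := hab
  obtain ⟨w, hw⟩ := h.div (a - b) ⟨c, by rw [smul_eq_mul, smul_eq_mul, smul_eq_mul] at hc; linear_combination -hc⟩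
  exact ⟨w, trivial, hw.symm⟩

theorem regPair_of_isWeaklyRegular (h : RingTheory.Sequence.IsWeaklyRegular R [x, y]) : RegPair x y := by
  rw [RingTheory.Sequence.isWeaklyRegular_cons_iff, RingTheory.Sequence.isWeaklyRegular_singleton_iff] at h
  refine ⟨fun w hw => h.1 (show x • w = x • 0 by simpa using hw), fun w hw => ?_⟩
  obtain ⟨c, hc⟩ := hw
  have h2 := h.2 (a₁ := Submodule.Quotient.mk w) (a₂ := 0) (by
    show y • Submodule.Quotient.mk w = y • 0
    rw [smul_zero, ← Submodule.Quotient.mk_smul, Submodule.Quotient.mk_eq_zero, Submodule.mem_smul_pointwise_iff_exists]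
    exact ⟨c, trivial, hc.symm⟩)
  rw [Submodule.Quotient.mk_eq_zero, Submodule.mem_smul_pointwise_iff_exists] at h2
  obtain ⟨d, -, hd⟩ := h2
  exact ⟨d, hd.symm⟩

theorem RegPair.map (h : RegPair x y) (S : Type u) [CommRing S] [Algebra R S] [Module.Flat R S] :
    RegPair (algebraMap R S x) (algebraMap R S y) :=
  regPair_of_isWeaklyRegular (RingTheory.Sequence.IsWeaklyRegular.of_flat h.isWeaklyRegular)

theorem RegPair.reg_pow (h : RegPair x y) : ∀ (a : ℕ) (w : R), x ^ a * w = 0 → w = 0
  | 0, w, hw => by simpa using hw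
  | a + 1, w, hw => h.reg_pow a w (h.reg _ (by rw [← mul_assoc, ← pow_succ']; exact hw))

theorem RegPair.div_pow (h : RegPair x y) : ∀ (a b : ℕ) (w : R), x ^ a ∣ y ^ b * w → x ^ a ∣ w := by
  have h1 : ∀ (b : ℕ) (w : R), x ∣ y ^ b * w → x ∣ w := by
    intro b
    induction b with
    | zero => intro w hw; simpa using hw
    | succ b ih => intro w hw; exact ih w (h.div _ (by rwa [pow_succ', mul_assoc] at hw))
  intro a
  induction a with
  | zero => intros; simp
  | succ a ih =>
    intro b w hw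
    obtain ⟨v, rfl⟩ := h1 b w (dvd_trans (dvd_pow_self x a.succ_ne_zero) hw)
    rw [pow_succ'] at hw ⊢
    refine mul_dvd_mul_left x (ih b v ?_)
    obtain ⟨c, hc⟩ := hw
    exact ⟨c, sub_eq_zero.1 (h.reg _ (by linear_combination hc))⟩

theorem RegPair.pow (h : RegPair x y) (a b : ℕ) : RegPair (x ^ a) (y ^ b) :=
  ⟨h.reg_pow a, fun w hw => h.div_pow a b w hw⟩

/-- compatible fractions glue -/
theorem RegPair.glue (h : RegPair x y) {a b : ℕ} {u v : R} (e : u * y ^ b = v * x ^ a) :
    ∃ z, u = x ^ a * z ∧ v = y ^ b * z := by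
  obtain ⟨z, rfl⟩ := h.div_pow a b u ⟨v, by linear_combination e⟩
  exact ⟨z, rfl, sub_eq_zero.1 (h.reg_pow a _ (by linear_combination -e))⟩

theorem RegPair.two_le_depth [IsNoetherianRing R] [IsLocalRing R] (h : RegPair x y) (hx : x ∈ maximalIdeal R)
    (hy : y ∈ maximalIdeal R) : (2 : ℕ∞) ≤ LocCoh.depth R R :=
  (Depth.le_idealDepth_iff_exists
    (Depth.smul_top_ne_top_self (IsLocalRing.maximalIdeal.isMaximal _).ne_top) (n := 2)).mpr
      ⟨[x, y], rfl, fun r hr => by rcases List.mem_pair.1 hr with rfl | rfl <;> assumption, h.isWeaklyRegular⟩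

theorem exists_regPair [IsNoetherianRing R] [IsLocalRing R] (hd : (2 : ℕ∞) ≤ LocCoh.depth R R) :
    ∃ x y : R, x ∈ maximalIdeal R ∧ y ∈ maximalIdeal R ∧ RegPair x y := by
  obtain ⟨rs, hl, hm, hr⟩ := (Depth.le_idealDepth_iff_exists
    (Depth.smul_top_ne_top_self (IsLocalRing.maximalIdeal.isMaximal _).ne_top) (n := 2)).mp hd
  match rs, hl with
  | [x, y], _ => exact ⟨x, y, hm x (by simp), hm y (by simp), regPair_of_isWeaklyRegular hr⟩

/-- pairs on a quotient by powers of a regular element -/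
theorem regPair_quotient_pow {t : R} (ht : ∀ w : R, t * w = 0 → w = 0)
    (h : RegPair (Ideal.Quotient.mk (Ideal.span {t}) x) (Ideal.Quotient.mk (Ideal.span {t}) y)) :
    ∀ k, RegPair (Ideal.Quotient.mk (Ideal.span {t ^ k}) x) (Ideal.Quotient.mk (Ideal.span {t ^ k}) y) := by
  have hx : ∀ k w, t ^ k ∣ x * w → t ^ k ∣ w := by
    intro k
    induction k with
    | zero => intros; simp
    | succ k ih =>
      intro w hw
      have h1 : t ∣ w := by
        rw [← Ideal.mem_span_singleton, ← Ideal.Quotient.eq_zero_iff_mem]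
        exact h.reg _ (by rw [← map_mul, Ideal.Quotient.eq_zero_iff_mem, Ideal.mem_span_singleton]; exact (dvd_pow_self t k.succ_ne_zero).trans hw)
      obtain ⟨v, rfl⟩ := h1
      rw [pow_succ'] at hw ⊢
      refine mul_dvd_mul_left t (ih v ?_)
      obtain ⟨c, hc⟩ := hw
      exact ⟨c, sub_eq_zero.1 (ht _ (by linear_combination hc))⟩
  intro k
  refine ⟨fun w hw => ?_, ?_⟩
  · obtain ⟨w, rfl⟩ := Ideal.Quotient.mk_surjective w
    rw [← map_mul, Ideal.Quotient.eq_zero_iff_mem, Ideal.mem_span_singleton] at hw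
    rw [Ideal.Quotient.eq_zero_iff_mem, Ideal.mem_span_singleton]
    exact hx k w hw
  induction k with
  | zero =>
    intro w _
    have hsub : Subsingleton (R ⧸ Ideal.span {t ^ 0}) :=
      Ideal.Quotient.subsingleton_iff.2 (by simp)
    exact ⟨0, Subsingleton.elim _ _⟩
  | succ k ih =>
    have key : ∀ w c e : R, y * w = x * c + t ^ (k + 1) * e → ∃ p q, w = x * p + t ^ (k + 1) * q := by
      intro w c e hw
      obtain ⟨z, hz⟩ := ih (Ideal.Quotient.mk _ w) ⟨Ideal.Quotient.mk _ c, by
        rw [← map_mul, ← map_mul, Ideal.Quotient.eq, Ideal.mem_span_singleton]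
        exact ⟨t * e, by linear_combination hw⟩⟩
      obtain ⟨z, rfl⟩ := Ideal.Quotient.mk_surjective z
      rw [← map_mul, Ideal.Quotient.eq, Ideal.mem_span_singleton] at hz
      obtain ⟨f, hf⟩ := hz
      obtain ⟨g, hg⟩ := hx k (c - y * z) ⟨y * f - t * e, by linear_combination y * hf - hw⟩
      have h2 : t ^ k * (y * f - t * e - x * g) = 0 := by linear_combination hw - y * hf + x * hg
      have h3 : y * f - t * e - x * g = 0 := by
        have : ∀ (j : ℕ) (v : R), t ^ j * v = 0 → v = 0 := by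
          intro j
          induction j with
          | zero => intro v hv; simpa using hv
          | succ j ihj => intro v hv; exact ihj v (ht _ (by rw [← mul_assoc, ← pow_succ']; exact hv))
        exact this k _ h2
      obtain ⟨p, hp⟩ := h.div (Ideal.Quotient.mk _ f) ⟨Ideal.Quotient.mk _ g, by
        rw [← map_mul, ← map_mul, Ideal.Quotient.eq, Ideal.mem_span_singleton]
        exact ⟨e, by linear_combination h3⟩⟩
      obtain ⟨p, rfl⟩ := Ideal.Quotient.mk_surjective p
      rw [← map_mul, Ideal.Quotient.eq, Ideal.mem_span_singleton] at hp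
      obtain ⟨q, hq⟩ := hp
      exact ⟨z + t ^ k * p, q, by linear_combination hf + t ^ k * hq⟩
    intro w hw
    obtain ⟨w, rfl⟩ := Ideal.Quotient.mk_surjective w
    obtain ⟨c, hc⟩ := hw
    obtain ⟨c, rfl⟩ := Ideal.Quotient.mk_surjective c
    rw [← map_mul, ← map_mul, Ideal.Quotient.eq, Ideal.mem_span_singleton] at hc
    obtain ⟨e, he⟩ := hc
    obtain ⟨p, q, hpq⟩ := key w c e (by linear_combination he)
    refine ⟨Ideal.Quotient.mk _ p, ?_⟩
    rw [← map_mul, Ideal.Quotient.eq, Ideal.mem_span_singleton]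
    exact ⟨q, by linear_combination hpq⟩

end Groth.Agent.PurityReg
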