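import Groth.Agent.PurityReg.Step
import Groth.Agent.CAlgCompl.Local
import Groth.Agent.AdicNoeth.Basic
import Mathlib

/-!
# Purity for regular local rings
-/

set_option autoImplicit false
set_option backward.isDefEq.respectTransparency false
set_option backward.isDefEq.respectTransparency.types false
set_option linter.style.haveILetI false

noncomputable section

universe u

open IsLocalRing TensorProduct

namespace Groth.Agent.PurityReg

theorem pure_of_regular {A : Type u} [CommRing A] [IsRegularLocalRing A] (hdim : (2 : WithBot ℕ∞) ≤ ringKrullDim A) :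
    Pure A := by
  intro M _ _ _ hM hS
  let B := AdicCompletion (maximalIdeal A) A
  haveI : IsNoetherianRing B := AdicNoeth.isNoetherianRing_adicCompletion _
  haveI : IsRegularLocalRing B := (CAlgCompl.isRegularLocalRing_adicCompletion_iff A).1 inferInstance
  haveI : IsLocalHom (algebraMap A B) := inferInstance
  haveI : Module.Flat A B := inferInstance
  haveI : Module.FaithfullyFlat A B := Module.FaithfullyFlat.of_flat_of_isLocalHom
  haveI : IsAdicComplete (maximalIdeal B) B := inferInstance
  obtain ⟨d, hd⟩ := CAlgReg.exists_dim (R := B)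
  have hd2 : 2 ≤ d := by
    rw [← CAlgCompl.ringKrullDim_adicCompletion A, hd] at hdim
    exact_mod_cast hdim
  have hP := pure_complete d B hd hd2
  obtain ⟨x, y, hx, hy, hp⟩ := hS
  have hBM : FEtOff B (B ⊗[A] M) := hM.baseChange B (by
    rw [← AdicCompletion.maximalIdeal_eq_map]; exact Ideal.le_radical)
  haveI : Algebra.Etale B (B ⊗[A] M) := hP (B ⊗[A] M) hBM ⟨algebraMap A B x, algebraMap A B y,
    by rw [AdicCompletion.maximalIdeal_eq_map]; exact Ideal.mem_map_of_mem _ hx,
    by rw [AdicCompletion.maximalIdeal_eq_map]; exact Ideal.mem_map_of_mem _ hy, by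
      haveI : Module.Flat M (M ⊗[A] B) := inferInstance
      have h1 := (hp.map (M ⊗[A] B)).of_ringEquiv (Algebra.TensorProduct.comm A M B).toRingEquiv
      have e : ∀ z : A, (Algebra.TensorProduct.comm A M B).toRingEquiv (algebraMap A (M ⊗[A] B) z) = algebraMap A (B ⊗[A] M) z :=
        fun z => (Algebra.TensorProduct.comm A M B).commutes z
      rw [← IsScalarTower.algebraMap_apply, ← IsScalarTower.algebraMap_apply, e, e] at h1
      rw [← IsScalarTower.algebraMap_apply, ← IsScalarTower.algebraMap_apply]
      exact h1⟩
  exact Algebra.Etale.of_etale_tensorProduct_of_faithfullyFlat (R := A) B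

end Groth.Agent.PurityReg
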