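import Groth.Agent.PurityReg.Descent
import Groth.Agent.FEtLib.Depth2
import Groth.Prelude.Def_FEt
import Mathlib

/-!
# Purity: from algebras to finite etale covers of the punctured spectrum
-/

set_option autoImplicit false
set_option backward.isDefEq.respectTransparency false
set_option backward.isDefEq.respectTransparency.types false
set_option linter.style.haveILetI false

noncomputable section

universe u

open IsLocalRing TensorProduct AlgebraicGeometry CategoryTheory CategoryTheory.Limits TopologicalSpace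

namespace Groth.Agent.PurityReg

theorem regPair_of_away {A : Type u} [CommRing A] [IsLocalRing A] {M : Type u} [CommRing M] [Algebra A M]
    (h : FEtOff A M) {f : A} (hf : f ∈ maximalIdeal A) (L : Type u) [CommRing L] [Algebra M L] [Algebra A L]
    [IsScalarTower A M L] [IsLocalization.Away (algebraMap A M f) L] {x y : A} (hp : RegPair x y) :
    RegPair (algebraMap A L x) (algebraMap A L y) := by
  haveI := h.flat hf
  let Af := Localization.Away f
  have hu : IsUnit (algebraMap A L f) := by
    rw [IsScalarTower.algebraMap_apply A M L]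
    exact IsLocalization.Away.algebraMap_isUnit _
  letI : Algebra Af L := (IsLocalization.Away.lift f (g := algebraMap A L) hu).toAlgebra
  haveI : IsScalarTower A Af L := IsScalarTower.of_algebraMap_eq fun z =>
    (IsLocalization.Away.lift_eq f hu z).symm
  haveI : IsLocalization (Algebra.algebraMapSubmonoid M (Submonoid.powers f)) L := by
    rw [Algebra.algebraMapSubmonoid, Submonoid.map_powers]
    infer_instance
  haveI : Algebra.IsPushout A Af M L :=
    .symm <| Algebra.isPushout_of_isLocalization (Submonoid.powers f) Af M L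
  let e := Algebra.IsPushout.equiv A Af M L
  have h1 := (hp.map (Af ⊗[A] M)).of_ringEquiv e.toRingEquiv
  have he : ∀ z : A, e.toRingEquiv (algebraMap A (Af ⊗[A] M) z) = algebraMap A L z := fun z => by
    rw [IsScalarTower.algebraMap_apply A Af (Af ⊗[A] M), IsScalarTower.algebraMap_apply A Af L]
    exact e.commutes _
  rwa [he, he] at h1

section Cover

variable {A : Type u} [CommRing A] [IsNoetherianRing A] [IsLocalRing A] {W : Scheme.{u}}
  (q : W ⟶ Spec (CommRingCat.of A))

/-- structure map on global sections -/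
abbrev structMap : CommRingCat.of A ⟶ Γ(W, ⊤) := (Scheme.ΓSpecIso (CommRingCat.of A)).inv ≫ q.appTop

omit [IsNoetherianRing A] [IsLocalRing A] in
theorem basicOpen_structMap (f : A) :
    W.basicOpen (structMap q f) = q ⁻¹ᵁ (PrimeSpectrum.basicOpen f) := by
  rw [← basicOpen_eq_of_affine (R := CommRingCat.of A) f, Scheme.preimage_basicOpen_top]
  rfl

omit [IsNoetherianRing A] in
theorem iSup_basicOpen_eq_top (hq : ∀ w : W, q w ≠ closedPoint A) :
    (⊤ : W.Opens) ≤ ⨆ f : maximalIdeal A, W.basicOpen (structMap q f.1) := by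
  intro w _
  obtain ⟨f, hfm, hfp⟩ := exists_notMem (PrimeSpectrum.asIdeal (q w)) (fun h => hq w (PrimeSpectrum.ext h))
  refine Opens.mem_iSup.2 ⟨⟨f, hfm⟩, ?_⟩
  rw [basicOpen_structMap]
  exact hfp

variable [Algebra A Γ(W, ⊤)] (halg : algebraMap A Γ(W, ⊤) = (structMap q).hom) (hFE : FEtOff A Γ(W, ⊤))
  [CompactSpace W] [QuasiSeparatedSpace W]

include halg hFE in
omit [IsNoetherianRing A] in
theorem regPair_basicOpen {x y : A} (hp : RegPair x y) {f : A} (hf : f ∈ maximalIdeal A) (O : W.Opens)
    (hO : O = W.basicOpen (structMap q f)) :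
    RegPair (W.presheaf.map (homOfLE (le_top : O ≤ ⊤)).op (algebraMap A Γ(W, ⊤) x))
      (W.presheaf.map (homOfLE (le_top : O ≤ ⊤)).op (algebraMap A Γ(W, ⊤) y)) := by
  subst hO
  let L := Γ(W, W.basicOpen (structMap q f))
  let r : Γ(W, ⊤) →+* L := (W.presheaf.map (homOfLE le_top).op).hom
  letI : Algebra Γ(W, ⊤) L := r.toAlgebra
  letI : Algebra A L := (r.comp (algebraMap A Γ(W, ⊤))).toAlgebra
  haveI : IsScalarTower A Γ(W, ⊤) L := IsScalarTower.of_algebraMap_eq' rfl
  haveI : IsLocalization.Away (algebraMap A Γ(W, ⊤) f) L := by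
    rw [halg]
    exact isLocalization_basicOpen_of_qcqs isCompact_univ isQuasiSeparated_univ _
  exact regPair_of_away hFE hf L hp

include halg hFE in
omit [IsNoetherianRing A] in
/-- regular pairs of the base are regular pairs of global sections -/
theorem regPair_gamma (hq : ∀ w : W, q w ≠ closedPoint A) {x y : A} (hp : RegPair x y) :
    RegPair (algebraMap A Γ(W, ⊤) x) (algebraMap A Γ(W, ⊤) y) := by
  let U : maximalIdeal A → W.Opens := fun f => W.basicOpen (structMap q f.1)
  have hcov := iSup_basicOpen_eq_top q hq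
  have hP := fun f : maximalIdeal A => regPair_basicOpen q halg hFE hp f.2 (U f) rfl
  refine ⟨fun w hw => ?_, fun w hw => ?_⟩
  · refine TopCat.Sheaf.eq_of_locally_eq' W.sheaf U ⊤ (fun _ => homOfLE le_top) hcov w 0 fun f => ?_
    show W.presheaf.map (homOfLE (le_top : U f ≤ ⊤)).op w = W.presheaf.map (homOfLE (le_top : U f ≤ ⊤)).op 0
    rw [(hP f).reg _ ((map_mul _ _ _).symm.trans ((congrArg _ hw).trans (map_zero _))), map_zero]
  · have hloc : ∀ f : maximalIdeal A, ∃ z : Γ(W, U f),
        W.presheaf.map (homOfLE (le_top : U f ≤ ⊤)).op w =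
          W.presheaf.map (homOfLE (le_top : U f ≤ ⊤)).op (algebraMap A Γ(W, ⊤) x) * z := fun f => by
      refine (hP f).div _ ?_
      rw [← map_mul]
      exact map_dvd (W.presheaf.map _).hom hw
    choose z hz using hloc
    have hcomp : TopCat.Presheaf.IsCompatible W.sheaf.1 U z := fun f g => by
      have hO : U f ⊓ U g = W.basicOpen (structMap q (f.1 * g.1)) := by
        rw [map_mul, Scheme.basicOpen_mul]
      have hfg := regPair_basicOpen q halg hFE hp (Ideal.mul_mem_right g.1 _ f.2) (U f ⊓ U g) hO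
      refine sub_eq_zero.1 (hfg.reg _ ?_)
      have h1 := congrArg (W.presheaf.map (homOfLE (inf_le_left : U f ⊓ U g ≤ U f)).op) (hz f)
      have h2 := congrArg (W.presheaf.map (homOfLE (inf_le_right : U f ⊓ U g ≤ U g)).op) (hz g)
      simp only [map_mul, ← ConcreteCategory.comp_apply, ← Functor.map_comp, ← op_comp, homOfLE_comp] at h1 h2
      rw [mul_sub, sub_eq_zero]
      exact h1.symm.trans h2
    obtain ⟨(s : Γ(W, ⊤)), hs, -⟩ := TopCat.Sheaf.existsUnique_gluing' W.sheaf U ⊤ (fun _ => homOfLE le_top) hcov z hcomp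
    refine ⟨s, TopCat.Sheaf.eq_of_locally_eq' W.sheaf U ⊤ (fun _ => homOfLE le_top) hcov _ _ fun f => ?_⟩
    have hs' : W.presheaf.map (homOfLE (le_top : U f ≤ ⊤)).op s = z f := hs f
    show W.presheaf.map (homOfLE (le_top : U f ≤ ⊤)).op w = W.presheaf.map (homOfLE (le_top : U f ≤ ⊤)).op (algebraMap A Γ(W, ⊤) x * (s : Γ(W, ⊤)))
    rw [map_mul, hs']
    exact hz f

end Cover

/-- purity for algebras gives purity for covers of the punctured spectrum -/
theorem purityHolds_of_pure {A : Type u} [CommRing A] [IsNoetherianRing A] [IsLocalRing A]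
    (hA : (2 : ℕ∞) ≤ LocCoh.depth A A) (hP : Pure A) : FEt.PurityHolds A := by
  haveI : IsNoetherianRing (CommRingCat.of A) := ‹IsNoetherianRing A›
  let U := FEt.puncturedSpec A
  haveI : CompactSpace U := isCompact_iff_compactSpace.mp (TopologicalSpace.NoetherianSpace.isCompact _)
  haveI : IsIso U.ι.appTop := by
    refine FEtLib.HasRegSeq2.res_bijective_appTop (FEtLib.hasRegSeq2_spec U fun p hp => ?_)
    have hp' : p = closedPoint A := not_not.mp hp
    subst hp'
    obtain ⟨rs, hl, hm, hr⟩ := (Depth.le_idealDepth_iff_exists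
      (Depth.smul_top_ne_top_self (IsLocalRing.maximalIdeal.isMaximal A).ne_top) (n := 2)).mp hA
    refine (Depth.le_idealDepth_iff_exists
      (Depth.smul_top_ne_top_self (IsLocalRing.maximalIdeal.isMaximal _).ne_top) (n := 2)).mpr
      ⟨rs.map (algebraMap A _), by simpa using hl, ?_, RingTheory.Sequence.IsWeaklyRegular.of_flat hr⟩
    intro r hr'
    obtain ⟨a, ha, rfl⟩ := List.mem_map.mp hr'
    exact (IsLocalization.AtPrime.to_map_mem_maximal_iff _ (closedPoint A).asIdeal a).mpr (hm a ha)
  haveI : U.toScheme.IsQuasiAffine := Scheme.IsQuasiAffine.of_isImmersion U.ι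
  refine ⟨fun V => ?_⟩
  let g : V.left ⟶ U.toScheme := V.hom
  haveI : IsFinite g := V.prop.1
  haveI : Etale g := V.prop.2
  haveI : CompactSpace V.left := QuasiCompact.compactSpace_of_compactSpace g
  haveI : V.left.IsQuasiAffine := Scheme.IsQuasiAffine.of_isAffineHom g
  let q : V.left ⟶ Spec (CommRingCat.of A) := g ≫ U.ι
  have hq : ∀ w : V.left, q w ≠ closedPoint A := fun w => (g w).2
  let φ := structMap q
  letI : Algebra A Γ(V.left, ⊤) := φ.hom.toAlgebra
  have hι : U.toScheme.toSpecΓ ≫ Spec.map ((Scheme.ΓSpecIso (CommRingCat.of A)).inv ≫ U.ι.appTop) = U.ι := by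
    rw [Spec.map_comp, ← Category.assoc, ← Scheme.toSpecΓ_naturality, Category.assoc,
      ← SpecMap_ΓSpecIso_hom, ← Spec.map_comp, Iso.inv_hom_id, Spec.map_id, Category.comp_id]
  have P : IsPullback g V.left.toSpecΓ U.ι (Spec.map φ) := by
    haveI : IsIso ((Scheme.ΓSpecIso (CommRingCat.of A)).inv ≫ U.ι.appTop) := inferInstance
    refine (Scheme.isPullback_toSpecΓ_toSpecΓ g).of_iso (Iso.refl _) (Iso.refl _) (Iso.refl _)
      (asIso (Spec.map ((Scheme.ΓSpecIso (CommRingCat.of A)).inv ≫ U.ι.appTop))) (by simp) (by simp) ?_ ?_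
    · simpa using hι
    · simp only [Iso.refl_hom, Category.id_comp, asIso_hom, ← Spec.map_comp, φ, structMap, q,
        Scheme.Hom.comp_appTop, Category.assoc]
  have hFE : FEtOff A Γ(V.left, ⊤) := fun f hf => by
    let Af := Localization.Away f
    let j := Spec.map (CommRingCat.ofHom (algebraMap A Af))
    have hj : Set.range j ⊆ Set.range U.ι := by
      rintro _ ⟨p, rfl⟩
      rw [Scheme.Opens.range_ι]
      intro hp
      have h1 : PrimeSpectrum.comap (algebraMap A Af) p = closedPoint A := hp
      have h2 : f ∈ PrimeSpectrum.asIdeal (PrimeSpectrum.comap (algebraMap A Af) p) := by rw [h1]; exact hf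
      exact p.isPrime.ne_top (Ideal.eq_top_of_isUnit_mem _ h2 (IsLocalization.Away.algebraMap_isUnit f))
    let l := IsOpenImmersion.lift U.ι j hj
    have hlj : l ≫ U.ι = j := IsOpenImmersion.lift_fac _ _ _
    have Q : IsPullback (pullback.snd g l) (pullback.fst g l ≫ V.left.toSpecΓ) j (Spec.map φ) := by
      rw [← hlj]
      exact (IsPullback.of_hasPullback g l).flip.paste_vert P
    have h1 : FEt.prop (pullback.snd g l) := MorphismProperty.pullback_snd g l V.prop
    have h2 : FEt.prop (pullback.fst j (Spec.map φ)) := by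
      rw [← Q.isoPullback_inv_fst]
      exact (MorphismProperty.cancel_left_of_respectsIso FEt.prop _ _).2 h1
    have h3 : FEt.prop (Spec.map (CommRingCat.ofHom (algebraMap Af (Af ⊗[A] Γ(V.left, ⊤))))) := by
      rw [← pullbackSpecIso_inv_fst']
      exact (MorphismProperty.cancel_left_of_respectsIso FEt.prop _ _).2 h2
    exact ⟨RingHom.finite_algebraMap.1 ((IsFinite.SpecMap_iff _).1 h3.1),
      RingHom.etale_algebraMap.1 ((HasRingHomProperty.Spec_iff (P := @Etale)).1 h3.2)⟩
  obtain ⟨x, y, hx, hy, hp⟩ := exists_regPair hA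
  have hS : Sat A Γ(V.left, ⊤) := ⟨x, y, hx, hy, regPair_gamma q rfl hFE hq hp⟩
  haveI : Module.Finite A Γ(V.left, ⊤) := finite_of_fEtOff _ (ParaFUFD.ores_punctured_bijective hA) hFE
    fun w hw => eq_zero_of_away hx (regPair_gamma q rfl hFE hq hp).reg hw
  haveI : Algebra.Etale A Γ(V.left, ⊤) := hP _ hFE hS
  let Y : FEt.Cat (Spec (CommRingCat.of A)) := MorphismProperty.Over.mk ⊤ (Spec.map φ)
    ⟨(IsFinite.SpecMap_iff _).2 (RingHom.finite_algebraMap.2 inferInstance),
      (HasRingHomProperty.Spec_iff (P := @Etale)).2 (RingHom.etale_algebraMap.2 inferInstance)⟩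
  refine ⟨Y, ⟨MorphismProperty.Over.isoMk P.flip.isoPullback.symm ?_⟩⟩
  exact P.flip.isoPullback_inv_snd

end Groth.Agent.PurityReg
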