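import Groth.Agent.PurityReg.Spread
import Groth.Prelude.Def_FEt
import Mathlib

/-!
# Spreading out morphisms and isomorphisms of finite etale covers
-/

set_option autoImplicit false
set_option backward.isDefEq.respectTransparency false
set_option backward.isDefEq.respectTransparency.types false
set_option linter.style.haveILetI false
set_option maxHeartbeats 1000000

noncomputable section

universe u

open AlgebraicGeometry CategoryTheory CategoryTheory.Limits TopologicalSpace TensorProduct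

namespace Groth.Agent.PurityReg

/-- the morphism to an affine scheme given by a map on global sections -/
abbrev toSpec {Y : Scheme.{u}} {E : CommRingCat.{u}} (f : E ⟶ Γ(Y, ⊤)) : Y ⟶ Spec E :=
  Y.toSpecΓ ≫ Spec.map f

theorem comp_toSpec {Y Y' : Scheme.{u}} (k : Y' ⟶ Y) {E : CommRingCat.{u}} (f : E ⟶ Γ(Y, ⊤)) :
    k ≫ toSpec f = toSpec (f ≫ k.appTop) := by
  rw [toSpec, toSpec, ← Category.assoc, Scheme.toSpecΓ_naturality, Category.assoc, ← Spec.map_comp]

theorem toSpec_comp {Y : Scheme.{u}} {E E' : CommRingCat.{u}} (f : E ⟶ Γ(Y, ⊤)) (φ : E' ⟶ E) :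
    toSpec f ≫ Spec.map φ = toSpec (φ ≫ f) := by
  rw [toSpec, toSpec, Category.assoc, ← Spec.map_comp]

theorem eq_toSpec {Y : Scheme.{u}} {E : CommRingCat.{u}} (m : Y ⟶ Spec E) :
    m = toSpec ((Scheme.ΓSpecIso E).inv ≫ m.appTop) := by
  rw [← comp_toSpec, toSpec, ← SpecMap_ΓSpecIso_hom, ← Spec.map_comp, Iso.inv_hom_id, Spec.map_id,
    Category.comp_id]

/-- a morphism defined over a local ring spreads to a basic open -/
theorem exists_hom_spread {R A : Type u} [CommRing R] [CommRing A] [Algebra R A] (S : Submonoid R) [IsLocalization S A]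
    {T : Scheme.{u}} (t : T ⟶ Spec (CommRingCat.of R)) [CompactSpace T] [QuasiSeparatedSpace T]
    {E : Type u} [CommRing E] [Algebra R E] [Algebra.FinitePresentation R E]
    (m : pullback t (Spec.map (CommRingCat.ofHom (algebraMap R A))) ⟶ Spec (CommRingCat.of E))
    (hm : m ≫ Spec.map (CommRingCat.ofHom (algebraMap R E)) = pullback.fst _ _ ≫ t) :
    ∃ r ∈ S, ∃ (Tr : T.Opens) (_ : Tr = t ⁻¹ᵁ PrimeSpectrum.basicOpen r) (m' : Tr.toScheme ⟶ Spec (CommRingCat.of E))
      (c : pullback t (Spec.map (CommRingCat.ofHom (algebraMap R A))) ⟶ Tr.toScheme),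
      m' ≫ Spec.map (CommRingCat.ofHom (algebraMap R E)) = Tr.ι ≫ t ∧ c ≫ Tr.ι = pullback.fst _ _ ∧ c ≫ m' = m := by
  let s := Spec.map (CommRingCat.ofHom (algebraMap R A))
  let TA := pullback t s
  haveI : Flat s := by
    haveI : Module.Flat R A := IsLocalization.flat A S
    exact (HasRingHomProperty.Spec_iff (P := @Flat)).2 (RingHom.flat_algebraMap_iff.2 inferInstance)
  let φR : CommRingCat.of R ⟶ Γ(T, ⊤) := (Scheme.ΓSpecIso (CommRingCat.of R)).inv ≫ t.appTop
  let φA : CommRingCat.of A ⟶ Γ(TA, ⊤) := (Scheme.ΓSpecIso (CommRingCat.of A)).inv ≫ (pullback.snd t s).appTop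
  let p₁ : Γ(T, ⊤) ⟶ Γ(TA, ⊤) := (pullback.fst t s).appTop
  have hsq : φR ≫ p₁ = CommRingCat.ofHom (algebraMap R A) ≫ φA := by
    simp only [φR, φA, p₁, Category.assoc]
    rw [← Scheme.Hom.comp_appTop, pullback.condition, Scheme.Hom.comp_appTop, ← Category.assoc, ← Category.assoc,
      Scheme.ΓSpecIso_inv_naturality]
  have hpo : IsPushout φR (CommRingCat.ofHom (algebraMap R A)) p₁ φA := by
    have h := (isIso_pushoutSection_iff (IsPullback.of_hasPullback t s) (US := ⊤) (UT := ⊤) (UX := ⊤) (UY := ⊤)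
      (by simp) (by simp) (by simp)).1 (isIso_pushoutSection_of_isQuasiSeparated_of_flat_right _ _ _ _
        (isAffineOpen_top _) (isAffineOpen_top _) isCompact_univ isQuasiSeparated_univ)
    refine h.of_iso (Scheme.ΓSpecIso _) (Iso.refl _) (Scheme.ΓSpecIso _) (Iso.refl _) ?_ ?_ ?_ ?_
    · simp [φR, Scheme.Hom.appTop, Scheme.Hom.app_eq_appLE]
    · rw [← Scheme.ΓSpecIso_naturality]
      simp [s, Scheme.Hom.appTop, Scheme.Hom.app_eq_appLE]
    · simp [p₁, Scheme.Hom.appTop, Scheme.Hom.app_eq_appLE]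
    · simp [φA, Scheme.Hom.appTop, Scheme.Hom.app_eq_appLE]
  let φM : R →+* Γ(T, ⊤) := φR.hom
  letI : Algebra R Γ(T, ⊤) := φM.toAlgebra
  letI : Algebra Γ(T, ⊤) Γ(TA, ⊤) := p₁.hom.toAlgebra
  letI : Algebra A Γ(TA, ⊤) := φA.hom.toAlgebra
  letI : Algebra R Γ(TA, ⊤) := (p₁.hom.comp φM).toAlgebra
  haveI : IsScalarTower R Γ(T, ⊤) Γ(TA, ⊤) := IsScalarTower.of_algebraMap_eq' rfl
  haveI : IsScalarTower R A Γ(TA, ⊤) := IsScalarTower.of_algebraMap_eq fun z => congr($(hsq) z)
  haveI : Algebra.IsPushout R Γ(T, ⊤) A Γ(TA, ⊤) := CommRingCat.isPushout_iff_isPushout.1 hpo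
  haveI : IsLocalization (Algebra.algebraMapSubmonoid Γ(T, ⊤) S) Γ(TA, ⊤) :=
    (Algebra.isLocalization_iff_isPushout S A).2 inferInstance
  let b : CommRingCat.of E ⟶ Γ(TA, ⊤) := (Scheme.ΓSpecIso (CommRingCat.of E)).inv ≫ m.appTop
  have hb : CommRingCat.ofHom (algebraMap R E) ≫ b = φR ≫ p₁ := by
    simp only [b, φR, p₁, Category.assoc]
    rw [← Scheme.Hom.comp_appTop, ← hm, Scheme.Hom.comp_appTop, ← Category.assoc, ← Category.assoc,
      Scheme.ΓSpecIso_inv_naturality]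
  let β : E →ₐ[R] Γ(TA, ⊤) := { b.hom with commutes' := fun z => congr($(hb) z) }
  obtain ⟨r, hr, H⟩ := exists_away_lift (M := Γ(T, ⊤)) S β
  let Tr := T.basicOpen (φR r)
  have hTr : Tr = t ⁻¹ᵁ PrimeSpectrum.basicOpen r := by
    rw [← basicOpen_eq_of_affine (R := CommRingCat.of R) r, Scheme.preimage_basicOpen_top]
    rfl
  have hc : Set.range (pullback.fst t s) ⊆ Set.range Tr.ι := by
    rintro _ ⟨z, rfl⟩
    rw [Scheme.Opens.range_ι, hTr]
    show (pullback.fst t s ≫ t) z ∈ PrimeSpectrum.basicOpen r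
    rw [pullback.condition]
    intro hmem
    exact (PrimeSpectrum.isPrime (pullback.snd t s z)).ne_top (Ideal.eq_top_of_isUnit_mem _
      (show algebraMap R A r ∈ PrimeSpectrum.asIdeal (pullback.snd t s z) from hmem) (IsLocalization.map_units A (⟨r, hr⟩ : S)))
  let c : TA ⟶ Tr.toScheme := IsOpenImmersion.lift Tr.ι (pullback.fst t s) hc
  have hcι : c ≫ Tr.ι = pullback.fst t s := IsOpenImmersion.lift_fac _ _ _
  let res : Γ(T, ⊤) ⟶ Γ(Tr.toScheme, ⊤) := Tr.ι.appTop
  let L := Γ(Tr.toScheme, ⊤)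
  letI : Algebra Γ(T, ⊤) L := res.hom.toAlgebra
  letI : Algebra R L := (res.hom.comp φM).toAlgebra
  haveI : IsScalarTower R Γ(T, ⊤) L := IsScalarTower.of_algebraMap_eq' rfl
  haveI : IsLocalization.Away (algebraMap R Γ(T, ⊤) r) L := by
    haveI : IsLocalization.Away (φR r) Γ(T, T.basicOpen (φR r)) :=
      isLocalization_basicOpen_of_qcqs isCompact_univ isQuasiSeparated_univ (φR r)
    refine IsLocalization.isLocalization_of_algEquiv (S := Γ(T, T.basicOpen (φR r))) (Submonoid.powers _)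
      (AlgEquiv.ofRingEquiv (f := Tr.topIso.symm.commRingCatIsoToRingEquiv) fun z => ?_)
    show (T.presheaf.map (homOfLE le_top).op ≫ Tr.topIso.inv) z = res z
    congr 2
    simp [res, Scheme.Hom.appTop, Scheme.Opens.topIso, ← Functor.map_comp]
  let ψ : L →ₐ[Γ(T, ⊤)] Γ(TA, ⊤) := { c.appTop.hom with
    commutes' := fun z => congr($((Scheme.Hom.comp_appTop c Tr.ι).symm.trans (congrArg Scheme.Hom.appTop hcι)) z) }
  obtain ⟨γ, hγ⟩ := H L ψ
  let m' : Tr.toScheme ⟶ Spec (CommRingCat.of E) := toSpec (CommRingCat.ofHom γ.toRingHom)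
  refine ⟨r, hr, Tr, hTr, m', c, ?_, hcι, ?_⟩
  · rw [toSpec_comp, eq_toSpec (Tr.ι ≫ t)]
    congr 1
    rw [Scheme.Hom.comp_appTop, ← Category.assoc]
    exact CommRingCat.hom_ext (RingHom.ext fun z => γ.commutes z)
  · rw [eq_toSpec m, comp_toSpec]
    congr 1
    exact CommRingCat.hom_ext (RingHom.ext fun z => hγ z)

/-- a map of finite etale covers that has rank one over an open is an isomorphism there -/
theorem isPullback_of_finrank {O O₁ T₁ T₂ : Scheme.{u}} {g₁ : T₁ ⟶ O} {g₂ : T₂ ⟶ O} (hg₁ : FEt.prop g₁)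
    (hg₂ : FEt.prop g₂) (h : T₁ ⟶ T₂) (hh : h ≫ g₂ = g₁) (k : O₁ ⟶ O)
    (hr : ∀ z : T₂, g₂ z ∈ Set.range k → h.finrank z = 1) :
    IsPullback (pullback.fst g₁ k ≫ h) (pullback.snd g₁ k) g₂ k := by
  haveI := hg₁.1
  haveI := hg₁.2
  haveI := hg₂.1
  haveI := hg₂.2
  haveI : IsFinite (h ≫ g₂) := by rw [hh]; infer_instance
  haveI : Etale (h ≫ g₂) := by rw [hh]; infer_instance
  haveI : IsFinite h := IsFinite.of_comp h g₂
  haveI : Etale h := Etale.of_comp h g₂
  have w : (pullback.fst g₁ k ≫ h) ≫ g₂ = pullback.snd g₁ k ≫ k := by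
    rw [Category.assoc, hh, pullback.condition]
  let e : pullback g₁ k ⟶ pullback g₂ k := pullback.lift _ _ w
  have hsq : IsPullback (pullback.fst g₁ k) e h (pullback.fst g₂ k) := by
    refine IsPullback.of_bot ?_ (pullback.lift_fst _ _ _).symm (IsPullback.of_hasPullback g₂ k)
    rw [hh, pullback.lift_snd]
    exact IsPullback.of_hasPullback g₁ k
  haveI : IsFinite e := MorphismProperty.of_isPullback (P := @IsFinite) hsq inferInstance
  haveI : Etale e := MorphismProperty.of_isPullback (P := @Etale) hsq inferInstance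
  haveI : IsIso e := by
    rw [Scheme.Hom.isIso_iff_finrank_eq]
    ext y
    rw [Scheme.Hom.finrank_of_isPullback _ _ _ _ hsq]
    exact hr _ ⟨pullback.snd g₂ k y, (congr($(pullback.condition (f := g₂) (g := k)) y)).symm⟩
  exact (IsPullback.of_hasPullback g₂ k).of_iso (asIso e).symm (Iso.refl _) (Iso.refl _) (Iso.refl _)
    (by simp [e]) (by simp [e]) (by simp) (by simp)

end Groth.Agent.PurityReg
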