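import Groth.Agent.PurityReg.FormalGlue
import Groth.Agent.PurityReg.Nbhd

/-! Formal glueing of finite étale covers along the completion of a local ring. -/

set_option autoImplicit false
set_option backward.isDefEq.respectTransparency false
set_option backward.isDefEq.respectTransparency.types false
set_option linter.style.haveILetI false

noncomputable section

universe u

open IsLocalRing TensorProduct AlgebraicGeometry CategoryTheory CategoryTheory.Limits TopologicalSpace

namespace Groth.Agent.PurityReg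

/-- sections over a basic open inside an open subscheme of an affine scheme -/
theorem sections_openImmersion {P Q : Scheme.{u}} (ψ : P ⟶ Q) [IsOpenImmersion ψ] [IsAffine Q]
    [CompactSpace P] [QuasiSeparatedSpace P] (b : Γ(Q, ⊤)) (hb : Q.basicOpen b ≤ ψ.opensRange) :
    (∀ x : Γ(P, ⊤), ∃ (n : ℕ) (y : Γ(Q, ⊤)), ψ.appTop y = ψ.appTop b ^ n * x) ∧
    (∀ y : Γ(Q, ⊤), ψ.appTop y = 0 → ∃ n : ℕ, b ^ n * y = 0) := by
  let D := Q.basicOpen b
  have hD : ψ ⁻¹ᵁ D = P.basicOpen (ψ.appTop b) := Scheme.preimage_basicOpen ψ b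
  haveI : IsIso (ψ.app D) := ψ.isIso_app D hb
  have hnat : ∀ y : Γ(Q, ⊤), ψ.app D (Q.presheaf.map (homOfLE le_top).op y) =
      P.presheaf.map (homOfLE (le_top : ψ ⁻¹ᵁ D ≤ ⊤)).op (ψ.appTop y) := fun y =>
    (ConcreteCategory.congr_hom (ψ.naturality (homOfLE (le_top : D ≤ ⊤)).op) y)
  haveI := (isAffineOpen_top Q).isLocalization_basicOpen b
  have hP := isLocalization_basicOpen_of_qcqs (X := P) (U := ⊤) (isCompact_univ) (isQuasiSeparated_univ)
    (ψ.appTop b)
  have hkill : ∀ z : Γ(P, ⊤), P.presheaf.map (homOfLE (le_top : ψ ⁻¹ᵁ D ≤ ⊤)).op z = 0 →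
      ∃ n : ℕ, ψ.appTop b ^ n * z = 0 := by
    intro z hz
    have hz' : algebraMap Γ(P, ⊤) Γ(P, P.basicOpen (ψ.appTop b)) z = 0 := by
      have h1 := congrArg (P.presheaf.map (eqToHom hD.symm).op) hz
      rw [map_zero, ← CategoryTheory.comp_apply, ← Functor.map_comp] at h1
      exact h1
    obtain ⟨⟨_, n, rfl⟩, hn⟩ := (IsLocalization.map_eq_zero_iff (Submonoid.powers (ψ.appTop b)) _ z).1 hz'
    exact ⟨n, hn⟩
  refine ⟨fun x => ?_, fun y hy => ?_⟩
  · obtain ⟨w, hw⟩ := (ConcreteCategory.bijective_of_isIso (ψ.app D)).2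
      (P.presheaf.map (homOfLE (le_top : ψ ⁻¹ᵁ D ≤ ⊤)).op x)
    obtain ⟨⟨y, _, n, rfl⟩, hy⟩ := IsLocalization.surj (Submonoid.powers b) w
    have h1 := congrArg (ψ.app D) hy
    erw [map_mul, hw, hnat, hnat, ← map_mul, eq_comm, ← sub_eq_zero, ← map_sub] at h1
    obtain ⟨k, hk⟩ := hkill _ h1
    refine ⟨k + n, b ^ k * y, ?_⟩
    rw [mul_sub, sub_eq_zero] at hk
    rw [map_mul, map_pow, hk, map_pow, pow_add]
    ring
  · have h0 : Q.presheaf.map (homOfLE (le_top : D ≤ ⊤)).op y = 0 :=
      (ConcreteCategory.bijective_of_isIso (ψ.app D)).1 (by rw [hnat, hy, map_zero, map_zero])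
    obtain ⟨⟨_, n, rfl⟩, hn⟩ := (IsLocalization.map_eq_zero_iff (Submonoid.powers b) Γ(Q, D) y).1 h0
    exact ⟨n, hn⟩

/-- if each element of a finitely generated ideal has a power in `J`, so does the ideal -/
theorem exists_pow_le_of_forall {A : Type u} [CommRing A] {I J : Ideal A} (hI : I.FG)
    (h : ∀ a ∈ I, ∃ n : ℕ, a ^ n ∈ J) : ∃ N : ℕ, ∀ a ∈ I ^ N, a ∈ J :=
  Ideal.exists_pow_le_of_le_radical_of_fg (fun a ha => h a ha) hI

variable (A : Type u) [CommRing A] [IsLocalRing A] (R : Type u) [CommRing R] [Algebra A R]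

local notation "σ" => Spec.map (CommRingCat.ofHom (algebraMap A R))
local notation "U₀" => FEt.puncturedSpec A

/-- a cover extending over `Spec A` extends over `Spec R` -/
theorem extends_baseChange (V : FEt.Cat (U₀ : Scheme.{u})) (Y : FEt.Cat (Spec (CommRingCat.of A)))
    (e : (FEt.restrict (U₀).ι).obj Y ≅ V) :
    ∃ Y' : FEt.Cat (Spec (CommRingCat.of R)),
      Nonempty ((FEt.restrict (pullback.snd (U₀).ι σ)).obj Y' ≅
        (FEt.restrict (pullback.fst (U₀).ι σ)).obj V) := by
  refine ⟨(FEt.restrict σ).obj Y, ⟨?_⟩⟩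
  let Y' := pullback Y.hom σ
  let g' : Y' ⟶ Spec (CommRingCat.of R) := pullback.snd Y.hom σ
  let ψ := pullback.fst g' (pullback.snd (U₀).ι σ)
  let s := pullback.snd g' (pullback.snd (U₀).ι σ)
  let i : V.left ≅ pullback Y.hom (U₀).ι :=
    (MorphismProperty.Over.forget _ _ _ ⋙ Over.forget _).mapIso e.symm
  have hi : i.hom ≫ pullback.snd Y.hom (U₀).ι = V.hom := MorphismProperty.Over.w e.inv
  have paste : IsPullback (ψ ≫ pullback.fst Y.hom σ) s Y.hom (pullback.fst (U₀).ι σ ≫ (U₀).ι) := by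
    rw [pullback.condition]
    exact (IsPullback.of_hasPullback g' (pullback.snd (U₀).ι σ)).paste_horiz
      (IsPullback.of_hasPullback Y.hom σ)
  let m := pullback.lift (ψ ≫ pullback.fst Y.hom σ) (s ≫ pullback.fst (U₀).ι σ)
    (paste.w.trans (Category.assoc _ _ _).symm)
  have hm : IsPullback m s (pullback.snd Y.hom (U₀).ι) (pullback.fst (U₀).ι σ) :=
    IsPullback.of_right (by rw [pullback.lift_fst]; exact paste) (pullback.lift_snd _ _ _)
      (IsPullback.of_hasPullback Y.hom (U₀).ι)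
  have hV : IsPullback (m ≫ i.inv) s V.hom (pullback.fst (U₀).ι σ) :=
    hm.of_iso (Iso.refl _) i.symm (Iso.refl _) (Iso.refl _) (by simp) (by simp)
      (by simp [← hi]) (by simp)
  exact MorphismProperty.Over.isoMk hV.isoPullback hV.isoPullback_hom_snd

variable [IsNoetherianRing A] [Module.FaithfullyFlat A R]

set_option maxHeartbeats 2000000 in
/-- a cover extending over `Spec R` extends over `Spec A` -/
theorem extends_of_baseChange
    (hs : ∀ (r : R) (N : ℕ), ∃ a : A, r - algebraMap A R a ∈ (maximalIdeal A ^ N).map (algebraMap A R))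
    (V : FEt.Cat (U₀ : Scheme.{u})) (Y' : FEt.Cat (Spec (CommRingCat.of R)))
    (e : (FEt.restrict (pullback.snd (U₀).ι σ)).obj Y' ≅
      (FEt.restrict (pullback.fst (U₀).ι σ)).obj V) :
    ∃ Y : FEt.Cat (Spec (CommRingCat.of A)), Nonempty ((FEt.restrict (U₀).ι).obj Y ≅ V) := by
  haveI : IsNoetherianRing (CommRingCat.of A) := ‹IsNoetherianRing A›
  haveI : Flat σ := (HasRingHomProperty.Spec_iff (P := @Flat)).2
    (RingHom.flat_algebraMap_iff.2 inferInstance)
  haveI : Surjective σ := ⟨PrimeSpectrum.comap_surjective_of_faithfullyFlat⟩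
  let p := pullback.fst (U₀).ι σ
  let σ' := pullback.snd (U₀).ι σ
  haveI : CompactSpace (U₀ : Scheme.{u}) :=
    isCompact_iff_compactSpace.mp (TopologicalSpace.NoetherianSpace.isCompact _)
  haveI : QuasiCompact (U₀).ι :=
    (quasiCompact_iff_compactSpace (U₀).ι).2 inferInstance
  haveI : QuasiCompact σ' := MorphismProperty.pullback_snd _ _ inferInstance
  let g : V.left ⟶ (U₀ : Scheme.{u}) := V.hom
  haveI : IsFinite g := V.prop.1
  haveI : CompactSpace V.left := QuasiCompact.compactSpace_of_compactSpace g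
  let q0 : V.left ⟶ Spec (CommRingCat.of A) := g ≫ (U₀).ι
  haveI : QuasiSeparatedSpace V.left := quasiSeparatedSpace_of_quasiSeparated q0
  let g' : Y'.left ⟶ Spec (CommRingCat.of R) := Y'.hom
  haveI : IsFinite g' := Y'.prop.1
  haveI : Etale g' := Y'.prop.2
  haveI : IsAffine Y'.left := isAffine_of_isAffineHom g'
  let P := pullback g' σ'
  let ψ : P ⟶ Y'.left := pullback.fst g' σ'
  let s : P ⟶ _ := pullback.snd g' σ'
  let i : P ≅ pullback g p := (MorphismProperty.Over.forget _ _ _ ⋙ Over.forget _).mapIso e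
  have hi : i.hom ≫ pullback.snd g p = s := MorphismProperty.Over.w e.hom
  let φ : P ⟶ V.left := i.hom ≫ pullback.fst g p
  have out1 : IsPullback φ s g p :=
    (IsPullback.of_hasPullback g p).of_iso i.symm (Iso.refl _) (Iso.refl _) (Iso.refl _)
      (by simp [φ]) (by simp [← hi]) (by simp) (by simp)
  have big : IsPullback φ (ψ ≫ g') q0 σ := by
    rw [show ψ ≫ g' = s ≫ σ' from pullback.condition]
    exact out1.paste_vert (IsPullback.of_hasPullback (U₀).ι σ)
  haveI : CompactSpace P := QuasiCompact.compactSpace_of_compactSpace ψ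
  haveI : QuasiSeparatedSpace P := quasiSeparatedSpace_of_quasiSeparated ψ
  let C := Γ(V.left, ⊤)
  let B' := Γ(Y'.left, ⊤)
  let GP := Γ(P, ⊤)
  let cA := (Scheme.ΓSpecIso (CommRingCat.of A)).inv ≫ q0.appTop
  let cR := (Scheme.ΓSpecIso (CommRingCat.of R)).inv ≫ g'.appTop
  letI : Algebra A C := cA.hom.toAlgebra
  letI : Algebra R B' := cR.hom.toAlgebra
  letI : Algebra R GP := ((Scheme.ΓSpecIso (CommRingCat.of R)).inv ≫ (ψ ≫ g').appTop).hom.toAlgebra
  letI : Algebra C GP := φ.appTop.hom.toAlgebra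
  letI : Algebra A B' := ((algebraMap R B').comp (algebraMap A R)).toAlgebra
  haveI : IsScalarTower A R B' := .of_algebraMap_eq fun _ => rfl
  letI : Algebra A GP := ((algebraMap R GP).comp (algebraMap A R)).toAlgebra
  haveI : IsScalarTower A R GP := .of_algebraMap_eq fun _ => rfl
  have hsq : CommRingCat.ofHom (algebraMap A R) ≫ CommRingCat.ofHom (algebraMap R GP) =
      CommRingCat.ofHom (algebraMap A C) ≫ CommRingCat.ofHom (algebraMap C GP) := by
    show _ ≫ (_ ≫ _) = (_ ≫ _) ≫ φ.appTop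
    rw [Category.assoc, ← Scheme.Hom.comp_appTop φ q0, big.w, Scheme.Hom.comp_appTop (ψ ≫ g'),
      ← Scheme.ΓSpecIso_inv_naturality_assoc]
  haveI : IsScalarTower A C GP := .of_algebraMap_eq fun a => ConcreteCategory.congr_hom hsq a
  have hpush : IsPushout q0.appTop (σ).appTop φ.appTop (ψ ≫ g').appTop := by
    haveI := isIso_pushoutSection_of_isQuasiSeparated_of_flat_right big (US := ⊤) (UT := ⊤) (UX := ⊤)
      (UY := ⊤) (by simp) (by simp) (by simp) (isAffineOpen_top _) (isAffineOpen_top _) isCompact_univ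
      isQuasiSeparated_univ
    have := (isIso_pushoutSection_iff ..).1 this
    have key : ∀ {X Z : Scheme.{u}} (f : X ⟶ Z) (h : (⊤ : X.Opens) ≤ f ⁻¹ᵁ ⊤),
        f.appLE ⊤ ⊤ h = f.appTop := fun f _ => f.appLE_eq_app
    rw [key, key, key, key] at this
    exact this
  haveI : Algebra.IsPushout A R C GP := by
    rw [← CommRingCat.isPushout_iff_isPushout]
    refine hpush.flip.of_iso (Scheme.ΓSpecIso (CommRingCat.of A)) (Scheme.ΓSpecIso (CommRingCat.of R))
      (Iso.refl _) (Iso.refl _) ?_ ?_ ?_ ?_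
    · exact Scheme.ΓSpecIso_naturality (CommRingCat.ofHom (algebraMap A R))
    · show q0.appTop ≫ 𝟙 _ = _ ≫ ((Scheme.ΓSpecIso (CommRingCat.of A)).inv ≫ q0.appTop)
      simp
    · show (ψ ≫ g').appTop ≫ 𝟙 _ = _ ≫ ((Scheme.ΓSpecIso (CommRingCat.of R)).inv ≫ (ψ ≫ g').appTop)
      simp
    · show φ.appTop ≫ 𝟙 _ = 𝟙 _ ≫ φ.appTop
      simp
  let θ₀ : B' →ₐ[R] GP :=
    { ψ.appTop.hom with
      commutes' := fun r => by
        show ψ.appTop.hom (cR.hom r) =
          ((Scheme.ΓSpecIso (CommRingCat.of R)).inv ≫ (ψ ≫ g').appTop).hom r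
        rw [Scheme.Hom.comp_appTop]; rfl }
  let E := Algebra.IsPushout.equiv A R C GP
  let θ : B' →ₐ[R] R ⊗[A] C := E.symm.toAlgHom.comp θ₀
  have hθ : ∀ b, E (θ b) = ψ.appTop b := fun b => E.apply_symm_apply _
  have hD : ∀ a ∈ maximalIdeal A, Y'.left.basicOpen (algebraMap A B' a) ≤ ψ.opensRange := by
    intro a ha y hy
    show y ∈ Set.range ψ
    rw [IsOpenImmersion.range_pullbackFst]
    show g' y ∈ Set.range σ'
    rw [IsOpenImmersion.range_pullbackSnd]
    show σ (g' y) ∈ Set.range (U₀).ι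
    rw [Scheme.Opens.range_ι]
    have h1 : algebraMap A R a ∉ (g' y).asIdeal := by
      have h2 : g' ⁻¹ᵁ (PrimeSpectrum.basicOpen (algebraMap A R a)) =
          Y'.left.basicOpen (cR (algebraMap A R a)) :=
        (congrArg (g' ⁻¹ᵁ ·) (basicOpen_eq_of_affine (R := CommRingCat.of R) (algebraMap A R a)).symm).trans
          (Scheme.preimage_basicOpen g' _)
      have h3 : y ∈ g' ⁻¹ᵁ (PrimeSpectrum.basicOpen (algebraMap A R a)) := h2 ▸ hy
      exact h3
    intro hc
    apply h1
    have h4 : a ∈ (σ (g' y)).asIdeal := by rw [hc]; exact ha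
    exact h4
  have hker : IsTors (A := A) (maximalIdeal A)
      (LinearMap.ker (θ.toLinearMap.restrictScalars A)) := by
    intro k
    let J : Ideal A := LinearMap.ker (LinearMap.toSpanSingleton A B' k.1)
    obtain ⟨N, hN⟩ := exists_pow_le_of_forall (J := J) (maximalIdeal A).fg_of_isNoetherianRing
      fun a ha => by
        have hk : ψ.appTop k.1 = 0 := by
          rw [← hθ, show θ k.1 = 0 from k.2, map_zero]
        obtain ⟨n, hn⟩ := (sections_openImmersion ψ _ (hD a ha)).2 _ hk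
        refine ⟨n, ?_⟩
        show a ^ n • k.1 = 0
        rw [Algebra.smul_def, map_pow, hn]
    exact ⟨N, fun a ha => Subtype.ext (hN a ha)⟩
  have hcok : ∀ x : R ⊗[A] C, ∃ N : ℕ, ∀ a ∈ maximalIdeal A ^ N,
      a • x ∈ LinearMap.range (θ.toLinearMap.restrictScalars A) := by
    intro x
    let J : Ideal A := (LinearMap.range (θ.toLinearMap.restrictScalars A)).comap
      (LinearMap.toSpanSingleton A (R ⊗[A] C) x)
    refine exists_pow_le_of_forall (J := J) (maximalIdeal A).fg_of_isNoetherianRing fun a ha => ?_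
    obtain ⟨n, y, hy⟩ := (sections_openImmersion ψ _ (hD a ha)).1 (E x)
    refine ⟨n, y, E.injective ?_⟩
    show E (θ y) = E (a ^ n • x)
    have h1 : E (a ^ n • x) = a ^ n • E x := (E.toLinearMap.restrictScalars A).map_smul _ _
    rw [hθ, hy, h1, Algebra.smul_def, map_pow]
    congr 2
  haveI : Module.Finite R B' := by
    refine RingHom.finite_algebraMap.1 ?_
    have h1 : g'.appTop.hom.Finite := ((HasAffineProperty.iff_of_isAffine (P := @IsFinite)).1 ‹_›).2
    exact h1.comp (RingHom.Finite.of_surjective _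
      (ConcreteCategory.bijective_of_isIso (Scheme.ΓSpecIso (CommRingCat.of R)).inv).2)
  haveI : Algebra.Etale R B' := by
    refine RingHom.etale_algebraMap.1 ?_
    exact RingHom.Etale.stableUnderComposition _ _
      (RingHom.Etale.of_bijective (ConcreteCategory.bijective_of_isIso (Scheme.ΓSpecIso (CommRingCat.of R)).inv))
      ((HasRingHomProperty.iff_of_isAffine (P := @Etale)).1 ‹Etale g'›)
  obtain ⟨_, _⟩ := finite_etale_glue hs θ hker hcok
  let B := glue θ
  let π : Spec (CommRingCat.of B) ⟶ Spec (CommRingCat.of A) := Spec.map (CommRingCat.ofHom (algebraMap A B))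
  let Y : FEt.Cat (Spec (CommRingCat.of A)) := MorphismProperty.Over.mk ⊤ π
    ⟨(IsFinite.SpecMap_iff _).2 (RingHom.finite_algebraMap.2 inferInstance),
      (HasRingHomProperty.Spec_iff (P := @Etale)).2 (RingHom.etale_algebraMap.2 inferInstance)⟩
  let q : Y'.left ⟶ Spec (CommRingCat.of B) := toSpec (CommRingCat.ofHom (glueSnd θ).toRingHom)
  let h : V.left ⟶ Spec (CommRingCat.of B) := toSpec (CommRingCat.ofHom (glueFst θ).toRingHom)
  have hh : h ≫ π = q0 := by
    rw [toSpec_comp, eq_toSpec q0]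
    congr 1
  have hq : IsPullback q g' π σ := by
    let M := glueMap θ
    have hM := bijective_glueMap hs θ hker hcok
    letI : Algebra B B' := (glueSnd θ).toRingHom.toAlgebra
    haveI : IsScalarTower A B B' := .of_algebraMap_eq fun a => rfl
    haveI : Algebra.IsPushout A R B B' :=
      ⟨IsBaseChange.of_equiv (AlgEquiv.ofBijective M hM).toLinearEquiv fun b => by
        show M (1 ⊗ₜ[A] b) = _
        rw [glueMap_tmul, one_smul]; rfl⟩
    have h1 := CommRingCat.isPushout_iff_isPushout.mpr ‹Algebra.IsPushout A R B B'›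
    have h2 := isPullback_SpecMap_of_isPushout _ _ _ _ h1
    refine h2.flip.of_iso Y'.left.isoSpec.symm (Iso.refl _) (Iso.refl _) (Iso.refl _) ?_ ?_ ?_ ?_
    · show Spec.map _ ≫ 𝟙 _ = Y'.left.isoSpec.inv ≫ Y'.left.toSpecΓ ≫ _
      simp [← Scheme.isoSpec_hom]
      rfl
    · show Spec.map _ ≫ 𝟙 _ = Y'.left.isoSpec.inv ≫ g'
      rw [Category.comp_id, Iso.eq_inv_comp, Scheme.isoSpec_hom]
      exact (eq_toSpec g').symm
    · simp [π]
    · simp
  have paste : IsPullback (ψ ≫ q) s π (p ≫ (U₀).ι) := by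
    rw [pullback.condition]
    exact (IsPullback.of_hasPullback g' σ').paste_horiz hq
  let m := pullback.lift (ψ ≫ q) (s ≫ p) (paste.w.trans (Category.assoc _ _ _).symm)
  have hm : IsPullback m s (pullback.snd π (U₀).ι) p :=
    IsPullback.of_right (by rw [pullback.lift_fst]; exact paste) (pullback.lift_snd _ _ _)
      (IsPullback.of_hasPullback π (U₀).ι)
  let j : V.left ⟶ pullback π (U₀).ι := pullback.lift h g hh
  have hj : j ≫ pullback.snd π (U₀).ι = g := pullback.lift_snd _ _ _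
  have hφj : φ ≫ j = m := by
    apply pullback.hom_ext
    · rw [Category.assoc, pullback.lift_fst, pullback.lift_fst, comp_toSpec, comp_toSpec]
      congr 1
      ext b
      show φ.appTop.hom b.1.1 = ψ.appTop b.1.2
      rw [← hθ, ← (mem_glue θ).1 b.2, Algebra.IsPushout.equiv_tmul, map_one, one_mul]
      rfl
    · rw [Category.assoc, pullback.lift_snd, pullback.lift_snd, out1.w]
  have sq : IsPullback φ (𝟙 P) j m := by
    refine IsPullback.of_bot ?_ (by rw [hφj, Category.id_comp]) hm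
    rw [Category.id_comp, hj]
    exact out1
  have hmQ : (@Surjective ⊓ @Flat ⊓ @QuasiCompact : MorphismProperty Scheme.{u}) m := by
    refine MorphismProperty.of_isPullback (P := @Surjective ⊓ @Flat ⊓ @QuasiCompact) hm.flip ⟨⟨?_, ?_⟩, ?_⟩
    · exact MorphismProperty.pullback_fst _ _ ‹Surjective σ›
    · exact MorphismProperty.pullback_fst _ _ ‹Flat σ›
    · exact MorphismProperty.pullback_fst _ _ inferInstance
  haveI : IsIso j := MorphismProperty.of_isPullback_of_descendsAlong
    (P := MorphismProperty.isomorphisms Scheme.{u})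
    (Q := @Surjective ⊓ @Flat ⊓ @QuasiCompact) sq.flip hmQ (show IsIso (𝟙 P) from inferInstance)
  exact ⟨Y, ⟨(MorphismProperty.Over.isoMk (asIso j) hj).symm⟩⟩

end Groth.Agent.PurityReg
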