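import Groth.Agent.PurityReg.Scheme

/-!
# Finite etale covers of the punctured spectrum: sections and the extension criterion
-/

set_option autoImplicit false
set_option backward.isDefEq.respectTransparency false
set_option backward.isDefEq.respectTransparency.types false
set_option linter.style.haveILetI false

noncomputable section

universe u

open IsLocalRing TensorProduct AlgebraicGeometry CategoryTheory CategoryTheory.Limits TopologicalSpace

namespace Groth.Agent.PurityReg

theorem hasRegSeq2_punctured {A : Type u} [CommRing A] [IsNoetherianRing A] [IsLocalRing A]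
    (hA : (2 : ℕ∞) ≤ LocCoh.depth A A) :
    FEtLib.HasRegSeq2 (Spec (CommRingCat.of A)) (FEt.puncturedSpec A) := by
  refine FEtLib.hasRegSeq2_spec _ fun p hp => ?_
  have hp' : p = closedPoint A := not_not.mp hp
  subst hp'
  obtain ⟨rs, hl, hm, hr⟩ := (Depth.le_idealDepth_iff_exists
    (Depth.smul_top_ne_top_self (IsLocalRing.maximalIdeal.isMaximal A).ne_top) (n := 2)).mp hA
  refine (Depth.le_idealDepth_iff_exists
    (Depth.smul_top_ne_top_self (IsLocalRing.maximalIdeal.isMaximal _).ne_top) (n := 2)).mpr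
    ⟨rs.map (algebraMap A _), by simpa using hl, ?_, RingTheory.Sequence.IsWeaklyRegular.of_flat hr⟩
  intro r hr'
  obtain ⟨a, ha, rfl⟩ := List.mem_map.mp hr'
  exact (IsLocalization.AtPrime.to_map_mem_maximal_iff _ (closedPoint A).asIdeal a).mpr (hm a ha)

/-- the sections of a cover of the punctured spectrum are finite, and the cover extends when they are etale -/
theorem finite_gamma_and_extends {A : Type u} [CommRing A] [IsNoetherianRing A] [IsLocalRing A]
    (hA : (2 : ℕ∞) ≤ LocCoh.depth A A) (V : FEt.Cat (FEt.puncturedSpec A : Scheme.{u})) :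
    (((V.hom ≫ (FEt.puncturedSpec A).ι).appTop).hom.comp (Scheme.ΓSpecIso (CommRingCat.of A)).inv.hom).Finite ∧
    ((((V.hom ≫ (FEt.puncturedSpec A).ι).appTop).hom.comp (Scheme.ΓSpecIso (CommRingCat.of A)).inv.hom).Etale →
      ∃ Y : FEt.Cat (Spec (CommRingCat.of A)), Nonempty ((FEt.restrict (FEt.puncturedSpec A).ι).obj Y ≅ V)) := by
  haveI : IsNoetherianRing (CommRingCat.of A) := ‹IsNoetherianRing A›
  let U := FEt.puncturedSpec A
  haveI : CompactSpace U := isCompact_iff_compactSpace.mp (TopologicalSpace.NoetherianSpace.isCompact _)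
  haveI : IsIso U.ι.appTop := (hasRegSeq2_punctured hA).res_bijective_appTop
  haveI : U.toScheme.IsQuasiAffine := Scheme.IsQuasiAffine.of_isImmersion U.ι
  let g : V.left ⟶ U.toScheme := V.hom
  haveI : IsFinite g := V.prop.1
  haveI : Etale g := V.prop.2
  haveI : CompactSpace V.left := QuasiCompact.compactSpace_of_compactSpace g
  haveI : V.left.IsQuasiAffine := Scheme.IsQuasiAffine.of_isAffineHom g
  let q : V.left ⟶ Spec (CommRingCat.of A) := g ≫ U.ι
  have hq : ∀ w : V.left, q w ≠ closedPoint A := fun w => (g w).2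
  let φ := structMap q
  letI : Algebra A Γ(V.left, ⊤) := φ.hom.toAlgebra
  have hι : U.toScheme.toSpecΓ ≫ Spec.map ((Scheme.ΓSpecIso (CommRingCat.of A)).inv ≫ U.ι.appTop) = U.ι := by
    rw [Spec.map_comp, ← Category.assoc, ← Scheme.toSpecΓ_naturality, Category.assoc,
      ← SpecMap_ΓSpecIso_hom, ← Spec.map_comp, Iso.inv_hom_id, Spec.map_id, Category.comp_id]
  have P : IsPullback g V.left.toSpecΓ U.ι (Spec.map φ) := by
    haveI : IsIso ((Scheme.ΓSpecIso (CommRingCat.of A)).inv ≫ U.ι.appTop) := inferInstance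
    refine (Scheme.isPullback_toSpecΓ_toSpecΓ g).of_iso (Iso.refl _) (Iso.refl _) (Iso.refl _)
      (asIso (Spec.map ((Scheme.ΓSpecIso (CommRingCat.of A)).inv ≫ U.ι.appTop))) (by simp) (by simp) ?_ ?_
    · simpa using hι
    · simp only [Iso.refl_hom, Category.id_comp, asIso_hom, ← Spec.map_comp, φ, structMap, q,
        Scheme.Hom.comp_appTop, Category.assoc]
  have hFE : FEtOff A Γ(V.left, ⊤) := fun f hf => by
    let Af := Localization.Away f
    let j := Spec.map (CommRingCat.ofHom (algebraMap A Af))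
    have hj : Set.range j ⊆ Set.range U.ι := by
      rintro _ ⟨p, rfl⟩
      rw [Scheme.Opens.range_ι]
      intro hp
      have h1 : PrimeSpectrum.comap (algebraMap A Af) p = closedPoint A := hp
      have h2 : f ∈ PrimeSpectrum.asIdeal (PrimeSpectrum.comap (algebraMap A Af) p) := by rw [h1]; exact hf
      exact p.isPrime.ne_top (Ideal.eq_top_of_isUnit_mem _ h2 (IsLocalization.Away.algebraMap_isUnit f))
    let l := IsOpenImmersion.lift U.ι j hj
    have hlj : l ≫ U.ι = j := IsOpenImmersion.lift_fac _ _ _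
    have Q : IsPullback (pullback.snd g l) (pullback.fst g l ≫ V.left.toSpecΓ) j (Spec.map φ) := by
      rw [← hlj]
      exact (IsPullback.of_hasPullback g l).flip.paste_vert P
    have h1 : FEt.prop (pullback.snd g l) := MorphismProperty.pullback_snd g l V.prop
    have h2 : FEt.prop (pullback.fst j (Spec.map φ)) := by
      rw [← Q.isoPullback_inv_fst]
      exact (MorphismProperty.cancel_left_of_respectsIso FEt.prop _ _).2 h1
    have h3 : FEt.prop (Spec.map (CommRingCat.ofHom (algebraMap Af (Af ⊗[A] Γ(V.left, ⊤))))) := by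
      rw [← pullbackSpecIso_inv_fst']
      exact (MorphismProperty.cancel_left_of_respectsIso FEt.prop _ _).2 h2
    exact ⟨RingHom.finite_algebraMap.1 ((IsFinite.SpecMap_iff _).1 h3.1),
      RingHom.etale_algebraMap.1 ((HasRingHomProperty.Spec_iff (P := @Etale)).1 h3.2)⟩
  obtain ⟨x, y, hx, hy, hp⟩ := exists_regPair hA
  have hS : Sat A Γ(V.left, ⊤) := ⟨x, y, hx, hy, regPair_gamma q rfl hFE hq hp⟩
  haveI : Module.Finite A Γ(V.left, ⊤) := finite_of_fEtOff _ (ParaFUFD.ores_punctured_bijective hA) hFE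
    fun w hw => eq_zero_of_away hx (regPair_gamma q rfl hFE hq hp).reg hw
  refine ⟨RingHom.finite_algebraMap.2 (inferInstance : Module.Finite A Γ(V.left, ⊤)), fun het => ?_⟩
  haveI : Algebra.Etale A Γ(V.left, ⊤) := RingHom.etale_algebraMap.1 het
  let Y : FEt.Cat (Spec (CommRingCat.of A)) := MorphismProperty.Over.mk ⊤ (Spec.map φ)
    ⟨(IsFinite.SpecMap_iff _).2 (RingHom.finite_algebraMap.2 inferInstance),
      (HasRingHomProperty.Spec_iff (P := @Etale)).2 (RingHom.etale_algebraMap.2 inferInstance)⟩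
  exact ⟨Y, ⟨MorphismProperty.Over.isoMk P.flip.isoPullback.symm P.flip.isoPullback_inv_snd⟩⟩

/-- the sections of a cover which extends are etale -/
theorem etale_gamma_of_extends {A : Type u} [CommRing A] [IsNoetherianRing A] [IsLocalRing A]
    (hA : (2 : ℕ∞) ≤ LocCoh.depth A A) (V : FEt.Cat (FEt.puncturedSpec A : Scheme.{u}))
    (Y : FEt.Cat (Spec (CommRingCat.of A))) (e : (FEt.restrict (FEt.puncturedSpec A).ι).obj Y ≅ V) :
    (((V.hom ≫ (FEt.puncturedSpec A).ι).appTop).hom.comp (Scheme.ΓSpecIso (CommRingCat.of A)).inv.hom).Etale := by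
  haveI : IsNoetherianRing (CommRingCat.of A) := ‹IsNoetherianRing A›
  let U := FEt.puncturedSpec A
  let g : Y.left ⟶ Spec (CommRingCat.of A) := Y.hom
  haveI : IsFinite g := Y.prop.1
  haveI : Etale g := Y.prop.2
  haveI : IsAffine Y.left := isAffine_of_isAffineHom g
  haveI : CompactSpace U := isCompact_iff_compactSpace.mp (TopologicalSpace.NoetherianSpace.isCompact _)
  haveI : CompactSpace (g ⁻¹ᵁ U) :=
    isCompact_iff_compactSpace.mp (QuasiCompact.isCompact_preimage U.1 U.2 (isCompact_iff_compactSpace.mpr inferInstance))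
  haveI : IsIso (g ⁻¹ᵁ U).ι.appTop :=
    ((hasRegSeq2_punctured hA).preimage_of_flat g).res_bijective_appTop
  let φ := pullbackRestrictIsoRestrict g U
  let i : V.left ≅ pullback g U.ι :=
    (MorphismProperty.Over.forget _ _ _ ⋙ Over.forget _).mapIso e.symm
  have hi : i.hom ≫ pullback.snd g U.ι = V.hom := MorphismProperty.Over.w e.inv
  have h1 : V.hom ≫ U.ι = i.hom ≫ φ.hom ≫ (g ⁻¹ᵁ U).ι ≫ g := by
    rw [← hi, Category.assoc, ← pullback.condition, ← pullbackRestrictIsoRestrict_hom_ι, Category.assoc]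
  have h2 : (Scheme.ΓSpecIso (CommRingCat.of A)).inv ≫ (V.hom ≫ U.ι).appTop =
      (Scheme.ΓSpecIso (CommRingCat.of A)).inv ≫ g.appTop ≫
        ((g ⁻¹ᵁ U).ι.appTop ≫ φ.hom.appTop ≫ i.hom.appTop) := by
    rw [h1]
    simp only [Scheme.Hom.comp_appTop, Category.assoc]
  show ((Scheme.ΓSpecIso (CommRingCat.of A)).inv ≫ (V.hom ≫ U.ι).appTop).hom.Etale
  rw [h2]
  have h3 : g.appTop.hom.Etale := (HasRingHomProperty.iff_of_isAffine (P := @Etale)).1 ‹Etale g›
  have hb : ∀ {R S : CommRingCat.{u}} (f : R ⟶ S) [IsIso f], f.hom.Etale := fun f _ =>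
    RingHom.Etale.of_bijective (ConcreteCategory.bijective_of_isIso f)
  simp only [CommRingCat.hom_comp]
  have hc := fun {R S T : Type u} [CommRing R] [CommRing S] [CommRing T] (f : R →+* S) (g : S →+* T) (hf : f.Etale) (hg : g.Etale) => RingHom.Etale.stableUnderComposition f g hf hg
  exact hc _ _ (hb _) (hc _ _ h3 (hc _ _ (hb _) (hc _ _ (hb _) (hb _))))

end Groth.Agent.PurityReg
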