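import Groth.Agent.EtaleStalk.Basic
import Groth.Agent.CAlgReg.Basic
import Groth.Agent.FEtLib.FullCrit
import Groth.Agent.LimSch.ClosureRange
import Groth.Prelude.Def_FEt
import Mathlib

/-!
# Restriction of finite etale covers to a dense open with regular complement
-/

set_option autoImplicit false
set_option backward.isDefEq.respectTransparency false
set_option backward.isDefEq.respectTransparency.types false
set_option linter.style.haveILetI false

noncomputable section

universe u

open AlgebraicGeometry CategoryTheory CategoryTheory.Limits TopologicalSpace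

namespace Groth.Agent.PurityReg

/-- generizations of a point with domain stalk have a common generization -/
theorem exists_common_generization {T : Scheme.{u}} (y : T) (h : IsDomain (T.presheaf.stalk y)) :
    ∃ η : T, ∀ z : T, z ⤳ y → η ⤳ z := by
  refine ⟨T.fromSpecStalk y ⟨⊥, Ideal.isPrime_bot⟩, fun z hz => ?_⟩
  obtain ⟨p, rfl⟩ : z ∈ Set.range (T.fromSpecStalk y) := by rwa [Scheme.range_fromSpecStalk]
  exact Specializes.map ((PrimeSpectrum.le_iff_specializes _ _).mp (bot_le (a := p.asIdeal)))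
    (T.fromSpecStalk y).continuous

variable {X : Scheme.{u}} [IsLocallyNoetherian X]

/-- a point of dimension zero lies in every dense open -/
theorem mem_of_dense_of_dim_zero {U : X.Opens} (hU : Dense (U : Set X)) (x : X)
    (h : Subsingleton (PrimeSpectrum (X.presheaf.stalk x))) : x ∈ U := by
  have hx : x ∈ closure (Set.range U.ι) := by rw [Scheme.Opens.range_ι]; exact hU x
  obtain ⟨y, hy⟩ := LimSch.exists_specializes_of_mem_closure_range U.ι hx
  obtain ⟨q, hq⟩ : U.ι y ∈ Set.range (X.fromSpecStalk x) := by rw [Scheme.range_fromSpecStalk]; exact hy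
  have he : q = (IsLocalRing.closedPoint (X.presheaf.stalk x) : PrimeSpectrum _) := Subsingleton.elim (α := PrimeSpectrum _) _ _
  rw [he, Scheme.fromSpecStalk_closedPoint] at hq
  rw [hq]
  exact y.2

variable {W V : X.Opens} (hVW : V ≤ W) (hd : (W : Set X) ⊆ closure (V : Set X))

include hd in
omit [IsLocallyNoetherian X] in
theorem dense_range_homOfLE : DenseRange (X.homOfLE hVW) := by
  intro w
  rw [W.ι.isOpenEmbedding.toIsEmbedding.toIsInducing.closure_eq_preimage_closure_image]
  show W.ι w ∈ closure (W.ι '' Set.range (X.homOfLE hVW))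
  rw [← Set.range_comp]
  show W.ι w ∈ closure (Set.range (X.homOfLE hVW ≫ W.ι))
  rw [Scheme.homOfLE_ι, Scheme.Opens.range_ι]
  exact hd w.2

include hd in
omit [IsLocallyNoetherian X] in
theorem clopen_meets (C : Set W.toScheme) (hC : IsClopen C) (hne : C.Nonempty) :
    (C ∩ Set.range (X.homOfLE hVW)).Nonempty :=
  (dense_range_homOfLE hVW hd).inter_open_nonempty C hC.2 hne

include hd in
theorem clopenDescend_homOfLE (hreg : ∀ x : X, x ∈ W → x ∉ V → IsRegularLocalRing (X.presheaf.stalk x)) :
    FEtLib.ClopenDescend (X.homOfLE hVW) := by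
  intro Z S hS
  let k := X.homOfLE hVW
  let g : Z.left ⟶ W.toScheme := Z.hom
  haveI : IsFinite g := Z.prop.1
  haveI : Etale g := Z.prop.2
  haveI : IsLocallyNoetherian Z.left := LocallyOfFiniteType.isLocallyNoetherian g
  let j : pullback g k ⟶ Z.left := pullback.fst g k
  have hrange : Set.range j = g ⁻¹' Set.range k := by
    ext z
    refine ⟨?_, fun ⟨v, hv⟩ => ?_⟩
    · rintro ⟨p, rfl⟩
      exact ⟨pullback.snd g k p, by rw [← Scheme.Hom.comp_apply, ← Scheme.Hom.comp_apply, pullback.condition]⟩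
    · obtain ⟨p, hp, -⟩ := Scheme.Pullback.exists_preimage_pullback z v hv.symm
      exact ⟨p, hp⟩
  have hdense : Dense (Set.range j) := by
    rw [hrange]
    exact Dense.preimage (dense_range_homOfLE hVW hd) g.isOpenMap
  have hji : Topology.IsInducing j := j.isOpenEmbedding.toIsEmbedding.toIsInducing
  have hcover : closure (j '' S) ∪ closure (j '' Sᶜ) = Set.univ := by
    rw [← closure_union, ← Set.image_union, Set.union_compl_self, Set.image_univ, hdense.closure_eq]
  have hdisj : closure (j '' S) ∩ closure (j '' Sᶜ) = ∅ := by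
    refine Set.eq_empty_iff_forall_notMem.2 fun z ⟨h1, h2⟩ => ?_
    by_cases hz : z ∈ Set.range j
    · obtain ⟨p, rfl⟩ := hz
      have hp1 : p ∈ S := by
        rw [← hS.1.closure_eq, hji.closure_eq_preimage_closure_image]; exact h1
      have hp2 : p ∈ Sᶜ := by
        rw [← hS.2.isClosed_compl.closure_eq, hji.closure_eq_preimage_closure_image]; exact h2
      exact hp2 hp1
    · have hgz : W.ι (g z) ∉ V := fun hv => hz (by
        rw [hrange]
        refine ⟨⟨W.ι (g z), hv⟩, W.ι.isOpenEmbedding.injective ?_⟩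
        show (X.homOfLE hVW ≫ W.ι) _ = _
        rw [Scheme.homOfLE_ι]
        rfl)
      haveI : Etale (g ≫ W.ι) := inferInstance
      haveI : IsRegularLocalRing (Z.left.presheaf.stalk z) :=
        (EtaleStalk.isRegularLocalRing_iff (g ≫ W.ι) z).2 (hreg _ (g z).2 hgz)
      obtain ⟨η, hη⟩ := exists_common_generization z CAlgReg.isDomain
      have key : ∀ T : Set (pullback g k : Scheme.{u}), IsOpen T → z ∈ closure (j '' T) → η ∈ j '' T :=
        fun T hT hzT => by
        let O : Z.left.Opens := j ''ᵁ ⟨T, hT⟩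
        obtain ⟨w, hw⟩ := LimSch.exists_specializes_of_mem_closure_range O.ι (y := z)
          (by rw [Scheme.Opens.range_ι]; exact hzT)
        exact (hη _ hw).mem_open O.2 w.2
      obtain ⟨a, ha, ha'⟩ := key S hS.2 h1
      obtain ⟨b, hb, hb'⟩ := key Sᶜ hS.1.isOpen_compl h2
      exact hb (j.isOpenEmbedding.injective (hb'.trans ha'.symm) ▸ ha)
  refine ⟨closure (j '' S), ⟨isClosed_closure, ?_⟩, ?_⟩
  · have : closure (j '' S) = (closure (j '' Sᶜ))ᶜ := by
      ext z
      refine ⟨fun h1 h2 => Set.eq_empty_iff_forall_notMem.1 hdisj z ⟨h1, h2⟩, fun h2 => ?_⟩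
      exact ((Set.eq_univ_iff_forall.1 hcover) z).resolve_right h2
    rw [this]
    exact isClosed_closure.isOpen_compl
  · show j ⁻¹' closure (j '' S) = S
    rw [← hji.closure_eq_preimage_closure_image, hS.1.closure_eq]

include hd in
theorem fullFaithful_homOfLE (hreg : ∀ x : X, x ∈ W → x ∉ V → IsRegularLocalRing (X.presheaf.stalk x)) :
    (FEt.restrict (X.homOfLE hVW)).Full ∧ (FEt.restrict (X.homOfLE hVW)).Faithful :=
  FEtLib.full_faithful_restrict _ (clopen_meets hVW hd) (clopenDescend_homOfLE hVW hd hreg)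

/-- maps between two extensions of a cover exist and are unique -/
theorem exists_hom_ext (hreg : ∀ x : X, x ∈ W → x ∉ V → IsRegularLocalRing (X.presheaf.stalk x))
    (hd : (W : Set X) ⊆ closure (V : Set X)) {T Z Z' : Scheme.{u}} {t : T ⟶ V.toScheme}
    (g : Z ⟶ W.toScheme) (g' : Z' ⟶ W.toScheme) (hg : FEt.prop g) (hg' : FEt.prop g')
    (i : T ⟶ Z) (i' : T ⟶ Z') (hi : IsPullback i t g (X.homOfLE hVW)) (hi' : IsPullback i' t g' (X.homOfLE hVW)) :
    ∃ φ : Z ⟶ Z', φ ≫ g' = g ∧ i ≫ φ = i' := by
  haveI := (fullFaithful_homOfLE hVW hd hreg).1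
  let k := X.homOfLE hVW
  let A : FEt.Cat W.toScheme := MorphismProperty.Over.mk ⊤ g hg
  let B : FEt.Cat W.toScheme := MorphismProperty.Over.mk ⊤ g' hg'
  let ψ : (FEt.restrict k).obj A ⟶ (FEt.restrict k).obj B :=
    MorphismProperty.Over.homMk (hi.isoPullback.inv ≫ hi'.isoPullback.hom : pullback g k ⟶ pullback g' k) (by
      show (hi.isoPullback.inv ≫ hi'.isoPullback.hom) ≫ pullback.snd g' k = pullback.snd g k
      rw [Category.assoc, hi'.isoPullback_hom_snd, hi.isoPullback_inv_snd])
  let φ := (FEt.restrict k).preimage ψ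
  refine ⟨φ.left, FEtLib.w φ, ?_⟩
  have h1 := FEtLib.restrict_map_left_fst k φ
  rw [Functor.map_preimage] at h1
  have h2 : (hi.isoPullback.inv ≫ hi'.isoPullback.hom) ≫ pullback.fst g' k = pullback.fst g k ≫ φ.left := h1
  rw [← hi.isoPullback_hom_fst, Category.assoc, ← h2, Category.assoc, Iso.hom_inv_id_assoc,
    hi'.isoPullback_hom_fst]

omit [IsLocallyNoetherian X] in
theorem hom_unique_ext (hd : (W : Set X) ⊆ closure (V : Set X)) {T Z Z' : Scheme.{u}} {t : T ⟶ V.toScheme}
    (g : Z ⟶ W.toScheme) (g' : Z' ⟶ W.toScheme) (hg : FEt.prop g) (hg' : FEt.prop g')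
    (i : T ⟶ Z) (hi : IsPullback i t g (X.homOfLE hVW)) {a b : Z ⟶ Z'} (ha : a ≫ g' = g) (hb : b ≫ g' = g)
    (hab : i ≫ a = i ≫ b) : a = b := by
  let k := X.homOfLE hVW
  let A : FEt.Cat W.toScheme := MorphismProperty.Over.mk ⊤ g hg
  let B : FEt.Cat W.toScheme := MorphismProperty.Over.mk ⊤ g' hg'
  let α : A ⟶ B := MorphismProperty.Over.homMk a ha
  let β : A ⟶ B := MorphismProperty.Over.homMk b hb
  suffices α = β from congrArg (fun m => m.left) this
  refine FEtLib.eq_of_forall α β fun C hC hne => ?_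
  obtain ⟨_, hxC, v, rfl⟩ := clopen_meets hVW hd C hC hne
  refine ⟨_, hxC, fun y hy => ⟨T, i, ?_, hab⟩⟩
  obtain ⟨p, hp, -⟩ := Scheme.exists_preimage_of_isPullback hi y v hy
  exact ⟨p, hp⟩

end Groth.Agent.PurityReg
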