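import Mathlib
import Groth.Agent.Unram.Discriminant
import Groth.Agent.Depth.Basic
import Groth.Agent.SerreLift.Basic

/-! A finite flat algebra étale off a set of depth ≥ 2 points is étale (discriminant). -/

set_option autoImplicit false

open scoped TensorProduct

universe u

namespace Groth.Agent.PurityReg

/-- field-valued fibre from the residue field fibre -/
theorem etale_fibre {A B : Type u} [CommRing A] [CommRing B] [Algebra A B] (q : Ideal A) [q.IsPrime]
    (h : Algebra.Etale q.ResidueField (q.ResidueField ⊗[A] B))
    (K : Type u) [Field K] [Algebra A K] (hK : RingHom.ker (algebraMap A K) = q) :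
    Algebra.Etale K (K ⊗[A] B) := by
  letI := (Ideal.ResidueField.lift q (algebraMap A K) hK.ge (fun x hx => isUnit_iff_ne_zero.mpr
    (fun h0 => hx (hK ▸ RingHom.mem_ker.mpr h0)))).toAlgebra
  haveI : IsScalarTower A q.ResidueField K :=
    .of_algebraMap_eq fun x => (Ideal.ResidueField.lift_algebraMap q _ _ _ x).symm
  exact .of_equiv (Algebra.TensorProduct.cancelBaseChange A q.ResidueField K K B)

set_option maxHeartbeats 1000000 in
theorem etale_atPrime_of_depth {A B : Type u} [CommRing A] [CommRing B] [Algebra A B] [IsNoetherianRing A]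
    [Module.Finite A B] [Module.Flat A B] (S : Set (PrimeSpectrum A))
    (hd : ∀ q : PrimeSpectrum A, q ∉ S →
      (2 : ℕ∞) ≤ LocCoh.depth (Localization.AtPrime q.asIdeal) (Localization.AtPrime q.asIdeal))
    (he : ∀ q : PrimeSpectrum A, q ∈ S → Algebra.Etale q.asIdeal.ResidueField (q.asIdeal.ResidueField ⊗[A] B))
    (p : Ideal A) [p.IsPrime] :
    Algebra.Etale (Localization.AtPrime p) (Localization.AtPrime p ⊗[A] B) := by
  classical
  set A' := Localization.AtPrime p
  haveI : Module.Free A' (A' ⊗[A] B) := Module.free_of_flat_of_isLocalRing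
  let b := Module.Free.chooseBasis A' (A' ⊗[A] B)
  refine Unram.etale_of_isUnit_discr b ?_
  by_contra hu
  obtain ⟨m, hm, hle⟩ := Ideal.exists_le_maximal _ (show Ideal.span {Algebra.discr A' b} ≠ ⊤ by
    rwa [Ne, Ideal.span_singleton_eq_top])
  obtain ⟨q', hq', -⟩ := Ideal.exists_minimalPrimes_le hle
  haveI := hq'.1.1
  have hdq : Algebra.discr A' b ∈ q' := hq'.1.2 (Ideal.mem_span_singleton_self _)
  let q : Ideal A := q'.comap (algebraMap A A')
  by_cases hq : (⟨q, inferInstance⟩ : PrimeSpectrum A) ∈ S
  · let K := q'.ResidueField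
    have hK : RingHom.ker (algebraMap A K) = q := by
      rw [IsScalarTower.algebraMap_eq A A' K, ← RingHom.comap_ker, Ideal.ker_algebraMap_residueField]
    haveI := etale_fibre q (he _ hq) K hK
    haveI : Algebra.Etale K (K ⊗[A'] (A' ⊗[A] B)) :=
      .of_equiv (Algebra.TensorProduct.cancelBaseChange A A' K K B).symm
    have h1 := Unram.isUnit_discr_of_etale (A := K) (B := K ⊗[A'] (A' ⊗[A] B))
      (Algebra.TensorProduct.basis K b)
    rw [Unram.discr_baseChange, Ideal.algebraMap_residueField_eq_zero.mpr hdq] at h1
    exact not_isUnit_zero h1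
  · have h2 := hd _ hq
    haveI : IsLocalization.AtPrime (Localization.AtPrime q') q :=
      IsLocalization.isLocalization_atPrime_localization_atPrime p.primeCompl q'
    have e : Localization.AtPrime q ≃ₐ[A] Localization.AtPrime q' :=
      IsLocalization.algEquiv q.primeCompl _ _
    rw [SerreLift.depth_eq_of_ringEquiv e.toRingEquiv] at h2
    have h3 := Depth.depth_le_ringKrullDim (R := Localization.AtPrime q') (M := Localization.AtPrime q')
    rw [IsLocalization.AtPrime.ringKrullDim_eq_height q' (Localization.AtPrime q')] at h3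
    have h4 : q'.height ≤ 1 :=
      Ideal.height_le_one_of_isPrincipal_of_mem_minimalPrimes (Ideal.span {Algebra.discr A' b}) q' hq'
    have h5 : LocCoh.depth (Localization.AtPrime q') (Localization.AtPrime q') ≤ q'.height := by
      exact_mod_cast h3
    exact absurd (h2.trans (h5.trans h4)) (by norm_num)

theorem etale_of_flat_of_depth {A B : Type u} [CommRing A] [CommRing B] [Algebra A B] [IsNoetherianRing A]
    [Module.Finite A B] [Module.Flat A B] (S : Set (PrimeSpectrum A))
    (hd : ∀ q : PrimeSpectrum A, q ∉ S →
      (2 : ℕ∞) ≤ LocCoh.depth (Localization.AtPrime q.asIdeal) (Localization.AtPrime q.asIdeal))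
    (he : ∀ q : PrimeSpectrum A, q ∈ S → Algebra.Etale q.asIdeal.ResidueField (q.asIdeal.ResidueField ⊗[A] B)) :
    Algebra.Etale A B := by
  haveI : Algebra.FinitePresentation A B :=
    Algebra.FinitePresentation.of_finiteType.mp inferInstance
  haveI : Algebra.FormallyUnramified A B := by
    refine Unram.formallyUnramified_of_forall_algClosure fun p hp => ?_
    haveI := etale_atPrime_of_depth S hd he p
    haveI : Algebra.Etale p.ResidueField (p.ResidueField ⊗[A] B) :=
      .of_equiv (Algebra.TensorProduct.cancelBaseChange A (Localization.AtPrime p) p.ResidueField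
        p.ResidueField B)
    have hK : RingHom.ker (algebraMap A (AlgebraicClosure p.ResidueField)) = p := by
      rw [IsScalarTower.algebraMap_eq A p.ResidueField (AlgebraicClosure p.ResidueField),
        ← RingHom.comap_ker, (RingHom.injective_iff_ker_eq_bot _).mp (algebraMap p.ResidueField (AlgebraicClosure p.ResidueField)).injective,
        ← RingHom.ker_eq_comap_bot, Ideal.ker_algebraMap_residueField]
    haveI := etale_fibre p ‹_› (AlgebraicClosure p.ResidueField) hK
    infer_instance
  exact Algebra.Etale.of_formallyUnramified_of_flat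

end Groth.Agent.PurityReg
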