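import Groth.Agent.ParaFPS.Sections
import Groth.Agent.Unram.Discriminant
import Mathlib

/-!
# Finiteness of algebras finite etale on the punctured spectrum
-/

set_option autoImplicit false
set_option backward.isDefEq.respectTransparency false
set_option backward.isDefEq.respectTransparency.types false
set_option linter.style.haveILetI false

noncomputable section

universe u

open IsLocalRing TensorProduct

namespace Groth.Agent.PurityReg

variable {A : Type u} [CommRing A] [IsLocalRing A] [IsNoetherianRing A] (M : Type u) [CommRing M] [Algebra A M]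

/-- Finite etale away from the closed point. -/
def FEtOff (A : Type u) [CommRing A] [IsLocalRing A] (M : Type u) [CommRing M] [Algebra A M] : Prop :=
  ∀ f ∈ maximalIdeal A, Module.Finite (Localization.Away f) (Localization.Away f ⊗[A] M) ∧
    Algebra.Etale (Localization.Away f) (Localization.Away f ⊗[A] M)

omit [IsNoetherianRing A] in
theorem exists_notMem (p : Ideal A) [p.IsPrime] (hp : p ≠ maximalIdeal A) : ∃ f ∈ maximalIdeal A, f ∉ p := by
  by_contra! h
  exact hp ((maximalIdeal.isMaximal A).eq_of_le Ideal.IsPrime.ne_top' h).symm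

theorem exists_free_nbhd (h : FEtOff A M) (p : Ideal A) [p.IsPrime] (hp : p ≠ maximalIdeal A) :
    ∃ g, g ∈ maximalIdeal A ∧ g ∉ p ∧ Module.Free (Localization.Away g) (Localization.Away g ⊗[A] M) := by
  obtain ⟨f, hfm, hfp⟩ := exists_notMem p hp
  obtain ⟨hfin, het⟩ := h f hfm
  let Af := Localization.Away f
  let N := Af ⊗[A] M
  haveI : Module.FinitePresentation Af N := Module.finitePresentation_of_finite Af N
  haveI : Module.Flat Af N := inferInstance
  haveI : Module.Projective Af N := Module.Flat.projective_of_finitePresentation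
  let p' : Ideal Af := p.map (algebraMap A Af)
  have hdisj : Disjoint (Submonoid.powers f : Set A) (p : Set A) :=
    Set.disjoint_left.mpr fun x ⟨n, hn⟩ hx => hfp (Ideal.IsPrime.mem_of_pow_mem ‹p.IsPrime› n (by
      have h1 : f ^ n = x := hn
      rw [h1]; exact hx))
  haveI : p'.IsPrime := IsLocalization.isPrime_of_isPrime_disjoint (Submonoid.powers f) Af p inferInstance hdisj
  let Rp := Localization.AtPrime p'
  haveI : Module.Finite Rp (Rp ⊗[Af] N) := inferInstance
  haveI : Module.Free Rp (Rp ⊗[Af] N) := @Module.free_of_flat_of_isLocalRing Rp (Rp ⊗[Af] N) inferInstance inferInstance inferInstance inferInstance inferInstance inferInstance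
  obtain ⟨r, hr, hfree, -⟩ := Module.FinitePresentation.exists_free_localizedModule_powers (M := N) (M' := Rp ⊗[Af] N) p'.primeCompl
    (TensorProduct.mk Af Rp N 1) Rp
  obtain ⟨⟨a, ⟨_, k, rfl⟩⟩, hra⟩ := IsLocalization.surj (Submonoid.powers f) r
  have hap : a ∉ p := fun hap => by
    have h1 : r * algebraMap A Af (f ^ k) ∈ p' := by rw [hra]; exact Ideal.mem_map_of_mem _ hap
    exact ((Ideal.IsPrime.mem_or_mem inferInstance h1).resolve_left hr |> fun h2 =>
      hfp (Ideal.IsPrime.mem_of_pow_mem ‹p.IsPrime› k (by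
        have h3 : f ^ k ∈ p'.comap (algebraMap A Af) := h2
        exact (SetLike.ext_iff.1 (IsLocalization.comap_map_of_isPrime_disjoint (Submonoid.powers f) Af inferInstance hdisj) _).1 h3)))
  refine ⟨f * a, Ideal.mul_mem_right _ _ hfm, fun h' => (Ideal.IsPrime.mem_or_mem ‹p.IsPrime› h').elim hfp hap, ?_⟩
  let G := Localization.Away (f * a)
  have hu : IsUnit (algebraMap A G f) ∧ IsUnit (algebraMap A G a) := by
    rw [← IsUnit.mul_iff, ← map_mul]
    exact IsLocalization.Away.algebraMap_isUnit _
  letI : Algebra Af G := (IsLocalization.Away.lift f (g := algebraMap A G) hu.1).toAlgebra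
  haveI : IsScalarTower A Af G := IsScalarTower.of_algebraMap_eq fun x => (IsLocalization.Away.lift_eq f hu.1 x).symm
  have hur : IsUnit (algebraMap Af G r) := by
    have h1 := congrArg (algebraMap Af G) hra
    rw [map_mul, ← IsScalarTower.algebraMap_apply, ← IsScalarTower.algebraMap_apply] at h1
    exact isUnit_of_mul_isUnit_left (h1 ▸ hu.2)
  letI : Algebra (Localization.Away r) G := (IsLocalization.Away.lift r (g := algebraMap Af G) hur).toAlgebra
  haveI : IsScalarTower Af (Localization.Away r) G :=
    IsScalarTower.of_algebraMap_eq (R := Af) (S := Localization.Away r) (A := G) fun x => (IsLocalization.Away.lift_eq r hur x).symm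
  haveI : Module.Free (Localization.Away r) (Localization.Away r ⊗[Af] N) :=
    Module.Free.of_equiv (LocalizedModule.equivTensorProduct (Submonoid.powers r) N)
  haveI : Module.Free G (G ⊗[Af] N) :=
    Module.Free.of_equiv (AlgebraTensorModule.cancelBaseChange Af (Localization.Away r) G G N)
  exact Module.Free.of_equiv (Algebra.TensorProduct.cancelBaseChange A Af G G M).toLinearEquiv

theorem finite_of_fEtOff (hA : Function.Bijective (QCohBase.ores (X := AlgebraicGeometry.Spec (CommRingCat.of A))
      (le_top : FEt.puncturedSpec A ≤ ⊤)))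
    (h : FEtOff A M)
    (hinj : ∀ x : M, (∀ f ∈ maximalIdeal A, ∃ n : ℕ, f ^ n • x = 0) → x = 0) : Module.Finite A M := by
  classical
  -- finitely many elements generating every localisation
  obtain ⟨S, hS⟩ : (maximalIdeal A).FG := IsNoetherian.noetherian _
  have hgen : ∀ f : S, ∃ T : Finset M, Submodule.span (Localization.Away (f : A))
      ((fun m => (1 : Localization.Away (f : A)) ⊗ₜ[A] m) '' (T : Set M)) = ⊤ := fun f => by
    haveI := (h f (hS ▸ Ideal.subset_span f.2)).1
    obtain ⟨s, hs⟩ := (Module.Finite.fg_top : (⊤ : Submodule (Localization.Away (f : A))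
      (Localization.Away (f : A) ⊗[A] M)).FG)
    have hrep : ∀ z ∈ s, ∃ m : M, z ∈ Submodule.span (Localization.Away (f : A)) {(1 : Localization.Away (f : A)) ⊗ₜ[A] m} := by
      intro z _
      obtain ⟨⟨m, ⟨t, ht⟩⟩, hm⟩ := IsLocalizedModule.surj (Submonoid.powers (f : A))
        (TensorProduct.mk A (Localization.Away (f : A)) M 1) z
      refine ⟨m, Submodule.mem_span_singleton.2
        ⟨↑(IsLocalization.map_units (Localization.Away (f : A)) (⟨t, ht⟩ : Submonoid.powers (f : A))).unit⁻¹, ?_⟩⟩
      rw [show (1 : Localization.Away (f : A)) ⊗ₜ[A] m = t • z from hm.symm, ← algebraMap_smul (Localization.Away (f : A)) t z,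
        smul_smul, IsUnit.val_inv_mul, one_smul]
    choose m hm using hrep
    refine ⟨s.attach.image fun z => m z.1 z.2, top_le_iff.1 (hs ▸ Submodule.span_le.2 fun z hz => ?_)⟩
    refine Submodule.span_mono ?_ (hm z hz)
    rintro _ rfl
    exact ⟨_, Finset.mem_image.2 ⟨⟨z, hz⟩, Finset.mem_attach _ _, rfl⟩, rfl⟩
  choose T hT using hgen
  let T₀ : Finset M := Finset.univ.biUnion T
  -- traces
  have htr : ∀ x : M, ∃ c : A, ∀ p : PrimeSpectrum A, p ≠ closedPoint A →
      algebraMap A (Localization.AtPrime p.asIdeal) c =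
        Algebra.trace (Localization.AtPrime p.asIdeal) (Localization.AtPrime p.asIdeal ⊗[A] M) (1 ⊗ₜ x) := by
    intro x
    refine ParaFPS.exists_of_locally_fraction hA _ fun p hp => ?_
    obtain ⟨g, hgm, hgp, hfree⟩ := exists_free_nbhd M h p.asIdeal fun he => hp (PrimeSpectrum.ext he)
    let G := Localization.Away g
    haveI := (h g hgm).1
    obtain ⟨⟨c, ⟨_, k, rfl⟩⟩, hck⟩ := IsLocalization.surj (Submonoid.powers g) (Algebra.trace G (G ⊗[A] M) (1 ⊗ₜ x))
    refine ⟨c * g, g ^ k * g, fun hm => hgp ((p.2.mem_or_mem hm).elim (p.2.mem_of_pow_mem k) id), fun q hq hgq => ?_⟩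
    let Q := Localization.AtPrime q.asIdeal
    have hu : IsUnit (algebraMap A Q g) :=
      IsLocalization.map_units Q (⟨g, fun hm => hgq (Ideal.mul_mem_left _ _ hm)⟩ : q.asIdeal.primeCompl)
    letI : Algebra G Q := (IsLocalization.Away.lift g (g := algebraMap A Q) hu).toAlgebra
    haveI : IsScalarTower A G Q := IsScalarTower.of_algebraMap_eq fun z => (IsLocalization.Away.lift_eq g hu z).symm
    let e := Algebra.TensorProduct.cancelBaseChange A G Q Q M
    have he : e (1 ⊗ₜ ((1 : G) ⊗ₜ x)) = (1 : Q) ⊗ₜ x := by simp [e]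
    rw [← he, Algebra.trace_eq_of_algEquiv e, Unram.trace_baseChange (Module.Free.chooseBasis G (G ⊗[A] M)) Q]
    rw [map_mul, map_mul, ← mul_assoc, IsScalarTower.algebraMap_apply A G Q (g ^ k), ← map_mul, hck, ← IsScalarTower.algebraMap_apply]
  choose τ hτ using htr
  let φ : M →ₗ[A] (T₀ → A) :=
    { toFun := fun x y => τ (x * y.1)
      map_add' := fun x x' => funext fun y => by
        rw [← sub_eq_zero]
        refine ParaFPS.eq_zero_of_punctured hA fun p hp => ?_
        simp only [Pi.add_apply, map_sub, map_add, hτ _ p hp, add_mul, TensorProduct.tmul_add, sub_self]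
      map_smul' := fun a x => funext fun y => by
        rw [← sub_eq_zero]
        refine ParaFPS.eq_zero_of_punctured hA fun p hp => ?_
        simp only [RingHom.id_apply, Pi.smul_apply, smul_eq_mul, map_sub, map_mul, hτ _ p hp, smul_mul_assoc,
          TensorProduct.tmul_smul, LinearMap.map_smul_of_tower]
        rw [Algebra.smul_def, sub_self] }
  haveI : Module.Finite A (T₀ → A) := inferInstance
  refine Module.Finite.of_injective φ ((injective_iff_map_eq_zero φ).2 fun x hx => hinj x ?_)
  intro f₀ hf₀
  -- it is enough to vanish in every local ring off the closed point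
  suffices hz : ∀ f : S, ∃ n : ℕ, (f : A) ^ n • x = 0 by
    choose n hn using hz
    let I : Ideal A := (⊥ : Submodule A M).colon {x}
    obtain ⟨k, hk⟩ : f₀ ∈ I.radical := by
      refine (show maximalIdeal A ≤ I.radical from ?_) hf₀
      rw [← hS, Ideal.span_le]
      intro f hf
      exact ⟨n ⟨f, hf⟩, Submodule.mem_colon_singleton.2 (by simpa using hn ⟨f, hf⟩)⟩
    exact ⟨k, by simpa [I] using Submodule.mem_colon_singleton.1 hk⟩
  intro f
  have hfm : (f : A) ∈ maximalIdeal A := hS ▸ Ideal.subset_span f.2
  let Af := Localization.Away (f : A)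
  haveI := (h f hfm).1
  haveI := (h f hfm).2
  suffices h1 : (1 : Af) ⊗ₜ[A] x = 0 by
    obtain ⟨⟨_, n, rfl⟩, hn⟩ := (IsLocalizedModule.eq_zero_iff (Submonoid.powers (f : A))
      (TensorProduct.mk A Af M 1)).1 h1
    exact ⟨n, hn⟩
  -- vanishing at every prime
  by_contra hne
  let I : Ideal Af := (⊥ : Submodule Af (Af ⊗[A] M)).colon {(1 : Af) ⊗ₜ[A] x}
  have hI : I ≠ ⊤ := fun hI => hne (by
    simpa [I] using Submodule.mem_colon_singleton.1 ((Ideal.eq_top_iff_one I).1 hI))
  obtain ⟨P, hP, hIP⟩ := Ideal.exists_le_maximal I hI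
  let p : PrimeSpectrum A := ⟨P.comap (algebraMap A Af), inferInstance⟩
  have hp : p ≠ closedPoint A := fun he => hP.ne_top (Ideal.eq_top_of_isUnit_mem _
    (show (f : A) ∈ p.asIdeal by rw [he]; exact hfm) (IsLocalization.Away.algebraMap_isUnit (f : A)))
  let Q := Localization.AtPrime p.asIdeal
  have hu : IsUnit (algebraMap A Q f) := IsLocalization.map_units Q (⟨f, fun hm =>
    hP.ne_top (Ideal.eq_top_of_isUnit_mem _ hm (IsLocalization.Away.algebraMap_isUnit (f : A)))⟩ : p.asIdeal.primeCompl)
  letI : Algebra Af Q := (IsLocalization.Away.lift (f : A) (g := algebraMap A Q) hu).toAlgebra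
  haveI : IsScalarTower A Af Q := IsScalarTower.of_algebraMap_eq fun z => (IsLocalization.Away.lift_eq _ hu z).symm
  haveI : IsLocalization.AtPrime (Localization.AtPrime P) p.asIdeal :=
    IsLocalization.isLocalization_isLocalization_atPrime_isLocalization (Submonoid.powers (f : A)) (Localization.AtPrime P) P
  let eA : Localization.AtPrime P ≃ₐ[A] Q := IsLocalization.algEquiv p.asIdeal.primeCompl _ _
  have heA : eA.toRingEquiv.toRingHom.comp (algebraMap Af (Localization.AtPrime P)) = algebraMap Af Q :=
    IsLocalization.ringHom_ext (Submonoid.powers (f : A)) (RingHom.ext fun z => by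
      show eA (algebraMap Af (Localization.AtPrime P) (algebraMap A Af z)) = algebraMap Af Q (algebraMap A Af z)
      rw [← IsScalarTower.algebraMap_apply, ← IsScalarTower.algebraMap_apply, AlgEquiv.commutes])
  let eAf : Localization.AtPrime P ≃ₐ[Af] Q := AlgEquiv.ofRingEquiv (f := eA.toRingEquiv) fun z => RingHom.congr_fun heA z
  haveI : IsLocalization.AtPrime Q P := IsLocalization.isLocalization_of_algEquiv P.primeCompl eAf
  haveI : Module.Finite Q (Q ⊗[Af] (Af ⊗[A] M)) := inferInstance
  haveI : Module.Free Q (Q ⊗[Af] (Af ⊗[A] M)) := Module.free_of_flat_of_isLocalRing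
  let e := Algebra.TensorProduct.cancelBaseChange A Af Q Q M
  haveI : Algebra.Etale Q (Q ⊗[Af] (Af ⊗[A] M)) := inferInstance
  haveI : Algebra.Etale Q (Q ⊗[A] M) := Algebra.Etale.of_equiv e
  haveI : Module.Finite Q (Q ⊗[A] M) := Module.Finite.equiv e.toLinearEquiv
  haveI : Module.Free Q (Q ⊗[A] M) := Module.Free.of_equiv e.toLinearEquiv
  have hnd := ((Unram.etale_iff_bijective_traceForm (A := Q) (B := Q ⊗[A] M)).1 inferInstance).1
  have hzero : (1 : Q) ⊗ₜ[A] x = 0 := by
    refine hnd (a₂ := 0) (LinearMap.ext_on (s := ((fun m => (1 : Q) ⊗ₜ[A] m) '' (T₀ : Set M))) ?_ ?_)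
    · refine top_le_iff.1 ?_
      rintro z -
      obtain ⟨z, rfl⟩ := e.surjective z
      induction z using TensorProduct.induction_on with
      | zero => rw [map_zero]; exact zero_mem _
      | add a b ha hb => rw [map_add]; exact add_mem ha hb
      | tmul a n =>
        have hn : n ∈ Submodule.span Af ((fun m => (1 : Af) ⊗ₜ[A] m) '' (T f : Set M)) := (hT f).symm ▸ Submodule.mem_top
        induction hn using Submodule.span_induction generalizing a with
        | mem n hn =>
          obtain ⟨m, hm, rfl⟩ := hn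
          have : e (a ⊗ₜ ((1 : Af) ⊗ₜ m)) = a • ((1 : Q) ⊗ₜ[A] m) := by simp [e, TensorProduct.smul_tmul']
          rw [this]
          exact Submodule.smul_mem _ _ (Submodule.subset_span ⟨m, Finset.mem_biUnion.2 ⟨f, Finset.mem_univ _, hm⟩, rfl⟩)
        | zero => rw [TensorProduct.tmul_zero, map_zero]; exact zero_mem _
        | add b c _ _ hb hc => rw [TensorProduct.tmul_add, map_add]; exact add_mem (hb a) (hc a)
        | smul c b _ hb => rw [← TensorProduct.smul_tmul]; exact hb (c • a)
    · rintro _ ⟨m, hm, rfl⟩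
      rw [map_zero, LinearMap.zero_apply, Algebra.traceForm_apply, Algebra.TensorProduct.tmul_mul_tmul, one_mul,
        ← hτ _ p hp, show τ (x * m) = 0 from congrFun hx ⟨m, hm⟩, map_zero]
  obtain ⟨t, ht⟩ := (IsLocalizedModule.eq_zero_iff P.primeCompl (TensorProduct.mk Af Q (Af ⊗[A] M) 1)).1
    (e.injective (a₁ := (1 : Q) ⊗ₜ ((1 : Af) ⊗ₜ[A] x)) (a₂ := 0) (by rw [map_zero]; simpa [e] using hzero))
  exact t.2 (hIP (Submodule.mem_colon_singleton.2 (by rw [Submodule.mem_bot]; exact ht)))

end Groth.Agent.PurityReg
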