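import Mathlib

/-! Formal glueing of an algebra off `V(I)` and an algebra over a ring `R` with `A/Iⁿ ≅ R/IⁿR`. -/

set_option autoImplicit false

open scoped TensorProduct

universe u

namespace Groth.Agent.PurityReg

variable {A : Type u} [CommRing A] (I : Ideal A) {R : Type u} [CommRing R] [Algebra A R]

/-- `I`-power torsion -/
def IsTors (M : Type*) [AddCommMonoid M] [Module A M] : Prop :=
  ∀ m : M, ∃ N : ℕ, ∀ a ∈ I ^ N, a • m = 0

variable {I}
  (hs : ∀ (r : R) (N : ℕ), ∃ a : A, r - algebraMap A R a ∈ (I ^ N).map (algebraMap A R))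

include hs in
/-- tensoring a torsion module with `R` does nothing -/
theorem tmul_eq_one_tmul {M : Type*} [AddCommGroup M] [Module A M] [Module R M] [IsScalarTower A R M]
    (hM : IsTors I M) (r : R) (m : M) : r ⊗ₜ[A] m = (1 : R) ⊗ₜ[A] (r • m) := by
  obtain ⟨N, hN⟩ := hM m
  obtain ⟨a, ha⟩ := hs r N
  have key : ∀ s ∈ (I ^ N).map (algebraMap A R), s ⊗ₜ[A] m = 0 ∧ s • m = 0 := by
    intro s hs
    induction hs using Submodule.span_induction with
    | mem x hx =>
      obtain ⟨j, hj, rfl⟩ := hx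
      refine ⟨?_, by rw [algebraMap_smul, hN j hj]⟩
      rw [Algebra.algebraMap_eq_smul_one, TensorProduct.smul_tmul, hN j hj, TensorProduct.tmul_zero]
    | zero => simp
    | add x y _ _ hx hy => simp [TensorProduct.add_tmul, add_smul, hx.1, hx.2, hy.1, hy.2]
    | smul c x hx' hx =>
      refine ⟨?_, by rw [smul_assoc, hx.2, smul_zero]⟩
      have h1 := congrArg (fun t => c • t) hx.1
      simpa [TensorProduct.smul_tmul'] using h1
  obtain ⟨h1, h2⟩ := key _ ha
  rw [TensorProduct.sub_tmul, sub_eq_zero] at h1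
  rw [sub_smul, sub_eq_zero] at h2
  rw [h1, h2, algebraMap_smul, Algebra.algebraMap_eq_smul_one, TensorProduct.smul_tmul]

variable {C : Type u} [CommRing C] [Algebra A C] {B' : Type u} [CommRing B'] [Algebra A B'] [Algebra R B']
  [IsScalarTower A R B'] (θ : B' →ₐ[R] R ⊗[A] C)

/-- the glued algebra -/
def glue : Subalgebra A (C × B') :=
  AlgHom.equalizer ((Algebra.TensorProduct.includeRight (R := A) (A := R)).comp (AlgHom.fst A C B'))
    ((θ.restrictScalars A).comp (AlgHom.snd A C B'))

theorem mem_glue {x : C × B'} : x ∈ glue θ ↔ (1 : R) ⊗ₜ[A] x.1 = θ x.2 := Iff.rfl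

/-- the second projection -/
def glueSnd : glue θ →ₐ[A] B' := (AlgHom.snd A C B').comp (glue θ).val

/-- the first projection -/
def glueFst : glue θ →ₐ[A] C := (AlgHom.fst A C B').comp (glue θ).val

/-- the comparison map -/
noncomputable def glueMap : R ⊗[A] glue θ →ₐ[R] B' :=
  Algebra.TensorProduct.lift (Algebra.ofId R B') (glueSnd θ) fun _ _ => Commute.all _ _

theorem glueMap_tmul (r : R) (x : glue θ) : glueMap θ (r ⊗ₜ[A] x) = r • x.1.2 := by
  simp [glueMap, glueSnd, Algebra.smul_def, Algebra.ofId_apply]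

variable (hker : IsTors (A := A) I (LinearMap.ker (θ.toLinearMap.restrictScalars A)))
  (hcok : ∀ x : R ⊗[A] C, ∃ N : ℕ, ∀ a ∈ I ^ N, a • x ∈ LinearMap.range (θ.toLinearMap.restrictScalars A))

include hs hker hcok in
theorem bijective_glueMap [Module.Flat A R] : Function.Bijective (glueMap θ) := by
  let K := LinearMap.ker θ.toLinearMap
  have hK : IsTors (A := A) I K := fun k => by
    obtain ⟨N, hN⟩ := hker ⟨k.1, k.2⟩
    exact ⟨N, fun a ha => Subtype.ext (congrArg Subtype.val (hN a ha) :)⟩
  let p := (glueFst θ).toLinearMap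
  let ι : K →ₗ[A] glue θ :=
    { toFun := fun k => ⟨(0, k.1), (mem_glue θ).2 (by
        rw [TensorProduct.tmul_zero]; exact (LinearMap.mem_ker.mp k.2).symm)⟩
      map_add' := fun k k' => Subtype.ext (Prod.ext (by simp) rfl)
      map_smul' := fun a k => Subtype.ext (Prod.ext (by simp) rfl) }
  have hex : Function.Exact ι p := fun x => by
    refine ⟨fun hx => ?_, ?_⟩
    · have h0 : x.1.1 = 0 := hx
      exact ⟨⟨x.1.2, LinearMap.mem_ker.mpr (by
        show θ x.1.2 = 0
        rw [← (mem_glue θ).1 x.2, h0, TensorProduct.tmul_zero])⟩, Subtype.ext (Prod.ext h0.symm rfl)⟩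
    · rintro ⟨k, rfl⟩; rfl
  have hlin : ∀ t, θ (glueMap θ t) = LinearMap.lTensor R p t := fun t => by
    induction t using TensorProduct.induction_on with
    | zero => simp
    | tmul r x =>
      rw [glueMap_tmul, map_smul, ← (mem_glue θ).1 x.2, LinearMap.lTensor_tmul, TensorProduct.smul_tmul',
        smul_eq_mul, mul_one]
      rfl
    | add s t hs ht => simp [hs, ht]
  refine ⟨(injective_iff_map_eq_zero _).2 fun t ht => ?_, fun b => ?_⟩
  · have h1 : LinearMap.lTensor R p t = 0 := by rw [← hlin, ht, map_zero]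
    obtain ⟨w, rfl⟩ := (Module.Flat.lTensor_exact R hex t).1 h1
    obtain ⟨k, rfl⟩ : ∃ k : K, (1 : R) ⊗ₜ[A] k = w := by
      clear ht h1
      induction w using TensorProduct.induction_on with
      | zero => exact ⟨0, TensorProduct.tmul_zero _ _⟩
      | tmul r k => exact ⟨r • k, (tmul_eq_one_tmul hs hK r k).symm⟩
      | add a b ha hb =>
        obtain ⟨⟨ka, hka⟩, kb, hkb⟩ := ha, hb
        exact ⟨ka + kb, by rw [TensorProduct.tmul_add, hka, hkb]⟩
    rw [LinearMap.lTensor_tmul, glueMap_tmul, one_smul] at ht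
    have hk : k = 0 := Subtype.ext ht
    rw [hk, TensorProduct.tmul_zero, map_zero]
  · let T := (R ⊗[A] C) ⧸ LinearMap.range θ.toLinearMap
    have hT : IsTors (A := A) I T := fun m => by
      obtain ⟨x, rfl⟩ := Submodule.Quotient.mk_surjective _ m
      obtain ⟨N, hN⟩ := hcok x
      refine ⟨N, fun a ha => ?_⟩
      rw [← Submodule.Quotient.mk_smul, Submodule.Quotient.mk_eq_zero]
      obtain ⟨y, hy⟩ := hN a ha
      exact ⟨y, hy⟩
    let q : C →ₗ[A] T := ((LinearMap.range θ.toLinearMap).mkQ.restrictScalars A).comp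
      (Algebra.TensorProduct.includeRight (R := A) (A := R) (B := C)).toLinearMap
    have hex' : Function.Exact p q := fun c => by
      refine ⟨fun hc => ?_, ?_⟩
      · obtain ⟨y, hy⟩ := (Submodule.Quotient.mk_eq_zero _).1 hc
        exact ⟨⟨(c, y), (mem_glue θ).2 hy.symm⟩, rfl⟩
      · rintro ⟨x, rfl⟩
        exact (Submodule.Quotient.mk_eq_zero _).2 ⟨x.1.2, ((mem_glue θ).1 x.2).symm⟩
    have hq : ∀ x : R ⊗[A] C,
        LinearMap.lTensor R q x = (1 : R) ⊗ₜ[A] (Submodule.Quotient.mk x : T) := fun x => by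
      induction x using TensorProduct.induction_on with
      | zero => simp
      | tmul r c =>
        rw [LinearMap.lTensor_tmul, tmul_eq_one_tmul hs hT]
        congr 1
        show r • Submodule.Quotient.mk ((1 : R) ⊗ₜ[A] c) = _
        rw [← Submodule.Quotient.mk_smul, TensorProduct.smul_tmul', smul_eq_mul, mul_one]
      | add a b ha hb => rw [map_add, ha, hb, ← TensorProduct.tmul_add]; rfl
    have h0 : LinearMap.lTensor R q (θ b) = 0 := by
      rw [hq, (Submodule.Quotient.mk_eq_zero (LinearMap.range θ.toLinearMap) (x := θ b)).2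
        (LinearMap.mem_range_self θ.toLinearMap b), TensorProduct.tmul_zero]
    obtain ⟨t, ht⟩ := (Module.Flat.lTensor_exact R hex' _).1 h0
    rw [← hlin] at ht
    let k : K := ⟨b - glueMap θ t, LinearMap.mem_ker.mpr (by simp [ht])⟩
    exact ⟨t + (1 : R) ⊗ₜ[A] ι k, by
      rw [map_add, glueMap_tmul, one_smul]; exact add_sub_cancel _ _⟩

include hs hker hcok in
/-- if the algebra over `R` is finite étale, so is the glued algebra -/
theorem finite_etale_glue [Module.FaithfullyFlat A R] [Module.Finite R B'] [Algebra.Etale R B'] :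
    Module.Finite A (glue θ) ∧ Algebra.Etale A (glue θ) := by
  let e := AlgEquiv.ofBijective (glueMap θ) (bijective_glueMap hs θ hker hcok)
  haveI : Module.Finite R (R ⊗[A] glue θ) := .equiv e.symm.toLinearEquiv
  haveI : Algebra.Etale R (R ⊗[A] glue θ) := .of_equiv e.symm
  exact ⟨.of_finite_tensorProduct_of_faithfullyFlat R,
    .of_etale_tensorProduct_of_faithfullyFlat R⟩

end Groth.Agent.PurityReg
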