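import Groth.Agent.PurityReg.Sat
import Mathlib

/-!
# Unique lifting of maps across nilpotent thickenings with a regular pair
-/

set_option autoImplicit false
set_option backward.isDefEq.respectTransparency false
set_option backward.isDefEq.respectTransparency.types false
set_option linter.style.haveILetI false
set_option maxHeartbeats 1000000

noncomputable section

universe u

open IsLocalRing TensorProduct

namespace Groth.Agent.PurityReg

theorem RegPair.of_ringEquiv {R S : Type u} [CommRing R] [CommRing S] (e : R ≃+* S) {x y : R}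
    (h : RegPair x y) : RegPair (e x) (e y) := by
  refine ⟨fun w hw => ?_, fun w hw => ?_⟩
  · obtain ⟨w, rfl⟩ := e.surjective w
    rw [← map_mul, EmbeddingLike.map_eq_zero_iff] at hw
    rw [h.reg w hw, map_zero]
  · obtain ⟨w, rfl⟩ := e.surjective w
    obtain ⟨c, hc⟩ := hw
    obtain ⟨c, rfl⟩ := e.surjective c
    rw [← map_mul, ← map_mul, e.injective.eq_iff] at hc
    exact map_dvd e (h.div w ⟨c, hc⟩)

variable {A : Type u} [CommRing A]

theorem away_injective {N : Type u} [CommRing N] [Algebra A N] {x : A} (hreg : ∀ w : N, algebraMap A N x * w = 0 → w = 0) :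
    Function.Injective (away x N) :=
  (injective_iff_map_eq_zero _).2 fun w hw => by
    obtain ⟨n, hn⟩ := away_eq_zero.1 hw
    induction n with
    | zero => simpa using hn
    | succ n ih => exact ih (hreg _ (by rw [← Algebra.smul_def, ← mul_smul, ← pow_succ']; exact hn))

theorem bijective_toSat {N : Type u} [CommRing N] [Algebra A N] {x y : A}
    (hp : RegPair (algebraMap A N x) (algebraMap A N y)) : Function.Bijective (toSat (N := N) x y) := by
  refine ⟨fun v w h => away_injective hp.reg (congrArg (fun s => s.1.1) h), fun s => ?_⟩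
  obtain ⟨u, a, hu⟩ := away_surj x s.1.1
  obtain ⟨v, b, hv⟩ := away_surj y s.1.2
  have hs2 : awayTo x (x * y) (isUnit_left x y) s.1.1 = awayTo y (x * y) (isUnit_right x y) s.1.2 := s.2
  obtain ⟨c, hc⟩ := (away_eq_zero (f := x * y) (w := y ^ b • u - x ^ a • v)).1 (by
    rw [map_sub, map_smul, map_smul, ← awayTo_away x (x * y) (isUnit_left x y) u, ← awayTo_away y (x * y) (isUnit_right x y) v,
      ← hu, ← hv, map_smul, map_smul, hs2, smul_comm, sub_self])
  simp only [Algebra.smul_def, map_pow, map_mul] at hc
  obtain ⟨z, hzu, hzv⟩ := hp.glue (a := c + a) (b := c + b) (u := algebraMap A N x ^ c * u) (v := algebraMap A N y ^ c * v)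
    (by linear_combination hc)
  refine ⟨z, Subtype.ext (Prod.ext ?_ ?_)⟩
  · refine (away_cancel (c + a) ?_).symm
    show x ^ (c + a) • s.1.1 = x ^ (c + a) • away x N z
    rw [← map_smul, pow_add, mul_smul, hu, ← map_smul, Algebra.smul_def, map_pow, hzu, ← pow_add, ← map_pow,
      ← Algebra.smul_def]
  · refine (away_cancel (c + b) ?_).symm
    show y ^ (c + b) • s.1.2 = y ^ (c + b) • away y N z
    rw [← map_smul, pow_add, mul_smul, hv, ← map_smul, Algebra.smul_def, map_pow, hzv, ← pow_add, ← map_pow,
      ← Algebra.smul_def]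

variable {M : Type u} [CommRing M] [Algebra A M] {W W₁ : Type u} [CommRing W] [Algebra A W] [CommRing W₁] [Algebra A W₁]

/-- extension of a map to a localisation -/
def extendAway {f : A} (σ : M →ₐ[A] Localization.Away f ⊗[A] W) :
    Localization.Away f ⊗[A] M →ₐ[Localization.Away f] Localization.Away f ⊗[A] W :=
  Algebra.TensorProduct.lift (Algebra.ofId _ _) σ fun _ _ => .all _ _

theorem extendAway_away {f : A} (σ : M →ₐ[A] Localization.Away f ⊗[A] W) (w : M) :
    extendAway σ (away f M w) = σ w := by
  show Algebra.TensorProduct.lift (Algebra.ofId _ _) σ _ ((1 : Localization.Away f) ⊗ₜ[A] w) = σ w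
  rw [Algebra.TensorProduct.lift_tmul, map_one, one_mul]

variable (π : W →ₐ[A] W₁)

/-- localised reduction -/
def awayMap (f : A) : Localization.Away f ⊗[A] W →ₐ[Localization.Away f] Localization.Away f ⊗[A] W₁ :=
  Algebra.TensorProduct.map (AlgHom.id _ _) π

theorem awayMap_away (f : A) (w : W) : awayMap π f (away f W w) = away f W₁ (π w) := by
  show Algebra.TensorProduct.map (AlgHom.id (Localization.Away f) _) π ((1 : Localization.Away f) ⊗ₜ[A] w) =
    (1 : Localization.Away f) ⊗ₜ[A] π w
  rw [Algebra.TensorProduct.map_tmul, map_one]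

theorem awayTo_awayMap (f g : A) (h : IsUnit (algebraMap A (Localization.Away g) f)) (z : Localization.Away f ⊗[A] W) :
    awayTo f g h (awayMap π f z) = awayMap π g (awayTo f g h z) := by
  induction z using TensorProduct.induction_on with
  | zero => simp only [map_zero]
  | add a b ha hb => simp only [map_add, ha, hb]
  | tmul a b =>
    show Algebra.TensorProduct.map _ (AlgHom.id A W₁) (Algebra.TensorProduct.map (AlgHom.id (Localization.Away f) _) π (a ⊗ₜ[A] b)) =
      Algebra.TensorProduct.map (AlgHom.id (Localization.Away g) _) π (Algebra.TensorProduct.map _ (AlgHom.id A W) (a ⊗ₜ[A] b))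
    simp only [Algebra.TensorProduct.map_tmul, AlgHom.id_apply]

variable {π}

theorem isNilpotent_ker_awayMap (hπ : Function.Surjective π) (hk : IsNilpotent (RingHom.ker π.toRingHom)) (f : A) :
    IsNilpotent (RingHom.ker (awayMap π f).toRingHom) := by
  have e : RingHom.ker (awayMap π f).toRingHom = (RingHom.ker π.toRingHom).map
      (Algebra.TensorProduct.includeRight : W →ₐ[A] Localization.Away f ⊗[A] W).toRingHom :=
    Algebra.TensorProduct.lTensor_ker (A := Localization.Away f) π hπ
  rw [e]
  obtain ⟨n, hn⟩ := hk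
  exact ⟨n, by rw [← Ideal.map_pow, hn]; exact Ideal.map_bot⟩

variable [IsLocalRing A]

theorem eq_of_awayMap_eq (h : FEtOff A M) (hπ : Function.Surjective π) (hk : IsNilpotent (RingHom.ker π.toRingHom))
    {f : A} (hf : f ∈ maximalIdeal A) (σ τ : M →ₐ[A] Localization.Away f ⊗[A] W)
    (e : ∀ w, awayMap π f (σ w) = awayMap π f (τ w)) : σ = τ := by
  haveI := (h f hf).2
  have he : extendAway σ = extendAway τ :=
    Algebra.FormallyUnramified.lift_unique' (awayMap π f) (isNilpotent_ker_awayMap hπ hk f) _ _
      (Algebra.TensorProduct.ext (Subsingleton.elim _ _) (AlgHom.ext fun w => by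
        show awayMap π f (extendAway σ (away f M w)) = awayMap π f (extendAway τ (away f M w))
        rw [extendAway_away, extendAway_away, e]))
  refine AlgHom.ext fun w => ?_
  rw [← extendAway_away σ w, ← extendAway_away τ w, he]

theorem exists_awayMap_lift (h : FEtOff A M) (hπ : Function.Surjective π) (hk : IsNilpotent (RingHom.ker π.toRingHom))
    {f : A} (hf : f ∈ maximalIdeal A) (ψ : M →ₐ[A] W₁) :
    ∃ σ : M →ₐ[A] Localization.Away f ⊗[A] W, ∀ w, awayMap π f (σ w) = away f W₁ (ψ w) := by
  haveI := (h f hf).2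
  have hs : Function.Surjective (awayMap π f) :=
    Algebra.TensorProduct.map_surjective _ _ Function.surjective_id hπ
  let L := Algebra.FormallySmooth.liftOfSurjective (extendAway ((away f W₁).comp ψ)) (awayMap π f) hs
    (isNilpotent_ker_awayMap hπ hk f)
  refine ⟨(L.restrictScalars A).comp (away f M), fun w => ?_⟩
  show awayMap π f (L (away f M w)) = _
  rw [Algebra.FormallySmooth.liftOfSurjective_apply, extendAway_away]
  rfl

theorem lift_unique (h : FEtOff A M) (hπ : Function.Surjective π) (hk : IsNilpotent (RingHom.ker π.toRingHom))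
    {x : A} (hx : x ∈ maximalIdeal A) (hreg : ∀ w : W, algebraMap A W x * w = 0 → w = 0)
    (φ φ' : M →ₐ[A] W) (e : ∀ w, π (φ w) = π (φ' w)) : φ = φ' :=
  AlgHom.ext fun w => away_injective hreg (AlgHom.congr_fun
    (eq_of_awayMap_eq h hπ hk hx ((away x W).comp φ) ((away x W).comp φ') fun v => by
      show awayMap π x (away x W (φ v)) = awayMap π x (away x W (φ' v))
      rw [awayMap_away, awayMap_away, e]) w)

theorem exists_lift (h : FEtOff A M) (hπ : Function.Surjective π) (hk : IsNilpotent (RingHom.ker π.toRingHom))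
    {x y : A} (hx : x ∈ maximalIdeal A) (hy : y ∈ maximalIdeal A)
    (hW : RegPair (algebraMap A W x) (algebraMap A W y)) (hW₁ : ∀ w : W₁, algebraMap A W₁ x * w = 0 → w = 0)
    (ψ : M →ₐ[A] W₁) : ∃ φ : M →ₐ[A] W, ∀ w, π (φ w) = ψ w := by
  obtain ⟨σ, hσ⟩ := exists_awayMap_lift h hπ hk hx ψ
  obtain ⟨τ, hτ⟩ := exists_awayMap_lift h hπ hk hy ψ
  have hxy : x * y ∈ maximalIdeal A := Ideal.mul_mem_right _ _ hx
  have hagree : ∀ w, awayTo x (x * y) (isUnit_left x y) (σ w) = awayTo y (x * y) (isUnit_right x y) (τ w) := fun w =>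
    AlgHom.congr_fun (eq_of_awayMap_eq h hπ hk hxy ((awayTo x (x * y) (isUnit_left x y)).comp σ)
      ((awayTo y (x * y) (isUnit_right x y)).comp τ) fun v => by
        show awayMap π _ (awayTo x (x * y) _ (σ v)) = awayMap π _ (awayTo y (x * y) _ (τ v))
        rw [← awayTo_awayMap, ← awayTo_awayMap, hσ, hτ, awayTo_away, awayTo_away]) w
  let e := AlgEquiv.ofBijective (toSat (N := W) x y) (bijective_toSat hW)
  refine ⟨e.symm.toAlgHom.comp ((σ.prod τ).codRestrict (satAlg W x y) hagree), fun w => away_injective hW₁ ?_⟩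
  rw [← awayMap_away, ← hσ]
  congr 1
  exact congrArg (fun s => s.1.1) (e.apply_symm_apply ⟨(σ w, τ w), hagree w⟩)

end Groth.Agent.PurityReg
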