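import Groth.Agent.CAlgCompl.Basic
import Groth.Agent.SchFinLib.FEtAlg
import Mathlib

/-!
# Maps of finite etale algebras which are isomorphisms modulo an ideal, after inverting an element
-/

set_option autoImplicit false
set_option backward.isDefEq.respectTransparency false
set_option backward.isDefEq.respectTransparency.types false
set_option linter.style.haveILetI false
set_option maxHeartbeats 1000000

noncomputable section

universe u

open TensorProduct

namespace Groth.Agent.PurityReg

variable {R : Type u} [CommRing R] (J : Ideal R) [IsHausdorff J R] {f : R}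
  (hreg : ∀ k, ∀ w : R ⧸ J ^ k, Ideal.Quotient.mk (J ^ k) f * w = 0 → w = 0)
  {Q : Type u} [CommRing Q] [Algebra R Q] [IsLocalization.Away f Q]

include hreg in
/-- projective modules over the localisation are separated for `J` -/
theorem eq_zero_of_mem_pow_smul {K : Type u} [AddCommGroup K] [Module Q K] [Module R K] [IsScalarTower R Q K]
    [Module.Projective Q K] {v : K} (h : ∀ k, v ∈ J ^ k • (⊤ : Submodule R K)) : v = 0 := by
  refine (Module.forall_dual_apply_eq_zero_iff Q v).1 fun μ => ?_
  obtain ⟨r, ⟨_, n, rfl⟩, hr⟩ := IsLocalization.exists_mk'_eq (Submonoid.powers f) (μ v)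
  have hr0 : r = 0 := CAlgCompl.eq_zero_of_forall_mem (I := J) fun k => CAlgCompl.mem_pow_smul_top_self.2 (by
    have h1 := Submodule.mem_map_of_mem (f := μ.restrictScalars R) (h k)
    rw [Submodule.map_smul''] at h1
    have h2 : μ v ∈ J ^ k • (⊤ : Submodule R Q) := Submodule.smul_mono le_rfl le_top h1
    rw [Ideal.smul_top_eq_map, Submodule.restrictScalars_mem, IsLocalization.mem_map_algebraMap_iff (Submonoid.powers f) Q] at h2
    obtain ⟨⟨⟨a, ha⟩, ⟨_, m, rfl⟩⟩, hm⟩ := h2
    have hr' : μ v * algebraMap R Q (f ^ n) = algebraMap R Q r := by rw [← hr]; exact IsLocalization.mk'_spec Q r _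
    have hm' : algebraMap R Q (r * f ^ m) = algebraMap R Q (a * f ^ n) := by
      rw [map_mul, map_mul, ← hr', ← hm]
      ring
    obtain ⟨⟨_, i, rfl⟩, hi⟩ := (IsLocalization.eq_iff_exists (Submonoid.powers f) Q).1 hm'
    have hmem : f ^ (i + m) * r ∈ J ^ k := by
      rw [pow_add, mul_assoc, mul_comm (f ^ m)]
      show (fun y => f ^ i * y) (r * f ^ m) ∈ J ^ k
      simp only at hi ⊢
      rw [hi]
      exact Ideal.mul_mem_left _ _ (Ideal.mul_mem_right _ _ ha)
    have hpow : ∀ (j : ℕ) (w : R ⧸ J ^ k), Ideal.Quotient.mk (J ^ k) f ^ j * w = 0 → w = 0 := by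
      intro j
      induction j with
      | zero => intro w hw; simpa using hw
      | succ j ih => intro w hw; exact ih w (hreg k _ (by rw [← mul_assoc, ← pow_succ']; exact hw))
    rw [← Ideal.Quotient.eq_zero_iff_mem] at hmem ⊢
    rw [map_mul, map_pow] at hmem
    exact hpow _ _ hmem)
  rw [← hr, hr0, IsLocalization.mk'_zero]

variable [IsNoetherianRing R] {B M : Type u} [CommRing B] [Algebra Q B] [Algebra R B] [IsScalarTower R Q B]
  [Module.Finite Q B] [Algebra.Etale Q B]
  [CommRing M] [Algebra Q M] [Algebra R M] [IsScalarTower R Q M] [Module.Finite Q M] [Algebra.Etale Q M]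
  (φ : M →ₐ[Q] B)

omit [IsHausdorff J R] [IsNoetherianRing R] [IsScalarTower R Q M] in
theorem exists_smul_sum [IsScalarTower R Q M] (hs : ∀ c : B, ∃ w : M, c - φ w ∈ J • (⊤ : Submodule R B))
    {K : Type u} [AddCommGroup K] [Module R K] (δ : B →ₗ[R] K) (hδ : ∀ w, δ (φ w) = 0) :
    ∀ (k : ℕ) (c : B), δ c ∈ J ^ k • (⊤ : Submodule R K) := by
  intro k
  induction k with
  | zero => intro c; rw [pow_zero, Ideal.one_eq_top, Submodule.top_smul]; trivial
  | succ k ih =>
    intro c
    obtain ⟨w, hw⟩ := hs c
    have h1 := Submodule.mem_map_of_mem (f := δ) hw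
    rw [map_sub, hδ, sub_zero, Submodule.map_smul''] at h1
    rw [pow_succ', Submodule.mul_smul]
    refine Submodule.smul_mono le_rfl ?_ h1
    rintro _ ⟨c', -, rfl⟩
    exact ih c'

include hreg in
/-- a map which is bijective modulo `J` is bijective -/
theorem bijective_of_mod (hs : ∀ c : B, ∃ w : M, c - φ w ∈ J • (⊤ : Submodule R B))
    (hi : ∀ w, φ w = 0 → w ∈ J • (⊤ : Submodule R M)) : Function.Bijective φ := by
  haveI : IsNoetherianRing Q := IsLocalization.isNoetherianRing (Submonoid.powers f) Q inferInstance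
  haveI : Module.FinitePresentation Q B := Module.finitePresentation_of_finite _ _
  haveI : Module.Flat Q B := inferInstance
  haveI : Module.Projective Q B := Module.Flat.projective_of_finitePresentation
  haveI : Module.FinitePresentation Q M := Module.finitePresentation_of_finite _ _
  haveI : Module.Flat Q M := inferInstance
  haveI : Module.Projective Q M := Module.Flat.projective_of_finitePresentation
  constructor
  · -- the kernel is generated by an idempotent lying in all powers of `J`
    obtain ⟨e, he, hker⟩ := SchFinLib.exists_idem_ker φ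
    have heφ : φ e = 0 := by
      have : e ∈ RingHom.ker φ := hker ▸ Ideal.mem_span_singleton_self e
      exact this
    have hpow : ∀ k, e ∈ J ^ k • (⊤ : Submodule R M) := by
      intro k
      induction k with
      | zero => rw [pow_zero, Ideal.one_eq_top, Submodule.top_smul]; trivial
      | succ k ih =>
        rw [← he.eq, pow_succ', Submodule.mul_smul]
        have h1 := Submodule.mem_map_of_mem (f := LinearMap.mulRight R e) (hi e heφ)
        rw [Submodule.map_smul''] at h1
        refine Submodule.smul_mono le_rfl ?_ h1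
        rintro _ ⟨m, -, rfl⟩
        have h2 := Submodule.mem_map_of_mem (f := LinearMap.mulLeft R m) ih
        rw [Submodule.map_smul''] at h2
        exact Submodule.smul_mono le_rfl le_top h2
    have he0 : e = 0 := eq_zero_of_mem_pow_smul J hreg (Q := Q) hpow
    refine (injective_iff_map_eq_zero φ).2 fun w hw => ?_
    have : w ∈ RingHom.ker φ := hw
    rwa [hker, he0, Ideal.span_singleton_zero, Ideal.mem_bot] at this
  · haveI : Module.Finite Q (B ⊗[Q] M) := Module.Finite.trans B _
    haveI : Algebra.Etale Q (B ⊗[Q] M) := Algebra.Etale.comp Q B _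
    let μ : B ⊗[Q] M →ₐ[Q] B := Algebra.TensorProduct.lift (AlgHom.id Q B) φ fun _ _ => .all _ _
    have hμ : ∀ b w, μ (b ⊗ₜ w) = b * φ w := fun b w => Algebra.TensorProduct.lift_tmul _ _ _ b w
    obtain ⟨e₀, he, hker⟩ := SchFinLib.exists_idem_ker μ
    have he0 : μ e₀ = 0 := by
      have : e₀ ∈ RingHom.ker μ := hker ▸ Ideal.mem_span_singleton_self e₀
      exact this
    have hek : ∀ k, μ k = 0 → (1 - e₀) * k = 0 := fun k hk => by
      have hk' : k ∈ RingHom.ker μ := hk
      rw [hker] at hk'
      obtain ⟨c, rfl⟩ := Ideal.mem_span_singleton'.1 hk'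
      rw [sub_mul, one_mul, mul_comm c e₀, ← mul_assoc, he.eq, sub_self]
    let G : B ⊗[Q] M →ₐ[Q] B ⊗[Q] B := Algebra.TensorProduct.map (AlgHom.id Q B) φ
    let δ : B →ₗ[Q] B ⊗[Q] B := (LinearMap.mulLeft Q (G (1 - e₀))).comp
      ((Algebra.TensorProduct.includeLeft : B →ₐ[Q] B ⊗[Q] B).toLinearMap -
        (Algebra.TensorProduct.includeRight : B →ₐ[Q] B ⊗[Q] B).toLinearMap)
    have hδ : ∀ w, δ (φ w) = 0 := fun w => by
      have h0 := congrArg G (hek ((φ w) ⊗ₜ 1 - 1 ⊗ₜ w) (by rw [map_sub, hμ, hμ, map_one, mul_one, one_mul, sub_self]))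
      rw [map_zero, map_mul, map_sub G (φ w ⊗ₜ[Q] 1) (1 ⊗ₜ[Q] w)] at h0
      simp only [G, Algebra.TensorProduct.map_tmul, AlgHom.id_apply, map_one φ] at h0
      show G (1 - e₀) * (φ w ⊗ₜ[Q] 1 - 1 ⊗ₜ[Q] φ w) = 0
      exact h0
    haveI : Module.Projective Q (B ⊗[Q] B) := inferInstance
    have hsep : ∀ c : B, δ c = 0 := fun c =>
      eq_zero_of_mem_pow_smul J hreg (Q := Q) fun k => exists_smul_sum J φ hs (δ.restrictScalars R) hδ k c
    obtain ⟨N, p, s, -, -, hps⟩ := Module.Finite.exists_comp_eq_id_of_projective Q B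
    have hmem : ∀ (c : B) (i), ∀ z : B ⊗[Q] M,
        TensorProduct.lid Q B (TensorProduct.map ((LinearMap.proj i).comp s) LinearMap.id (G z * (c ⊗ₜ 1))) ∈
          LinearMap.range φ.toLinearMap := fun c i z => by
      induction z using TensorProduct.induction_on with
      | zero => simp
      | add u v hu hv => rw [map_add, add_mul, map_add, map_add]; exact add_mem hu hv
      | tmul b w =>
        refine ⟨s (b * c) i • w, ?_⟩
        simp [G, map_smul]
    intro c
    obtain ⟨S, hS⟩ := TensorProduct.exists_finset (1 - e₀ : B ⊗[Q] M)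
    have hone : (1 : B) = ∑ j ∈ S, j.1 * φ j.2 := by
      rw [← sub_zero (1 : B), ← he0, ← map_one μ, ← map_sub, hS, map_sum]
      simp only [hμ]
    have hdual : ∀ b : B, ∑ i, s b i • p (Pi.single i 1) = b := fun b => by
      conv_rhs => rw [← LinearMap.id_apply (R := Q) b, ← hps, LinearMap.comp_apply, pi_eq_sum_univ' (s b), map_sum]
      simp only [map_smul]
    have hrange : ∀ (b : B) (i), b * (∑ j ∈ S, s j.1 i • φ j.2) ∈ LinearMap.range φ.toLinearMap := fun b i => by
      have h1 := hmem b i (1 - e₀)
      have h2 : G (1 - e₀) * (b ⊗ₜ 1) = G (1 - e₀) * (1 ⊗ₜ b) := by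
        have := hsep b
        simp only [δ, LinearMap.comp_apply, LinearMap.sub_apply, LinearMap.mulLeft_apply, mul_sub, sub_eq_zero] at this
        exact this
      rw [h2, hS] at h1
      simp only [map_sum, Finset.sum_mul, G, Algebra.TensorProduct.map_tmul, AlgHom.id_apply,
        Algebra.TensorProduct.tmul_mul_tmul, mul_one, TensorProduct.map_tmul, LinearMap.comp_apply,
        LinearMap.proj_apply, LinearMap.id_apply, TensorProduct.lid_tmul] at h1
      rw [Finset.mul_sum]
      simpa [mul_smul_comm, mul_comm b] using h1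
    have h : c = ∑ i, (c * p (Pi.single i 1)) * (∑ j ∈ S, s j.1 i • φ j.2) := by
      conv_lhs => rw [← mul_one c, hone]
      simp only [Finset.mul_sum]
      rw [Finset.sum_comm]
      refine Finset.sum_congr rfl fun j _ => ?_
      conv_lhs => rw [← hdual j.1, Finset.sum_mul, Finset.mul_sum]
      exact Finset.sum_congr rfl fun i _ => by rw [smul_mul_assoc, mul_smul_comm, mul_smul_comm, mul_assoc]
    have hc : c ∈ LinearMap.range φ.toLinearMap := by
      rw [h]
      exact Submodule.sum_mem _ fun i _ => hrange _ i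
    exact hc

end Groth.Agent.PurityReg
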