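import Groth.Agent.PurityReg.Lift
import Groth.Agent.CAlgReg.Basic
import Groth.Agent.CAlgReg.AusBuch
import Groth.Agent.RegUFD.Basic
import Groth.Agent.FlatPurity.HeightOne
import Groth.Agent.Unram.Discriminant
import Groth.Agent.Hensel.FiniteEtaleLift
import Groth.Agent.CAlgCompl.Basic
import Groth.Agent.CplFin.Basic
import Groth.Agent.ArtHull.Hull
import Mathlib

/-!
# Purity for complete regular local rings
-/

set_option autoImplicit false
set_option backward.isDefEq.respectTransparency false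
set_option backward.isDefEq.respectTransparency.types false
set_option linter.style.haveILetI false
set_option maxHeartbeats 1000000

noncomputable section

universe u

open IsLocalRing TensorProduct

namespace Groth.Agent.PurityReg

theorem free_of_sat {A : Type u} [CommRing A] [IsRegularLocalRing A] (hd : ringKrullDim A = (2 : ℕ))
    (M : Type u) [CommRing M] [Algebra A M] [Module.Finite A M] (hM : Sat A M) : Module.Free A M := by
  rcases subsingleton_or_nontrivial M with hs | hn
  · exact Module.Free.of_subsingleton A M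
  obtain ⟨x, y, hx, hy, hp⟩ := hM
  have hw : RingTheory.Sequence.IsWeaklyRegular M [x, y] := by
    have h := hp.isWeaklyRegular
    rw [show [algebraMap A M x, algebraMap A M y] = [x, y].map (algebraMap A M) from rfl] at h
    exact (RingTheory.Sequence.isWeaklyRegular_map_algebraMap_iff M M [x, y]).1 h
  have h2 : ((2 : ℕ) : ℕ∞) ≤ LocCoh.depth A M :=
    (Depth.le_idealDepth_iff_exists
      (fun htop => (IsLocalRing.maximalIdeal.isMaximal A).ne_top (by
        have := Submodule.eq_bot_of_le_smul_of_le_jacobson_bot (maximalIdeal A) (⊤ : Submodule A M) Module.Finite.fg_top htop.ge (IsLocalRing.maximalIdeal_le_jacobson _)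
        exact absurd this top_ne_bot)) (n := 2)).mpr
      ⟨[x, y], rfl, fun r hr => by rcases List.mem_pair.1 hr with rfl | rfl <;> assumption, hw⟩
  refine CAlgReg.free_of_depth_eq_dim M (le_antisymm Depth.depth_le_ringKrullDim ?_)
  rw [hd]
  exact (WithBot.coe_le_coe.2 h2 : _)

/-- free algebras etale away from the closed point of a ring of dimension at least two are etale -/
theorem etale_of_free {A : Type u} [CommRing A] [IsLocalRing A] [IsNoetherianRing A]
    (hd : (2 : WithBot ℕ∞) ≤ ringKrullDim A)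
    {M : Type u} [CommRing M] [Algebra A M] [Module.Finite A M] [Module.Free A M] (h : FEtOff A M) :
    Algebra.Etale A M := by
  classical
  let b := Module.Free.chooseBasis A M
  refine Unram.etale_of_isUnit_discr b ?_
  by_contra hD
  obtain ⟨P, hP, hDP, hht⟩ := FlatPurity.exists_height_one_mem hd ((mem_maximalIdeal _).2 hD)
  have hne : P ≠ maximalIdeal A := by
    rintro rfl
    have := IsLocalRing.maximalIdeal_height_eq_ringKrullDim (R := A)
    rw [hht] at this
    rw [← this] at hd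
    exact absurd hd (by decide)
  obtain ⟨-, -, het⟩ := h.atPrime P hne
  have hu := Unram.isUnit_discr_of_etale (Algebra.TensorProduct.basis (Localization.AtPrime P) b)
  rw [Unram.discr_baseChange] at hu
  exact (IsLocalization.AtPrime.isUnit_to_map_iff (Localization.AtPrime P) P _).1 hu hDP

/-- a module on which `t ∈ p` is locally surjective vanishes at `p` -/
theorem kill_of_smul_le {A : Type u} [CommRing A] {K : Type u} [AddCommGroup K] [Module A K] [Module.Finite A K]
    {p : Ideal A} [p.IsPrime] {t : A} (ht : t ∈ p) (h : ∀ w : K, ∃ s ∉ p, ∃ u : K, s • w = t • u) (w : K) :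
    ∃ s ∉ p, s • w = 0 := by
  let L := LocalizedModule p.primeCompl K
  let R := Localization.AtPrime p
  haveI : Module.Finite R L := inferInstance
  have hle : (⊤ : Submodule R L) ≤ maximalIdeal R • ⊤ := by
    rintro z -
    induction z using LocalizedModule.induction_on with
    | h m s =>
      obtain ⟨r, hr, v, hv⟩ := h m
      have : LocalizedModule.mk m s = (algebraMap A R t) • LocalizedModule.mk v (⟨r, hr⟩ * s) := by
        rw [algebraMap_smul, LocalizedModule.smul'_mk, ← hv, LocalizedModule.mk_cancel_common_left ⟨r, hr⟩ s m |>.symm]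
        rfl
      rw [this]
      refine Submodule.smul_mem_smul ?_ trivial
      rw [← Localization.AtPrime.map_eq_maximalIdeal]
      exact Ideal.mem_map_of_mem _ ht
  have hbot := Submodule.eq_bot_of_le_smul_of_le_jacobson_bot (maximalIdeal R) ⊤ Module.Finite.fg_top hle
    (IsLocalRing.maximalIdeal_le_jacobson _)
  have h0 : LocalizedModule.mkLinearMap p.primeCompl K w = 0 :=
    (Submodule.mem_bot R).1 (hbot ▸ Submodule.mem_top)
  obtain ⟨s, hs⟩ := (IsLocalizedModule.eq_zero_iff p.primeCompl (LocalizedModule.mkLinearMap p.primeCompl K)).1 h0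
  exact ⟨s.1, s.2, hs⟩

section Step

variable {A : Type u} [CommRing A] [IsRegularLocalRing A] [IsDomain A] [IsAdicComplete (maximalIdeal A) A]
variable {t : A} (ht : t ∈ maximalIdeal A) (ht0 : t ≠ 0)
variable {C : Type u} [CommRing C] [Algebra (A ⧸ Ideal.span {t}) C] [Algebra A C] [IsScalarTower A (A ⧸ Ideal.span {t}) C]
variable {M : Type u} [CommRing M] [Algebra A M] (hM : FEtOff A M)

include ht ht0 hM in
/-- lifting to the finite etale lift -/
theorem exists_lift_etale [Module.Finite (A ⧸ Ideal.span {t}) C] [Algebra.Etale (A ⧸ Ideal.span {t}) C]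
    {x y : A} (hx : x ∈ maximalIdeal A) (hy : y ∈ maximalIdeal A)
    (hC : RegPair (algebraMap A C x) (algebraMap A C y)) (ψ : M →ₐ[A] C) :
    ∃ (B : Type u) (_ : CommRing B) (_ : Algebra A B) (π : B →ₐ[A] C) (φ : M →ₐ[A] B),
      Module.Finite A B ∧ Algebra.Etale A B ∧ Function.Surjective π ∧
      (∀ b, π b = 0 ↔ algebraMap A B t ∣ b) ∧ ∀ w, π (φ w) = ψ w := by
  haveI hIc : IsAdicComplete (Ideal.span {t}) A := CAlgCompl.isAdicComplete_of_le ((Ideal.span_singleton_le_iff_mem _).2 ht)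
    (Ideal.span {t}).fg_of_isNoetherianRing A
  haveI : HenselianRing A (Ideal.span {t}) := IsAdicComplete.henselianRing A _
  obtain ⟨B, _, _, hBf, hBe, ⟨e⟩⟩ := Hensel.exists_finite_etale_lift (Ideal.span {t}) C
  haveI := hBf
  haveI := hBe
  let π : B →ₐ[A] C := (e.restrictScalars A).toAlgHom.comp Algebra.TensorProduct.includeRight
  have hπ : Function.Surjective π :=
    e.surjective.comp (Algebra.TensorProduct.includeRight_surjective _ Ideal.Quotient.mk_surjective)
  set J : Ideal B := Ideal.span {algebraMap A B t} with hJ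
  have hJI : (Ideal.span {t}).map (algebraMap A B) = J := by rw [Ideal.map_span, Set.image_singleton]
  have hker : ∀ b, π b = 0 ↔ algebraMap A B t ∣ b := fun b => by
    rw [← Ideal.mem_span_singleton, ← hJ, ← hJI, ← Ideal.Quotient.eq_zero_iff_mem,
      ← EmbeddingLike.map_eq_zero_iff (f := Algebra.TensorProduct.quotIdealMapEquivQuotTensor B (Ideal.span {t})),
      Algebra.TensorProduct.quotIdealMapEquivQuotTensor_mk]
    exact EmbeddingLike.map_eq_zero_iff (f := e)
  have hfr : Module.Flat A B := inferInstance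
  have htB : ∀ b : B, algebraMap A B t * b = 0 → b = 0 := fun b hb => by
    refine (Module.Flat.isSMulRegular_of_nonZeroDivisors (M := B) (mem_nonZeroDivisors_of_ne_zero ht0)) ?_
    show t • b = t • 0
    rw [smul_zero, Algebra.smul_def, hb]
  have hkerJ : RingHom.ker π.toRingHom = J := Ideal.ext fun b => by
    rw [RingHom.mem_ker, hJ, Ideal.mem_span_singleton]
    exact hker b
  let qe : (B ⧸ J) ≃+* C :=
    (Ideal.quotEquivOfEq hkerJ.symm).trans (RingHom.quotientKerEquivOfSurjective (f := π.toRingHom) hπ)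
  have hq : ∀ a : A, qe.symm (algebraMap A C a) = Ideal.Quotient.mk J (algebraMap A B a) := fun a => by
    rw [RingEquiv.symm_apply_eq]
    exact (AlgHom.commutes π a).symm
  have hBJ : RegPair (Ideal.Quotient.mk J (algebraMap A B x)) (Ideal.Quotient.mk J (algebraMap A B y)) := by
    rw [← hq, ← hq]; exact hC.of_ringEquiv qe.symm
  have hW : ∀ k, RegPair (algebraMap A (B ⧸ J ^ k) x) (algebraMap A (B ⧸ J ^ k) y) := fun k => by
    rw [hJ, Ideal.span_singleton_pow]
    exact regPair_quotient_pow htB hBJ k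
  let π' : ∀ k, (B ⧸ J ^ (k + 1)) →ₐ[A] C := fun k => Ideal.Quotient.liftₐ (J ^ (k + 1)) π fun b hb => by
    have : b ∈ J := Ideal.pow_le_self k.succ_ne_zero hb
    rw [← hkerJ] at this
    exact this
  have hπ' : ∀ k, Function.Surjective (π' k) := fun k z => by
    obtain ⟨b, rfl⟩ := hπ z
    exact ⟨Ideal.Quotient.mk _ b, rfl⟩
  have hk' : ∀ k, IsNilpotent (RingHom.ker (π' k).toRingHom) := fun k => ⟨k + 1, by
    have : RingHom.ker (π' k).toRingHom = J.map (Ideal.Quotient.mk (J ^ (k + 1))) := by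
      ext z
      obtain ⟨b, rfl⟩ := Ideal.Quotient.mk_surjective z
      rw [Ideal.mem_quotient_iff_mem (Ideal.pow_le_self k.succ_ne_zero)]
      exact SetLike.ext_iff.1 hkerJ b
    rw [this, ← Ideal.map_pow, Ideal.map_quotient_self]
    rfl⟩
  choose φ hφ using fun k => exists_lift hM (hπ' k) (hk' k) hx hy (hW (k + 1)) hC.reg ψ
  have hcomp : ∀ {m n : ℕ} (hle : m ≤ n),
      (Ideal.Quotient.factorₐ A (Ideal.pow_le_pow_right (I := J) (Nat.succ_le_succ hle))).comp (φ n) = φ m := fun {m n} hle =>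
    lift_unique hM (hπ' m) (hk' m) hx (hW (m + 1)).reg _ _ fun w => by
      rw [hφ, ← hφ n w]
      show π' m (Ideal.Quotient.factorₐ A (Ideal.pow_le_pow_right (I := J) (Nat.succ_le_succ hle)) (φ n w)) = π' n (φ n w)
      obtain ⟨b, hb⟩ := Ideal.Quotient.mk_surjective (φ n w)
      rw [← hb]
      rfl
  let f : (n : ℕ) → M →ₐ[A] B ⧸ J ^ n := fun n =>
    (Ideal.Quotient.factorₐ A (Ideal.pow_le_pow_right (Nat.le_succ n))).comp (φ n)
  haveI : IsAdicComplete J B := by
    haveI := CplFin.isAdicComplete_of_finite A (Ideal.span {t}) B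
    rw [← hJI]
    exact (IsAdicComplete.map_algebraMap_iff _ B).2 inferInstance
  have hf : ∀ {m n : ℕ} (hle : m ≤ n), (Ideal.Quotient.factorₐ A (Ideal.pow_le_pow_right hle)).comp (f n) = f m :=
    fun {m n} hle => by
      show _ = (Ideal.Quotient.factorₐ A _).comp (φ m)
      rw [← hcomp hle]
      refine AlgHom.ext fun w => ?_
      obtain ⟨b, hb⟩ := Ideal.Quotient.mk_surjective (φ n w)
      simp only [f, AlgHom.comp_apply, ← hb]
      rfl
  let Φ : M →ₐ[A] B := ((AdicCompletion.ofAlgEquiv J).symm.restrictScalars A).toAlgHom.comp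
    (AdicCompletion.liftAlgHom J f hf)
  refine ⟨B, inferInstance, inferInstance, π, Φ, hBf, hBe, hπ, hker, fun w => ?_⟩
  have h1 : Ideal.Quotient.mk (J ^ 1) (Φ w) = f 1 w := by
    show Ideal.Quotient.mk (J ^ 1) ((AdicCompletion.ofAlgEquiv J).symm (AdicCompletion.liftAlgHom J f hf w)) = _
    rw [AdicCompletion.mk_ofAlgEquiv_symm, AdicCompletion.evalₐ_liftAlgHom]
  have h2 : f 1 w = φ 0 w := by rw [← AlgHom.congr_fun (hcomp (Nat.zero_le 1)) w]
  rw [← hφ 0 w, ← h2, ← h1]
  rfl

end Step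

theorem exists_of_away_eq {A : Type u} [CommRing A] {M : Type u} [CommRing M] [Algebra A M] {f : A} {a b : M}
    (h : away f M a = away f M b) : ∃ k : ℕ, f ^ k • a = f ^ k • b := by
  obtain ⟨k, hk⟩ := away_eq_zero.1 (show away f M (a - b) = 0 by rw [map_sub, h, sub_self])
  exact ⟨k, by rwa [smul_sub, sub_eq_zero] at hk⟩

theorem exists_pow_smul_eq_toSat {A : Type u} [CommRing A] [IsLocalRing A] {N : Type u} [CommRing N] [Algebra A N]
    (h : FEtOff A N) {x y f : A} (hp : RegPair x y) (hf : f ∈ maximalIdeal A) (s : satAlg N x y) :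
    ∃ (i : ℕ) (w : N), f ^ i • s = toSat x y w := by
  obtain ⟨z, hz⟩ := (bijective_map_toSat h hp hf).2 (away f (satAlg N x y) s)
  obtain ⟨w, n, hw⟩ := away_surj f z
  obtain ⟨k, hk⟩ := exists_of_away_eq (a := f ^ n • s) (b := toSat x y w) (by
    refine (map_smul (away f (satAlg N x y)) (f ^ n) s).trans ?_
    rw [← hz]
    refine (LinearMap.map_smul_of_tower (Algebra.TensorProduct.map (AlgHom.id (Localization.Away f) (Localization.Away f)) (toSat (N := N) x y)).toLinearMap (f ^ n) z).symm.trans ?_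
    rw [AlgHom.toLinearMap_apply, hw]
    show Algebra.TensorProduct.map (AlgHom.id (Localization.Away f) _) (toSat x y) ((1 : Localization.Away f) ⊗ₜ[A] w) = _
    rw [Algebra.TensorProduct.map_tmul, map_one]
    rfl)
  refine ⟨k + n, f ^ k • w, ?_⟩
  rw [map_smul, pow_add, mul_smul]
  exact hk

theorem mem_span_of_one_tmul_eq_zero {A : Type u} [CommRing A] {t : A} {M : Type u} [CommRing M] [Algebra A M] {w : M}
    (h : (1 : A ⧸ Ideal.span {t}) ⊗ₜ[A] w = 0) : ∃ u : M, w = t • u := by
  rw [← Algebra.TensorProduct.quotIdealMapEquivQuotTensor_mk M (Ideal.span {t}) w, EmbeddingLike.map_eq_zero_iff,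
    Ideal.Quotient.eq_zero_iff_mem, Ideal.map_span, Set.image_singleton, Ideal.mem_span_singleton] at h
  obtain ⟨u, hu⟩ := h
  exact ⟨u, by rw [hu, Algebra.smul_def]⟩

theorem height_ne_of_two {A : Type u} [CommRing A] [IsLocalRing A] [IsNoetherianRing A] {d : ℕ} (hd : ringKrullDim A = d)
    (hd3 : 3 ≤ d) {π t : A} (hπ : π ∈ maximalIdeal A) (ht : t ∈ maximalIdeal A) :
    ∃ Q : Ideal A, Q.IsPrime ∧ Q ≠ maximalIdeal A ∧ π ∈ Q ∧ t ∈ Q := by
  classical
  have hle : Ideal.span (↑({π, t} : Finset A) : Set A) ≤ maximalIdeal A :=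
    Ideal.span_le.2 fun z hz => by
      simp only [Finset.coe_insert, Finset.coe_singleton, Set.mem_insert_iff, Set.mem_singleton_iff] at hz
      rcases hz with rfl | rfl <;> assumption
  obtain ⟨Q, hQ, -⟩ := Ideal.exists_minimalPrimes_le hle
  refine ⟨Q, hQ.1.1, ?_, hQ.1.2 (Ideal.subset_span (by simp)), hQ.1.2 (Ideal.subset_span (by simp))⟩
  rintro rfl
  have h1 := Ideal.height_le_card_of_mem_minimalPrimes_span_finset hQ
  have h2 := IsLocalRing.maximalIdeal_height_eq_ringKrullDim (R := A)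
  rw [hd] at h2
  have h3 : (maximalIdeal A).height = (d : ℕ∞) := WithBot.coe_injective h2
  rw [h3] at h1
  have h4 : d ≤ ({π, t} : Finset A).card := by exact_mod_cast h1
  have h5 : ({π, t} : Finset A).card ≤ 2 := Finset.card_le_two
  omega

/-- the comparison with the finite etale lift -/
theorem exists_compare {A : Type u} [CommRing A] [IsRegularLocalRing A] [IsDomain A] [IsAdicComplete (maximalIdeal A) A]
    {t : A} (ht : t ∈ maximalIdeal A) (ht0 : t ≠ 0)
    {C : Type u} [CommRing C] [Algebra (A ⧸ Ideal.span {t}) C] [Algebra A C] [IsScalarTower A (A ⧸ Ideal.span {t}) C]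
    [Module.Finite (A ⧸ Ideal.span {t}) C] [Algebra.Etale (A ⧸ Ideal.span {t}) C]
    {M : Type u} [CommRing M] [Algebra A M] (hM : FEtOff A M)
    {x y : A} (hx : x ∈ maximalIdeal A) (hy : y ∈ maximalIdeal A) (hxt : x ∉ Ideal.span {t}) (htp : (Ideal.span {t}).IsPrime)
    (hC : RegPair (algebraMap A C x) (algebraMap A C y))
    (ν : (A ⧸ Ideal.span {t}) ⊗[A] M →ₐ[A ⧸ Ideal.span {t}] C)
    (hs : ∀ f ∈ maximalIdeal A, ∀ c : C, ∃ (i : ℕ) (w : (A ⧸ Ideal.span {t}) ⊗[A] M),
      Ideal.Quotient.mk (Ideal.span {t}) f ^ i • c = ν w)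
    (hi : ∀ w, ν w = 0 → ∃ n : ℕ, Ideal.Quotient.mk (Ideal.span {t}) x ^ n • w = 0) :
    ∃ (B : Type u) (_ : CommRing B) (_ : Algebra A B) (φ : M →ₐ[A] B), Module.Finite A B ∧ Algebra.Etale A B ∧
      (∀ f ∈ maximalIdeal A, ∀ b : B, ∃ (i : ℕ) (w : M) (c : B), f ^ i • b = φ w + t • c) ∧
      (∀ w, φ w = 0 → ∃ s ∉ Ideal.span {t}, ∃ u : M, φ u = 0 ∧ s • w = t • u) := by
  let ψ : M →ₐ[A] C := (ν.restrictScalars A).comp Algebra.TensorProduct.includeRight
  obtain ⟨B, _, _, π, φ, hBf, hBe, hπ, hker, hφ⟩ := exists_lift_etale ht ht0 hM hx hy hC ψ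
  haveI := hBf
  haveI := hBe
  haveI : Module.Flat A B := inferInstance
  have hψ : ∀ w, ψ w = ν ((1 : A ⧸ Ideal.span {t}) ⊗ₜ[A] w) := fun w => rfl
  refine ⟨B, inferInstance, inferInstance, φ, hBf, hBe, fun f hf b => ?_, fun w hw => ?_⟩
  · obtain ⟨i, w', hw'⟩ := hs f hf (π b)
    obtain ⟨w, rfl⟩ := Algebra.TensorProduct.includeRight_surjective M (R := A) (S := A ⧸ Ideal.span {t}) Ideal.Quotient.mk_surjective w'
    have h0 : π (f ^ i • b - φ w) = 0 := by
      rw [map_sub, map_smul, hφ, hψ, sub_eq_zero, ← algebraMap_smul (A ⧸ Ideal.span {t}) (f ^ i) (π b), map_pow]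
      exact hw'
    obtain ⟨c, hc⟩ := (hker _).1 h0
    exact ⟨i, w, c, by rw [Algebra.smul_def t, ← hc]; ring⟩
  · obtain ⟨n, hn⟩ := hi ((1 : A ⧸ Ideal.span {t}) ⊗ₜ[A] w) (by rw [← hψ, ← hφ, hw, map_zero])
    rw [← map_pow, show (Ideal.Quotient.mk (Ideal.span {t}) (x ^ n)) = algebraMap A (A ⧸ Ideal.span {t}) (x ^ n) from rfl,
      algebraMap_smul, ← TensorProduct.tmul_smul] at hn
    obtain ⟨u, hu⟩ := mem_span_of_one_tmul_eq_zero hn
    refine ⟨x ^ n, fun h => hxt (htp.mem_of_pow_mem n h), u, ?_, hu⟩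
    refine (Module.Flat.isSMulRegular_of_nonZeroDivisors (M := B) (mem_nonZeroDivisors_of_ne_zero ht0)) ?_
    show t • φ u = t • 0
    rw [← map_smul, ← hu, map_smul, hw, smul_zero, smul_zero]

theorem exists_etale_model {R : Type u} [CommRing R] [IsLocalRing R] [IsNoetherianRing R] (hP : Pure R)
    {N : Type u} [CommRing N] [Algebra R N] (hN : FEtOff R N) {x y : R} (hx : x ∈ maximalIdeal R) (hy : y ∈ maximalIdeal R)
    (hp : RegPair x y) :
    ∃ (C : Type u) (_ : CommRing C) (_ : Algebra R C) (ν : N →ₐ[R] C), Module.Finite R C ∧ Algebra.Etale R C ∧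
      RegPair (algebraMap R C x) (algebraMap R C y) ∧
      (∀ f ∈ maximalIdeal R, ∀ c : C, ∃ (i : ℕ) (w : N), f ^ i • c = ν w) ∧
      ∀ w, ν w = 0 → ∃ n : ℕ, x ^ n • w = 0 := by
  obtain ⟨hsat, hfin⟩ := sat_satAlg hN hx hy hp
  haveI := hfin
  haveI : Algebra.Etale R (satAlg N x y) := hP (satAlg N x y) (fEtOff_satAlg hN hp) hsat
  exact ⟨satAlg N x y, inferInstance, inferInstance, toSat x y, hfin, inferInstance, regPair_satAlg hN hy hp,
    fun f hf c => exists_pow_smul_eq_toSat hN hp hf c,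
    fun w hw => away_eq_zero.1 (congrArg (fun s => s.1.1) hw : away x N w = 0)⟩

theorem etale_step {A : Type u} [CommRing A] [IsRegularLocalRing A] [IsDomain A] [IsAdicComplete (maximalIdeal A) A]
    {d : ℕ} (hd : ringKrullDim A = d) (hd3 : 3 ≤ d)
    (IH : ∀ (R : Type u) [CommRing R] [IsRegularLocalRing R] [IsAdicComplete (maximalIdeal R) R],
      ringKrullDim R = (d - 1 : ℕ) → Pure R)
    (M : Type u) [CommRing M] [Algebra A M] [Module.Finite A M] (hM : FEtOff A M) (hS : Sat A M) :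
    Algebra.Etale A M := by
  classical
  obtain ⟨d', rfl⟩ : ∃ d', d = d' + 1 := ⟨d - 1, by omega⟩
  obtain ⟨t, ht, ht2⟩ : ∃ t ∈ maximalIdeal A, t ∉ maximalIdeal A ^ 2 :=
    SetLike.not_le_iff_exists.1 (CAlgReg.not_maximalIdeal_le_sq hd)
  have ht0 : t ≠ 0 := fun h => ht2 (h ▸ zero_mem _)
  obtain ⟨-, hreg, hdim⟩ := CAlgReg.quotient_span_singleton ht ht2 hd
  haveI := hreg
  let Ab := A ⧸ Ideal.span {t}
  haveI : IsDomain Ab := CAlgReg.isDomain_aux _ Ab hdim
  haveI htp : (Ideal.span {t}).IsPrime := (Ideal.Quotient.isDomain_iff_prime _).1 ‹_›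
  haveI : IsAdicComplete (maximalIdeal Ab) Ab := ArtHull.isAdicComplete_quotient (Ideal.span {t})
  let N := Ab ⊗[A] M
  have hN : FEtOff Ab N := hM.baseChange Ab
    ((IsLocalRing.map_maximalIdeal_of_surjective (algebraMap A Ab) Ideal.Quotient.mk_surjective).ge.trans Ideal.le_radical)
  have hdep : (2 : ℕ∞) ≤ LocCoh.depth Ab Ab := by
    rw [CAlgReg.depth_self_eq_dim hdim]
    exact_mod_cast (show 2 ≤ d' + 1 - 1 by omega)
  obtain ⟨xb, yb, hxb, hyb, hpb⟩ := exists_regPair hdep
  obtain ⟨x, rfl⟩ := Ideal.Quotient.mk_surjective xb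
  obtain ⟨y, rfl⟩ := Ideal.Quotient.mk_surjective yb
  have hx : x ∈ maximalIdeal A := fun hu => hxb (hu.map _)
  have hy : y ∈ maximalIdeal A := fun hu => hyb (hu.map _)
  have hxt : x ∉ Ideal.span {t} := fun h => by
    have := hpb.reg 1 (by rw [Ideal.Quotient.eq_zero_iff_mem.2 h, zero_mul])
    exact one_ne_zero this
  obtain ⟨C, _, _, ν, hfin, hCe, hC', hs, hi⟩ := exists_etale_model (IH Ab hdim) hN hxb hyb hpb
  haveI := hfin
  haveI := hCe
  letI : Algebra A C := ((algebraMap Ab C).comp (algebraMap A Ab)).toAlgebra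
  haveI : IsScalarTower A Ab C := IsScalarTower.of_algebraMap_eq' rfl
  have hC : RegPair (algebraMap A C x) (algebraMap A C y) := hC'
  haveI : IsLocalHom (Ideal.Quotient.mk (Ideal.span {t})) := Function.Surjective.isLocalHom _ Ideal.Quotient.mk_surjective
  obtain ⟨B, _, _, φ, hBf, hBe, hsl, hφ0⟩ := exists_compare ht ht0 hM hx hy hxt htp hC ν
    (fun f hf c => hs _ (fun hu => hf (isUnit_of_map_unit (Ideal.Quotient.mk (Ideal.span {t})) f hu)) c) hi
  haveI := hBf
  haveI := hBe
  haveI : Module.Flat A B := inferInstance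
  have hB0 : ∀ (a : A) (b : B), a ≠ 0 → a • b = 0 → b = 0 := fun a b ha hb =>
    (Module.Flat.isSMulRegular_of_nonZeroDivisors (M := B) (mem_nonZeroDivisors_of_ne_zero ha))
      (show a • b = a • 0 by rw [hb, smul_zero])
  obtain ⟨x₀, y₀, hx₀, hy₀, hp₀⟩ := hS
  have hM0 : ∀ (a : A) (w : M), a ≠ 0 → a • w = 0 → w = 0 := fun a w ha hw =>
    eq_zero_of_away hx₀ hp₀.reg fun f hf => by
      haveI := hM.flat hf
      rw [← away_eq_zero]
      refine (Module.Flat.isSMulRegular_of_nonZeroDivisors (M := Localization.Away f ⊗[A] M) (mem_nonZeroDivisors_of_ne_zero ha)) ?_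
      show a • away f M w = a • 0
      rw [← map_smul, hw, map_zero, smul_zero]
  -- injectivity
  have hinj : ∀ w, φ w = 0 → w = 0 := by
    let H : Submodule A M := LinearMap.ker φ.toLinearMap
    haveI : Module.Finite A H := inferInstance
    intro w hw
    obtain ⟨s, hs, hsw⟩ := kill_of_smul_le (K := H) (Ideal.mem_span_singleton_self t) (fun v => by
      obtain ⟨s, hs, u, hu, hsu⟩ := hφ0 v.1 v.2
      exact ⟨s, hs, ⟨u, hu⟩, Subtype.ext hsu⟩) ⟨w, hw⟩
    exact hM0 s w (fun h => hs (h ▸ zero_mem _)) (congrArg Subtype.val hsw)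
  -- surjectivity
  have hloc : ∀ Q : Ideal A, Q.IsPrime → Q ≠ maximalIdeal A → t ∈ Q → ∀ b : B, ∃ s ∉ Q, ∃ w, φ w = s • b := by
    intro Q hQ hne htQ b
    obtain ⟨f, hf, hfQ⟩ := exists_notMem Q hne
    let R : Submodule A B := LinearMap.range φ.toLinearMap
    obtain ⟨s, hs, h⟩ := kill_of_smul_le (K := B ⧸ R) htQ (fun v => by
      obtain ⟨v, rfl⟩ := Submodule.Quotient.mk_surjective R v
      obtain ⟨i, w, c, hc⟩ := hsl f hf v
      refine ⟨f ^ i, fun h => hfQ (hQ.mem_of_pow_mem i h), Submodule.Quotient.mk c, ?_⟩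
      rw [← Submodule.Quotient.mk_smul, ← Submodule.Quotient.mk_smul, Submodule.Quotient.eq]
      exact ⟨w, by rw [hc, add_sub_cancel_right]; rfl⟩) (Submodule.Quotient.mk b)
    rw [← Submodule.Quotient.mk_smul, Submodule.Quotient.mk_eq_zero] at h
    exact ⟨s, hs, h⟩
  have hsurj : ∀ b, ∃ w, φ w = b := by
    intro b
    haveI : UniqueFactorizationMonoid A := RegUFD.ufd A
    let I : Ideal A := (LinearMap.range φ.toLinearMap).comap (LinearMap.toSpanSingleton A B b)
    have hI : ∀ p : A, Prime p → ¬ I ≤ Ideal.span {p} := fun p hp hle => by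
      obtain ⟨Q, hQ, hne, hpQ, htQ⟩ := height_ne_of_two hd hd3 ((mem_maximalIdeal _).2 hp.not_isUnit) ht
      obtain ⟨s, hs, w, hw⟩ := hloc Q hQ hne htQ b
      exact hs ((Ideal.span_singleton_le_iff_mem _).2 hpQ (hle ⟨w, hw⟩))
    obtain ⟨Q, hQ, hne, -, htQ⟩ := height_ne_of_two hd hd3 ht ht
    obtain ⟨a, ha, u, hu⟩ := hloc Q hQ hne htQ b
    have ha0 : a ≠ 0 := fun h => ha (h ▸ zero_mem _)
    obtain ⟨a', ha'I, ha'⟩ : ∃ a' ∈ I, ∀ p ∈ (UniqueFactorizationMonoid.factors a).toFinset, a' ∉ Ideal.span {p} := by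
      by_contra! hcon
      rcases (UniqueFactorizationMonoid.factors a).toFinset.eq_empty_or_nonempty with he | ⟨p₀, hp₀⟩
      · obtain ⟨p, hp, -⟩ := hcon a ⟨u, hu⟩
        rw [he] at hp
        exact Finset.notMem_empty p hp
      obtain ⟨p, hp, hle⟩ := (Ideal.subset_union_prime (s := (UniqueFactorizationMonoid.factors a).toFinset)
        (f := fun p => Ideal.span {p}) p₀ p₀ (fun p hp _ _ =>
          (Ideal.span_singleton_prime (UniqueFactorizationMonoid.prime_of_factor p (Multiset.mem_toFinset.1 hp)).ne_zero).2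
            (UniqueFactorizationMonoid.prime_of_factor p (Multiset.mem_toFinset.1 hp)))).1 (fun z hz => by
          obtain ⟨p, hp, hzp⟩ := hcon z hz
          exact Set.mem_biUnion hp hzp)
      exact hI p (UniqueFactorizationMonoid.prime_of_factor p (Multiset.mem_toFinset.1 hp)) hle
    obtain ⟨v, hv⟩ := ha'I
    have hab : RegPair a a' := by
      refine ⟨fun w hw => (mul_eq_zero.1 hw).resolve_left ha0, fun w hw =>
        UniqueFactorizationMonoid.dvd_of_dvd_mul_right_of_no_prime_factors ha0 (fun {q} hqa hqa' hq => ?_) hw⟩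
      obtain ⟨p, hp, hpq⟩ := UniqueFactorizationMonoid.exists_mem_factors_of_dvd ha0 hq.irreducible hqa
      exact ha' p (Multiset.mem_toFinset.2 hp) (Ideal.mem_span_singleton.2 (hpq.dvd'.trans hqa'))
    have hpM := hM.changePair hx₀ hy₀ hp₀ hab
    have hv' : φ v = a' • b := hv
    have e0 : φ (a' • u - a • v) = 0 := by
      rw [map_sub, map_smul, map_smul, hu, hv', smul_comm, sub_self]
    have e1 := sub_eq_zero.1 (hinj _ e0)
    simp only [Algebra.smul_def] at e1
    obtain ⟨z, hz, -⟩ := hpM.glue (a := 1) (b := 1) (u := u) (v := v) (by linear_combination e1)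
    refine ⟨z, sub_eq_zero.1 (hB0 a _ ha0 ?_)⟩
    rw [smul_sub, ← map_smul, Algebra.smul_def a z, ← pow_one (algebraMap A M a), ← hz, hu, sub_self]
  let e : B ≃ₐ[A] M := (AlgEquiv.ofBijective φ ⟨(injective_iff_map_eq_zero φ).2 hinj, hsurj⟩).symm
  exact Algebra.Etale.of_equiv e

theorem pure_complete : ∀ (d : ℕ) (A : Type u) [CommRing A] [IsRegularLocalRing A] [IsAdicComplete (maximalIdeal A) A],
    ringKrullDim A = d → 2 ≤ d → Pure A := by
  intro d
  induction d using Nat.strong_induction_on with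
  | _ d ih =>
    intro A _ _ _ hd hd2 M _ _ _ hM hS
    haveI : IsDomain A := CAlgReg.isDomain_aux d A hd
    rcases hd2.eq_or_lt with rfl | h3
    · haveI := free_of_sat hd M hS
      exact etale_of_free (by rw [hd]; rfl) hM
    · exact etale_step hd h3 (fun R _ _ _ hR => ih (d - 1) (by omega) R hR (by omega)) M hM hS

end Groth.Agent.PurityReg
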