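import Groth.Agent.PurityReg.Descent
import Groth.Agent.PurityReg.Lift
import Groth.Agent.PurityReg.Step
import Mathlib

/-!
# Normal domains finite over a local ring and etale away from the closed point
-/

set_option autoImplicit false
set_option backward.isDefEq.respectTransparency false
set_option backward.isDefEq.respectTransparency.types false
set_option linter.style.haveILetI false

noncomputable section

universe u

open IsLocalRing TensorProduct

namespace Groth.Agent.PurityReg

theorem RegPair.pow_cancel {R : Type u} [CommRing R] {x y a b : R} (h : RegPair x y) (n : ℕ) (e : x ^ n * a = x ^ n * b) :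
    a = b :=
  sub_eq_zero.1 (h.reg_pow n _ (by rw [mul_sub, e, sub_self]))

variable {A B : Type u} [CommRing A] [IsLocalRing A] [CommRing B] [Algebra A B]

theorem fEtOff_of_isEtaleAt [Module.Finite A B] [IsNoetherianRing A]
    (h : ∀ q : PrimeSpectrum B, q.asIdeal.comap (algebraMap A B) ≠ maximalIdeal A → Algebra.IsEtaleAt A q.asIdeal) :
    FEtOff A B := by
  haveI : Algebra.FinitePresentation A B := Algebra.FinitePresentation.of_finiteType.1 inferInstance
  intro f hf
  refine ⟨inferInstance, ?_⟩
  let g := algebraMap A B f
  let Af := Localization.Away f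
  let T := Localization.Away g
  have hsub : (PrimeSpectrum.basicOpen g : Set (PrimeSpectrum B)) ⊆ Algebra.etaleLocus A B := fun q hq =>
    h q fun he => hq (show g ∈ q.asIdeal by rw [← he] at hf; exact hf)
  haveI : Algebra.Etale A T := Algebra.basicOpen_subset_etaleLocus_iff_etale.1 hsub
  have hu : IsUnit (algebraMap A T f) := by
    rw [IsScalarTower.algebraMap_apply A B T]
    exact IsLocalization.Away.algebraMap_isUnit g
  letI : Algebra Af T := (IsLocalization.Away.lift f (g := algebraMap A T) hu).toAlgebra
  haveI : IsScalarTower A Af T := IsScalarTower.of_algebraMap_eq fun z =>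
    (IsLocalization.Away.lift_eq f hu z).symm
  haveI : IsLocalization (Algebra.algebraMapSubmonoid B (Submonoid.powers f)) T := by
    rw [Algebra.algebraMapSubmonoid, Submonoid.map_powers]
    infer_instance
  haveI : Algebra.IsPushout A Af B T :=
    .symm <| Algebra.isPushout_of_isLocalization (Submonoid.powers f) Af B T
  haveI : Algebra.Etale Af T := Algebra.Etale.of_restrictScalars A Af T
  exact Algebra.Etale.of_equiv (Algebra.IsPushout.equiv A Af B T).symm

/-- a finite normal extension keeps the regular pairs of the base -/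
theorem regPair_of_normal [IsNoetherianRing A] [IsDomain B] [IsIntegrallyClosed B] (hB : FEtOff A B)
    {x y : A} (hx : x ∈ maximalIdeal A) (hy : y ∈ maximalIdeal A) (hp : RegPair x y)
    (hinj : Function.Injective (algebraMap A B)) : RegPair (algebraMap A B x) (algebraMap A B y) := by
  have hx0 : algebraMap A B x ≠ 0 := fun h0 => by
    rw [← map_zero (algebraMap A B)] at h0
    have h1 : x = 0 := hinj h0
    exact one_ne_zero (hp.reg 1 (by rw [h1, zero_mul]) : (1 : A) = 0)
  let S := satAlg B x y
  obtain ⟨-, hfin⟩ := sat_satAlg hB hx hy hp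
  haveI : Module.Finite A S := hfin
  have hS : RegPair (algebraMap A S x) (algebraMap A S y) := regPair_satAlg hB hy hp
  let L := FractionRing B
  have hu : IsUnit (algebraMap A L x) := by
    rw [IsScalarTower.algebraMap_apply A B L, isUnit_iff_ne_zero]
    exact fun h0 => hx0 (IsFractionRing.injective B L (h0.trans (map_zero _).symm))
  let χ : S →ₐ[A] L :=
    ((Algebra.TensorProduct.lift (IsLocalization.Away.liftAlgHom x (f := Algebra.ofId A L) hu)
      (IsScalarTower.toAlgHom A B L) fun _ _ => .all _ _).comp (AlgHom.fst A _ _)).comp (Subalgebra.val _)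
  have hχ : ∀ w, χ (toSat x y w) = algebraMap B L w := fun w => by
    show Algebra.TensorProduct.lift (IsLocalization.Away.liftAlgHom x (f := Algebra.ofId A L) hu) (IsScalarTower.toAlgHom A B L) (fun _ _ => .all _ _) ((1 : Localization.Away x) ⊗ₜ[A] w) = _
    rw [Algebra.TensorProduct.lift_tmul, map_one, one_mul]
    rfl
  have hreg : ∀ w : B, algebraMap A B x * w = 0 → w = 0 := fun w hw => (mul_eq_zero.1 hw).resolve_left hx0
  have hbij : Function.Bijective (toSat (N := B) x y) := by
    refine ⟨fun v w h => away_injective hreg (congrArg (fun s => s.1.1) h), fun s => ?_⟩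
    obtain ⟨n, w, hw⟩ : ∃ (n : ℕ) (w : B), x ^ n • s = toSat x y w := by
      exact exists_pow_smul_eq_toSat hB hp hx s
    have hint : IsIntegral B (χ s) := ((Algebra.IsIntegral.isIntegral (R := A) s).map χ).tower_top
    obtain ⟨b, hb⟩ := IsIntegrallyClosed.isIntegral_iff.1 hint
    have hwb : x ^ n • b = w := IsFractionRing.injective B L (by
      rw [Algebra.smul_def, map_mul, ← IsScalarTower.algebraMap_apply, ← hχ w, ← hw, map_smul χ, hb, Algebra.smul_def])
    refine ⟨b, ?_⟩
    have h0 : x ^ n • toSat x y b = x ^ n • s := by rw [← map_smul, hwb, hw]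
    rw [Algebra.smul_def, Algebra.smul_def, map_pow] at h0
    exact RegPair.pow_cancel hS n h0
  let e := AlgEquiv.ofBijective _ hbij
  have h1 := hS.of_ringEquiv e.symm.toRingEquiv
  have he : ∀ z, e.symm.toRingEquiv (algebraMap A S z) = algebraMap A B z := fun z => e.symm.commutes z
  rwa [he, he] at h1

theorem etale_of_normal [IsRegularLocalRing A] (hdim : (2 : WithBot ℕ∞) ≤ ringKrullDim A) [IsDomain B]
    [IsIntegrallyClosed B] [Module.Finite A B] (hinj : Function.Injective (algebraMap A B))
    (h : ∀ q : PrimeSpectrum B, q.asIdeal.comap (algebraMap A B) ≠ maximalIdeal A → Algebra.IsEtaleAt A q.asIdeal) :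
    Algebra.Etale A B := by
  have hB := fEtOff_of_isEtaleAt h
  obtain ⟨d, hd⟩ := CAlgReg.exists_dim (R := A)
  obtain ⟨x, y, hx, hy, hp⟩ := exists_regPair (R := A) (by
    rw [CAlgReg.depth_self_eq_dim hd]
    rw [hd] at hdim
    exact_mod_cast hdim)
  exact pure_of_regular hdim B hB ⟨x, y, hx, hy, regPair_of_normal hB hx hy hp hinj⟩

end Groth.Agent.PurityReg
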