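import Groth.Agent.PurityReg.Finite
import Groth.Agent.PurityReg.Pair
import Mathlib

/-!
# Algebras finite etale away from the closed point: basic properties
-/

set_option autoImplicit false
set_option backward.isDefEq.respectTransparency false
set_option backward.isDefEq.respectTransparency.types false
set_option linter.style.haveILetI false

noncomputable section

universe u

open IsLocalRing TensorProduct

namespace Groth.Agent.PurityReg

variable {A : Type u} [CommRing A] {M : Type u} [CommRing M] [Algebra A M]

/-- the image in a localisation -/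
abbrev away (f : A) (M : Type u) [CommRing M] [Algebra A M] : M →ₐ[A] Localization.Away f ⊗[A] M :=
  Algebra.TensorProduct.includeRight

theorem away_eq_zero {f : A} {w : M} : away f M w = 0 ↔ ∃ n : ℕ, f ^ n • w = 0 := by
  constructor
  · intro h
    obtain ⟨⟨_, n, rfl⟩, hn⟩ := (IsLocalizedModule.eq_zero_iff (Submonoid.powers f)
      (TensorProduct.mk A (Localization.Away f) M 1)).1 h
    exact ⟨n, hn⟩
  · rintro ⟨n, hn⟩
    exact (IsLocalizedModule.eq_zero_iff (Submonoid.powers f) (TensorProduct.mk A (Localization.Away f) M 1)).2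
      ⟨⟨_, n, rfl⟩, hn⟩

theorem away_surj (f : A) (z : Localization.Away f ⊗[A] M) : ∃ (w : M) (n : ℕ), f ^ n • z = away f M w := by
  obtain ⟨⟨w, ⟨_, n, rfl⟩⟩, h⟩ := IsLocalizedModule.surj (Submonoid.powers f)
    (TensorProduct.mk A (Localization.Away f) M 1) z
  exact ⟨w, n, h⟩

/-- divisibility after localisation -/
theorem exists_dvd_of_away {f a : A} {w : M} (h : algebraMap A _ a ∣ away f M w) :
    ∃ (u : M) (i : ℕ), f ^ i • w = a • u := by
  obtain ⟨z, hz⟩ := h
  obtain ⟨u, n, hu⟩ := away_surj f z
  obtain ⟨k, hk⟩ := (away_eq_zero (f := f) (w := f ^ n • w - a • u)).1 (by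
    rw [map_sub, map_smul, map_smul, ← hu, hz, ← Algebra.smul_def, smul_comm, sub_self])
  exact ⟨f ^ k • u, k + n, by rw [smul_comm a, pow_add, mul_smul, ← sub_eq_zero, ← smul_sub]; exact hk⟩

variable [IsLocalRing A]

theorem FEtOff.flat (h : FEtOff A M) {f : A} (hf : f ∈ maximalIdeal A) :
    Module.Flat A (Localization.Away f ⊗[A] M) := by
  haveI := (h f hf).2
  exact Module.Flat.trans A (Localization.Away f) _

theorem eq_zero_of_away {x : A} (hx : x ∈ maximalIdeal A) (hreg : ∀ w : M, algebraMap A M x * w = 0 → w = 0)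
    {w : M} (h : ∀ f ∈ maximalIdeal A, ∃ n : ℕ, f ^ n • w = 0) : w = 0 := by
  obtain ⟨n, hn⟩ := h x hx
  induction n with
  | zero => simpa using hn
  | succ n ih => exact ih (hreg _ (by rw [← Algebra.smul_def, ← mul_smul, ← pow_succ']; exact hn))

/-- all regular pairs of the base stay regular -/
theorem FEtOff.changePair (h : FEtOff A M) {x y : A} (hx : x ∈ maximalIdeal A) (hy : y ∈ maximalIdeal A)
    (hM : RegPair (algebraMap A M x) (algebraMap A M y)) {a b : A} (hab : RegPair a b) :
    RegPair (algebraMap A M a) (algebraMap A M b) := by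
  have hreg : ∀ w : M, algebraMap A M a * w = 0 → w = 0 := fun w hw => eq_zero_of_away hx hM.reg fun f hf => by
    haveI := h.flat hf
    rw [← away_eq_zero]
    exact (hab.map (Localization.Away f ⊗[A] M)).reg _ (by rw [← AlgHom.commutes (away f M), ← map_mul, hw, map_zero])
  refine ⟨hreg, fun w hw => ?_⟩
  have hloc : ∀ f ∈ maximalIdeal A, ∃ (u : M) (i : ℕ), f ^ i • w = a • u := fun f hf => by
    haveI := h.flat hf
    refine exists_dvd_of_away ((hab.map (Localization.Away f ⊗[A] M)).div _ ?_)
    rw [← AlgHom.commutes (away f M) a, ← AlgHom.commutes (away f M) b, ← map_mul]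
    exact map_dvd (away f M) hw
  obtain ⟨u, i, hu⟩ := hloc x hx
  obtain ⟨v, j, hv⟩ := hloc y hy
  simp only [Algebra.smul_def, map_pow] at hu hv
  have huv : u * algebraMap A M y ^ j = v * algebraMap A M x ^ i :=
    sub_eq_zero.1 (hreg _ (by linear_combination algebraMap A M x ^ i * hv - algebraMap A M y ^ j * hu))
  obtain ⟨z, hzu, -⟩ := hM.glue huv
  exact ⟨z, sub_eq_zero.1 (hM.reg_pow i _ (by rw [hzu] at hu; linear_combination hu))⟩

/-- the fibre over a non-closed point -/
theorem FEtOff.atPrime (h : FEtOff A M) (p : Ideal A) [p.IsPrime] (hp : p ≠ maximalIdeal A) :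
    Module.Finite (Localization.AtPrime p) (Localization.AtPrime p ⊗[A] M) ∧
    Module.Free (Localization.AtPrime p) (Localization.AtPrime p ⊗[A] M) ∧
    Algebra.Etale (Localization.AtPrime p) (Localization.AtPrime p ⊗[A] M) := by
  obtain ⟨f, hfm, hfp⟩ := exists_notMem p hp
  haveI := (h f hfm).1
  haveI := (h f hfm).2
  let Q := Localization.AtPrime p
  letI : Algebra (Localization.Away f) Q := (IsLocalization.Away.lift f (g := algebraMap A Q)
    (IsLocalization.map_units Q (⟨f, hfp⟩ : p.primeCompl))).toAlgebra
  haveI : IsScalarTower A (Localization.Away f) Q := IsScalarTower.of_algebraMap_eq fun z =>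
    (IsLocalization.Away.lift_eq f (IsLocalization.map_units Q (⟨f, hfp⟩ : p.primeCompl)) z).symm
  let e := Algebra.TensorProduct.cancelBaseChange A (Localization.Away f) Q Q M
  haveI : Module.Finite Q (Q ⊗[A] M) := Module.Finite.equiv e.toLinearEquiv
  haveI : Algebra.Etale Q (Q ⊗[A] M) := Algebra.Etale.of_equiv e
  exact ⟨inferInstance, Module.free_of_flat_of_isLocalRing, inferInstance⟩

theorem FEtOff.of_algEquiv {M' : Type u} [CommRing M'] [Algebra A M'] (h : FEtOff A M) (e : M ≃ₐ[A] M') : FEtOff A M' :=
  fun f hf => by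
    haveI := (h f hf).1
    haveI := (h f hf).2
    let e' := Algebra.TensorProduct.congr (AlgEquiv.refl : Localization.Away f ≃ₐ[Localization.Away f] Localization.Away f) e
    exact ⟨Module.Finite.equiv e'.toLinearEquiv, Algebra.Etale.of_equiv e'⟩

theorem fEtOff_of_etale [Module.Finite A M] [Algebra.Etale A M] : FEtOff A M :=
  fun f _ => ⟨inferInstance, inferInstance⟩

/-- it is enough to test on elements with radical the maximal ideal -/
theorem fEtOff_of_span {S : Set A} (hS : maximalIdeal A ≤ (Ideal.span S).radical)
    (h : ∀ f ∈ S, Module.Finite (Localization.Away f) (Localization.Away f ⊗[A] M) ∧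
      Algebra.Etale (Localization.Away f) (Localization.Away f ⊗[A] M)) : FEtOff A M := by
  intro g hg
  let R := Localization.Away g
  have hspan : Ideal.span (algebraMap A R '' S) = ⊤ := by
    rw [← Ideal.map_span]
    obtain ⟨n, hn⟩ := hS hg
    exact Ideal.eq_top_of_isUnit_mem _ (Ideal.mem_map_of_mem _ hn)
      (by rw [map_pow]; exact (IsLocalization.Away.algebraMap_isUnit g).pow n)
  have key : ∀ r : algebraMap A R '' S, Module.Finite (Localization.Away (r : R)) (Localization.Away (r : R) ⊗[R] (R ⊗[A] M)) ∧
      Algebra.Etale (Localization.Away (r : R)) (Localization.Away (r : R) ⊗[R] (R ⊗[A] M)) := by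
    rintro ⟨_, f, hf, rfl⟩
    haveI := (h f hf).1
    haveI := (h f hf).2
    let W := Localization.Away (algebraMap A R f)
    have hu : IsUnit (algebraMap A W f) := by
      rw [IsScalarTower.algebraMap_apply A R W]
      exact IsLocalization.Away.algebraMap_isUnit _
    letI : Algebra (Localization.Away f) W := (IsLocalization.Away.lift f (g := algebraMap A W) hu).toAlgebra
    haveI : IsScalarTower A (Localization.Away f) W := IsScalarTower.of_algebraMap_eq fun z =>
      (IsLocalization.Away.lift_eq f hu z).symm
    let e := (Algebra.TensorProduct.cancelBaseChange A (Localization.Away f) W W M).trans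
      (Algebra.TensorProduct.cancelBaseChange A R W W M).symm
    show Module.Finite W (W ⊗[R] (R ⊗[A] M)) ∧ Algebra.Etale W (W ⊗[R] (R ⊗[A] M))
    exact ⟨Module.Finite.equiv e.toLinearEquiv, Algebra.Etale.of_equiv (A := W ⊗[Localization.Away f] (Localization.Away f ⊗[A] M)) e⟩
  refine ⟨?_, ?_⟩
  · exact Module.Finite.of_localizationSpan' (algebraMap A R '' S) hspan
      (Rₚ := fun r => Localization.Away (r : R)) (Mₚ := fun r => Localization.Away (r : R) ⊗[R] (R ⊗[A] M))
      (fun r => TensorProduct.mk R (Localization.Away (r : R)) (R ⊗[A] M) 1) fun r => (key r).1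
  · rw [← RingHom.etale_algebraMap]
    refine RingHom.Etale.ofLocalizationSpan _ _ hspan fun r => ?_
    let W := Localization.Away (r : R)
    letI : Algebra W (Localization.Away (algebraMap R (R ⊗[A] M) (r : R))) :=
      (Localization.awayMap (algebraMap R (R ⊗[A] M)) (r : R)).toAlgebra
    haveI : IsScalarTower R W (Localization.Away (algebraMap R (R ⊗[A] M) (r : R))) :=
      IsScalarTower.of_algebraMap_eq (R := R) (S := W) (A := Localization.Away (algebraMap R (R ⊗[A] M) (r : R))) fun z => by
        refine (IsScalarTower.algebraMap_apply R (R ⊗[A] M) _ z).trans ?_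
        rw [RingHom.algebraMap_toAlgebra (R := W)]
        dsimp only [Localization.awayMap, IsLocalization.Away.map]
        exact (IsLocalization.map_eq _ z).symm
    haveI := (key r).2
    let T := Localization.Away (algebraMap R (R ⊗[A] M) (r : R))
    haveI : IsLocalization (Algebra.algebraMapSubmonoid (R ⊗[A] M) (Submonoid.powers (r : R))) T := by
      rw [Algebra.algebraMapSubmonoid, Submonoid.map_powers]
      infer_instance
    haveI : Algebra.IsPushout R W (R ⊗[A] M) T :=
      .symm <| Algebra.isPushout_of_isLocalization (Submonoid.powers (r : R)) W (R ⊗[A] M) T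
    let e := Algebra.IsPushout.equiv R W (R ⊗[A] M) T
    have het : Algebra.Etale W T := @Algebra.Etale.of_equiv W (W ⊗[R] (R ⊗[A] M)) T _ _ _ _ _ (key r).2 e
    exact RingHom.etale_algebraMap.2 het

theorem FEtOff.baseChange (h : FEtOff A M) (B : Type u) [CommRing B] [IsLocalRing B] [Algebra A B]
    (hB : maximalIdeal B ≤ ((maximalIdeal A).map (algebraMap A B)).radical) : FEtOff B (B ⊗[A] M) := by
  refine fEtOff_of_span (S := algebraMap A B '' maximalIdeal A) (by exact hB) ?_
  rintro _ ⟨f, hf, rfl⟩
  haveI := (h f hf).1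
  haveI := (h f hf).2
  let W := Localization.Away (algebraMap A B f)
  have hu : IsUnit (algebraMap A W f) := by
    rw [IsScalarTower.algebraMap_apply A B W]
    exact IsLocalization.Away.algebraMap_isUnit _
  letI : Algebra (Localization.Away f) W := (IsLocalization.Away.lift f (g := algebraMap A W) hu).toAlgebra
  haveI : IsScalarTower A (Localization.Away f) W := IsScalarTower.of_algebraMap_eq fun z =>
    (IsLocalization.Away.lift_eq f hu z).symm
  let e := (Algebra.TensorProduct.cancelBaseChange A (Localization.Away f) W W M).trans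
    (Algebra.TensorProduct.cancelBaseChange A B W W M).symm
  exact ⟨Module.Finite.equiv e.toLinearEquiv, Algebra.Etale.of_equiv e⟩

end Groth.Agent.PurityReg
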