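import Groth.Agent.PurityReg.QuotDescent
import Groth.Agent.PurityReg.OfHolds
import Groth.Agent.PurityReg.GrFree
import Groth.Agent.PurityReg.Scheme
import Mathlib

/-!
# Purity for covers from purity for a quotient
-/

set_option autoImplicit false
set_option backward.isDefEq.respectTransparency false
set_option backward.isDefEq.respectTransparency.types false
set_option linter.style.haveILetI false

noncomputable section

universe u

open IsLocalRing RingTheory.Sequence

namespace Groth.Agent.PurityReg

variable {A : Type u} [CommRing A] [IsNoetherianRing A] [IsLocalRing A]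

/-- depth and purity pass from a quotient to the ring when regular sequences persist on thickenings -/
theorem holds_of_quotient (J : Ideal A) (hJ : J ≠ ⊤) [IsLocalRing (A ⧸ J)]
    (hd : (3 : ℕ∞) ≤ LocCoh.depth (A ⧸ J) (A ⧸ J))
    (hpow : ∀ fs : List A, IsWeaklyRegular (A ⧸ J) fs → ∀ k : ℕ, IsWeaklyRegular (A ⧸ J ^ k) fs)
    (h0 : FEt.PurityHolds (A ⧸ J)) : (3 : ℕ∞) ≤ LocCoh.depth A A ∧ FEt.PurityHolds A := by
  haveI : IsLocalHom (Ideal.Quotient.mk J) := Function.Surjective.isLocalHom _ Ideal.Quotient.mk_surjective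
  obtain ⟨rs, hl, hm, hr⟩ := (Depth.le_idealDepth_iff_exists
    (Depth.smul_top_ne_top_self (IsLocalRing.maximalIdeal.isMaximal (A ⧸ J)).ne_top) (n := 3)).mp hd
  obtain ⟨fs, rfl⟩ := (List.map_surjective_iff.2 (Ideal.Quotient.mk_surjective (I := J))) rs
  have hfs : IsWeaklyRegular (A ⧸ J) fs := (isWeaklyRegular_map_algebraMap_iff (A ⧸ J) (A ⧸ J) fs).1 hr
  have hfm : ∀ r ∈ fs, r ∈ maximalIdeal A := fun r hr' hu =>
    hm _ (List.mem_map_of_mem hr') (hu.map (Ideal.Quotient.mk J))
  have hpw := hpow fs hfs
  have hA : IsWeaklyRegular A fs := isWeaklyRegular_of_thickenings J hJ fs A fun k => by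
    have e : (J ^ k • ⊤ : Submodule A A) = J ^ k := by rw [smul_eq_mul, Ideal.mul_top]
    exact ((Submodule.quotEquivOfEq _ _ e).isWeaklyRegular_congr fs).2 (hpw k)
  refine ⟨(Depth.le_idealDepth_iff_exists
    (Depth.smul_top_ne_top_self (IsLocalRing.maximalIdeal.isMaximal _).ne_top) (n := 3)).mpr
      ⟨fs, by simpa using hl, hfm, hA⟩, ?_⟩
  match fs, hl, hfs, hfm, hpw, hA with
  | [x, y, z], _, hfs, hfm, hpw, hA =>
    have two : ∀ {R : Type u} [CommRing R] [Algebra A R], IsWeaklyRegular R [x, y, z] →
        RegPair (algebraMap A R x) (algebraMap A R y) := fun {R} _ _ h => by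
      refine regPair_of_isWeaklyRegular ?_
      have h2 : IsWeaklyRegular R [x, y] := ((isWeaklyRegular_append_iff R [x, y] [z]).1 h).1
      exact (isWeaklyRegular_map_algebraMap_iff R R [x, y]).2 h2
    have hxy : RegPair x y := two (R := A) hA
    have hx := hfm x (by simp)
    have hy := hfm y (by simp)
    refine purityHolds_of_pure (hxy.two_le_depth hx hy) ?_
    exact pure_of_quotient J hJ hx hy hxy (fun k => two (hpw k)) (two hfs)
      (pure_of_purityHolds (le_trans (by norm_num) hd) h0)

end Groth.Agent.PurityReg
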