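import Groth.Agent.PurityReg.Off
import Groth.Agent.ParaFUFD.Punctured

/-!
# Saturation of algebras finite etale away from the closed point
-/

set_option autoImplicit false
set_option backward.isDefEq.respectTransparency false
set_option backward.isDefEq.respectTransparency.types false
set_option linter.style.haveILetI false
set_option maxHeartbeats 1000000

noncomputable section

universe u

open IsLocalRing TensorProduct

namespace Groth.Agent.PurityReg

/-- the closed point has depth two on `M` -/
def Sat (A : Type u) [CommRing A] [IsLocalRing A] (M : Type u) [CommRing M] [Algebra A M] : Prop :=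
  ∃ x y : A, x ∈ maximalIdeal A ∧ y ∈ maximalIdeal A ∧ RegPair (algebraMap A M x) (algebraMap A M y)

/-- purity, algebraically -/
def Pure (A : Type u) [CommRing A] [IsLocalRing A] : Prop :=
  ∀ (M : Type u) [CommRing M] [Algebra A M] [Module.Finite A M], FEtOff A M → Sat A M → Algebra.Etale A M

variable {A : Type u} [CommRing A] {N : Type u} [CommRing N] [Algebra A N]

/-- change of localisation -/
def awayTo (f g : A) (h : IsUnit (algebraMap A (Localization.Away g) f)) :
    Localization.Away f ⊗[A] N →ₐ[A] Localization.Away g ⊗[A] N :=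
  Algebra.TensorProduct.map (IsLocalization.Away.liftAlgHom f (f := Algebra.ofId A (Localization.Away g)) h) (AlgHom.id A N)

section

variable (x y : A)

theorem isUnit_left : IsUnit (algebraMap A (Localization.Away (x * y)) x) :=
  isUnit_of_mul_isUnit_left (y := algebraMap A _ y) (by rw [← map_mul]; exact IsLocalization.Away.algebraMap_isUnit _)

theorem isUnit_right : IsUnit (algebraMap A (Localization.Away (x * y)) y) :=
  isUnit_of_mul_isUnit_right (x := algebraMap A _ x) (by rw [← map_mul]; exact IsLocalization.Away.algebraMap_isUnit _)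

end

theorem awayTo_away (f g : A) (h : IsUnit (algebraMap A (Localization.Away g) f)) (w : N) :
    awayTo f g h (away f N w) = away g N w := by
  show Algebra.TensorProduct.map _ (AlgHom.id A N) ((1 : Localization.Away f) ⊗ₜ[A] w) = (1 : Localization.Away g) ⊗ₜ[A] w
  rw [Algebra.TensorProduct.map_tmul, map_one, AlgHom.id_apply]

/-- powers of `f` are cancellable after inverting `f` -/
theorem away_cancel {f : A} (n : ℕ) {a b : Localization.Away f ⊗[A] N} (h : f ^ n • a = f ^ n • b) : a = b := by
  rw [← algebraMap_smul (Localization.Away f) (f ^ n) a, ← algebraMap_smul (Localization.Away f) (f ^ n) b, map_pow] at h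
  exact ((IsLocalization.Away.algebraMap_isUnit f).pow n).smul_left_cancel.1 h

theorem away_div {f : A} (n : ℕ) (a : Localization.Away f ⊗[A] N) : ∃ z, f ^ n • z = a := by
  refine ⟨(↑(((IsLocalization.Away.algebraMap_isUnit (S := Localization.Away f) f).pow n).unit⁻¹) : Localization.Away f) • a, ?_⟩
  rw [← algebraMap_smul (Localization.Away f) (f ^ n), smul_smul, map_pow, IsUnit.mul_val_inv, one_smul]

variable (N) in
/-- sections over the two basic opens -/
def satAlg (x y : A) : Subalgebra A ((Localization.Away x ⊗[A] N) × (Localization.Away y ⊗[A] N)) :=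
  AlgHom.equalizer
    ((awayTo x (x * y) (isUnit_left x y)).comp (AlgHom.fst A _ _))
    ((awayTo y (x * y) (isUnit_right x y)).comp (AlgHom.snd A _ _))

/-- the map to the saturation -/
def toSat (x y : A) : N →ₐ[A] satAlg N x y :=
  ((away x N).prod (away y N)).codRestrict _ fun w => by
    show awayTo x (x * y) _ (away x N w) = awayTo y (x * y) _ (away y N w)
    rw [awayTo_away, awayTo_away]

variable [IsLocalRing A] [IsNoetherianRing A] {x y : A}

omit [IsNoetherianRing A] in
theorem regPair_satAlg (h : FEtOff A N) (hy : y ∈ maximalIdeal A) (hp : RegPair x y) :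
    RegPair (algebraMap A (satAlg N x y) x) (algebraMap A (satAlg N x y) y) := by
  haveI := h.flat hy
  have hx1 : IsUnit (algebraMap A (Localization.Away x ⊗[A] N) x) := by
    rw [IsScalarTower.algebraMap_apply A (Localization.Away x)]
    exact (IsLocalization.Away.algebraMap_isUnit x).map _
  have hy2 : IsUnit (algebraMap A (Localization.Away y ⊗[A] N) y) := by
    rw [IsScalarTower.algebraMap_apply A (Localization.Away y)]
    exact (IsLocalization.Away.algebraMap_isUnit y).map _
  refine ⟨fun w hw => ?_, fun w hw => ?_⟩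
  · have hw' := congrArg Subtype.val hw
    refine Subtype.ext (Prod.ext ?_ ?_)
    · exact hx1.mul_right_eq_zero.1 (congrArg Prod.fst hw')
    · exact (hp.map (Localization.Away y ⊗[A] N)).reg _ (congrArg Prod.snd hw')
  · obtain ⟨⟨⟨z₁, z₂⟩, hz⟩, hzw⟩ := hw
    have h1 := congrArg (fun s => s.1.1) hzw
    have h2 := congrArg (fun s => s.1.2) hzw
    change algebraMap A _ y * w.1.1 = algebraMap A _ x * z₁ at h1
    change algebraMap A _ y * w.1.2 = algebraMap A _ x * z₂ at h2
    set s₁ := ↑hx1.unit⁻¹ * w.1.1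
    set s₂ := ↑hy2.unit⁻¹ * z₂
    have e1 : algebraMap A _ x * s₁ = w.1.1 := by rw [← mul_assoc, IsUnit.mul_val_inv, one_mul]
    have e2 : algebraMap A _ x * s₂ = w.1.2 := by
      rw [mul_left_comm, ← h2, ← mul_assoc, IsUnit.val_inv_mul, one_mul]
    have hmem : (s₁, s₂) ∈ satAlg N x y := by
      show awayTo x (x * y) _ s₁ = awayTo y (x * y) _ s₂
      have hw2 : awayTo x (x * y) (isUnit_left x y) w.1.1 = awayTo y (x * y) (isUnit_right x y) w.1.2 := w.2
      rw [← e1, ← e2, map_mul (awayTo x (x * y) (isUnit_left x y)) (algebraMap A _ x) s₁, map_mul (awayTo y (x * y) (isUnit_right x y)) (algebraMap A _ x) s₂, AlgHom.commutes, AlgHom.commutes] at hw2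
      refine IsUnit.mul_left_cancel ?_ hw2
      rw [IsScalarTower.algebraMap_apply A (Localization.Away (x * y))]
      exact (isUnit_left x y).map _
    exact ⟨⟨_, hmem⟩, Subtype.ext (Prod.ext e1.symm e2.symm)⟩

omit [IsNoetherianRing A] in
theorem bijective_map_toSat (h : FEtOff A N) (hp : RegPair x y) {f : A} (hf : f ∈ maximalIdeal A) :
    Function.Bijective (Algebra.TensorProduct.map (AlgHom.id (Localization.Away f) (Localization.Away f)) (toSat (N := N) x y)) := by
  haveI := h.flat hf
  have hpf := hp.map (Localization.Away f ⊗[A] N)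
  set Φ := Algebra.TensorProduct.map (AlgHom.id (Localization.Away f) (Localization.Away f)) (toSat (N := N) x y)
  have hΦ : ∀ w : N, Φ (away f N w) = away f (satAlg N x y) (toSat x y w) := fun w => by
    show Φ ((1 : Localization.Away f) ⊗ₜ[A] w) = (1 : Localization.Away f) ⊗ₜ[A] toSat x y w
    simp [Φ]
  have hsm : ∀ (r : A) (z : Localization.Away f ⊗[A] N), Φ (r • z) = r • Φ z := fun r z =>
    LinearMap.map_smul_of_tower Φ.toLinearMap r z
  refine ⟨(injective_iff_map_eq_zero Φ).2 fun z hz => ?_, fun z => ?_⟩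
  · obtain ⟨w, n, hw⟩ := away_surj f z
    have hz0 : away f (satAlg N x y) (toSat x y w) = 0 := by
      rw [← hΦ, ← hw, hsm, hz, smul_zero]
    obtain ⟨k, hk⟩ := away_eq_zero.1 hz0
    obtain ⟨a, ha⟩ := away_eq_zero.1 ((map_smul (away x N) (f ^ k) w).trans (congrArg (fun s => s.1.1) hk))
    have h0 : away f N (f ^ k • w) = 0 := by
      refine hpf.reg_pow a _ ?_
      rw [← map_pow, ← AlgHom.commutes (away f N), ← map_mul, ← Algebra.smul_def, ha, map_zero]
    refine away_cancel (k + n) ?_
    rw [smul_zero, pow_add, mul_smul, hw, ← map_smul, h0]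
  · obtain ⟨s, n, hs⟩ := away_surj (M := satAlg N x y) f z
    obtain ⟨u, a, hu, v, b, hv, huv⟩ : ∃ (u : N) (a : ℕ) (_ : x ^ a • s.1.1 = away x N u) (v : N) (b : ℕ)
        (_ : y ^ b • s.1.2 = away y N v), y ^ b • u = x ^ a • v := by
      obtain ⟨u, a, hu⟩ := away_surj x s.1.1
      obtain ⟨v, b, hv⟩ := away_surj y s.1.2
      have hs2 : awayTo x (x * y) (isUnit_left x y) s.1.1 = awayTo y (x * y) (isUnit_right x y) s.1.2 := s.2
      obtain ⟨c, hc⟩ := (away_eq_zero (f := x * y) (w := y ^ b • u - x ^ a • v)).1 (by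
        rw [map_sub, map_smul, map_smul, ← awayTo_away x (x * y) (isUnit_left x y) u, ← awayTo_away y (x * y) (isUnit_right x y) v,
          ← hu, ← hv, map_smul, map_smul, hs2, smul_comm, sub_self])
      refine ⟨x ^ c • u, c + a, ?_, y ^ c • v, c + b, ?_, ?_⟩
      · rw [pow_add, mul_smul, hu, map_smul]
      · rw [pow_add, mul_smul, hv, map_smul]
      · rw [smul_sub, sub_eq_zero] at hc
        simp only [Algebra.smul_def, map_pow, map_mul] at hc ⊢
        linear_combination hc
    have h0 : away f N u * algebraMap A _ y ^ b = away f N v * algebraMap A _ x ^ a := by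
      have := congrArg (away f N) huv
      simp only [Algebra.smul_def, map_pow, map_mul, AlgHom.commutes] at this
      linear_combination this
    obtain ⟨zf, hzu, hzv⟩ := hpf.glue h0
    obtain ⟨w, m, hw⟩ := away_surj f zf
    obtain ⟨k₁, hk₁⟩ := (away_eq_zero (f := f) (w := f ^ m • u - x ^ a • w)).1 (by
      rw [map_sub, map_smul, map_smul, ← hw, hzu]; rw [← map_pow, ← Algebra.smul_def, smul_comm, sub_self])
    obtain ⟨k₂, hk₂⟩ := (away_eq_zero (f := f) (w := f ^ m • v - y ^ b • w)).1 (by
      rw [map_sub, map_smul, map_smul, ← hw, hzv]; rw [← map_pow, ← Algebra.smul_def, smul_comm, sub_self])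
    rw [smul_sub, sub_eq_zero] at hk₁ hk₂
    have e1 : ∀ k, f ^ k₁ • f ^ m • u = f ^ k₁ • x ^ a • w → f ^ (k + k₁ + m) • s.1.1 = away x N (f ^ (k + k₁) • w) := by
      intro k e
      refine away_cancel a ?_
      rw [smul_comm (x ^ a), hu, ← map_smul, ← map_smul, pow_add, mul_smul, pow_add, mul_smul, e,
        ← mul_smul (f ^ k), smul_comm (f ^ k * f ^ k₁)]
    have e2 : ∀ k, f ^ k₂ • f ^ m • v = f ^ k₂ • y ^ b • w → f ^ (k + k₂ + m) • s.1.2 = away y N (f ^ (k + k₂) • w) := by
      intro k e
      refine away_cancel b ?_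
      rw [smul_comm (y ^ b), hv, ← map_smul, ← map_smul, pow_add, mul_smul, pow_add, mul_smul, e,
        ← mul_smul (f ^ k), smul_comm (f ^ k * f ^ k₂)]
    have hsw : f ^ (k₁ + k₂ + m) • s = toSat x y (f ^ (k₁ + k₂) • w) := by
      refine Subtype.ext (Prod.ext ?_ ?_)
      · have := e1 k₂ hk₁
        rw [add_comm k₂ k₁] at this
        exact this
      · exact e2 k₁ hk₂
    obtain ⟨z', hz'⟩ := away_div (k₁ + k₂ + m + n) (away f N (f ^ (k₁ + k₂) • w))
    refine ⟨z', away_cancel (N := satAlg N x y) (k₁ + k₂ + m + n) ?_⟩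
    rw [← hsm, hz', hΦ, ← hsw, map_smul, ← hs, ← mul_smul, ← pow_add]

omit [IsNoetherianRing A] in
theorem fEtOff_satAlg (h : FEtOff A N) (hp : RegPair x y) : FEtOff A (satAlg N x y) := fun f hf => by
  haveI := (h f hf).1
  haveI := (h f hf).2
  let e := AlgEquiv.ofBijective _ (bijective_map_toSat h hp hf)
  exact ⟨Module.Finite.equiv e.toLinearEquiv, Algebra.Etale.of_equiv e⟩

theorem sat_satAlg (h : FEtOff A N) (hx : x ∈ maximalIdeal A) (hy : y ∈ maximalIdeal A) (hp : RegPair x y) :
    Sat A (satAlg N x y) ∧ Module.Finite A (satAlg N x y) := by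
  refine ⟨⟨x, y, hx, hy, regPair_satAlg h hy hp⟩, ?_⟩
  exact finite_of_fEtOff _ (ParaFUFD.ores_punctured_bijective (hp.two_le_depth hx hy)) (fEtOff_satAlg h hp)
    fun w hw => eq_zero_of_away hx (regPair_satAlg h hy hp).reg hw

end Groth.Agent.PurityReg
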