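import Groth.Agent.PurityReg.QuotDescent
import Groth.Agent.PurityReg.NearIso
import Mathlib

/-!
# Purity for complete algebras with a section
-/

set_option autoImplicit false
set_option backward.isDefEq.respectTransparency false
set_option backward.isDefEq.respectTransparency.types false
set_option linter.style.haveILetI false
set_option maxHeartbeats 1000000
set_option synthInstance.maxHeartbeats 200000

noncomputable section

universe u

open IsLocalRing TensorProduct

namespace Groth.Agent.PurityReg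

variable {A : Type u} [CommRing A] [IsLocalRing A]

/-- maps lift to adically complete targets with regular pairs on the thickenings -/
theorem exists_lift_complete {x y : A} (hx : x ∈ maximalIdeal A) (hy : y ∈ maximalIdeal A)
    {B C M : Type u} [CommRing B] [Algebra A B] [CommRing C] [Algebra A C] [CommRing M] [Algebra A M]
    (hM : FEtOff A M) (π : B →ₐ[A] C) (hπ : Function.Surjective π) (K : Ideal B) [IsAdicComplete K B]
    (hkerJ : RingHom.ker π.toRingHom = K) (hW : ∀ k, RegPair (algebraMap A (B ⧸ K ^ k) x) (algebraMap A (B ⧸ K ^ k) y))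
    (hCx : ∀ w : C, algebraMap A C x * w = 0 → w = 0) (ψ : M →ₐ[A] C) :
    ∃ φ : M →ₐ[A] B, ∀ w, π (φ w) = ψ w := by
  let π' : ∀ k, (B ⧸ K ^ (k + 1)) →ₐ[A] C := fun k => Ideal.Quotient.liftₐ (K ^ (k + 1)) π fun b hb => by
    have : b ∈ K := Ideal.pow_le_self k.succ_ne_zero hb
    rw [← hkerJ] at this
    exact this
  have hπ' : ∀ k, Function.Surjective (π' k) := fun k z => by
    obtain ⟨b, rfl⟩ := hπ z
    exact ⟨Ideal.Quotient.mk _ b, rfl⟩
  have hk' : ∀ k, IsNilpotent (RingHom.ker (π' k).toRingHom) := fun k => ⟨k + 1, by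
    have : RingHom.ker (π' k).toRingHom = K.map (Ideal.Quotient.mk (K ^ (k + 1))) := by
      ext z
      obtain ⟨b, rfl⟩ := Ideal.Quotient.mk_surjective z
      rw [Ideal.mem_quotient_iff_mem (Ideal.pow_le_self k.succ_ne_zero)]
      exact SetLike.ext_iff.1 hkerJ b
    rw [this]
    exact ((Ideal.map_pow (Ideal.Quotient.mk (K ^ (k + 1))) K (k + 1)).symm.trans (Ideal.map_quotient_self _))⟩
  choose φ hφ using fun k => exists_lift hM (hπ' k) (hk' k) hx hy (hW (k + 1)) hCx ψ
  have hcomp : ∀ {m n : ℕ} (hle : m ≤ n),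
      (Ideal.Quotient.factorₐ A (Ideal.pow_le_pow_right (I := K) (Nat.succ_le_succ hle))).comp (φ n) = φ m := fun {m n} hle =>
    lift_unique hM (hπ' m) (hk' m) hx (hW (m + 1)).reg _ _ fun w => by
      rw [hφ, ← hφ n w]
      show π' m (Ideal.Quotient.factorₐ A (Ideal.pow_le_pow_right (I := K) (Nat.succ_le_succ hle)) (φ n w)) = π' n (φ n w)
      obtain ⟨b, hb⟩ := Ideal.Quotient.mk_surjective (φ n w)
      rw [← hb]
      rfl
  let f : (n : ℕ) → M →ₐ[A] B ⧸ K ^ n := fun n =>
    (Ideal.Quotient.factorₐ A (Ideal.pow_le_pow_right (Nat.le_succ n))).comp (φ n)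
  have hf : ∀ {m n : ℕ} (hle : m ≤ n), (Ideal.Quotient.factorₐ A (Ideal.pow_le_pow_right hle)).comp (f n) = f m :=
    fun {m n} hle => by
      show _ = (Ideal.Quotient.factorₐ A _).comp (φ m)
      rw [← hcomp hle]
      refine AlgHom.ext fun w => ?_
      obtain ⟨b, hb⟩ := Ideal.Quotient.mk_surjective (φ n w)
      simp only [f, AlgHom.comp_apply, ← hb]
      rfl
  let Φ : M →ₐ[A] B := ((AdicCompletion.ofAlgEquiv K).symm.restrictScalars A).toAlgHom.comp
    (AdicCompletion.liftAlgHom K f hf)
  refine ⟨Φ, fun w => ?_⟩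
  have h1 : Ideal.Quotient.mk (K ^ 1) (Φ w) = f 1 w := by
    show Ideal.Quotient.mk (K ^ 1) ((AdicCompletion.ofAlgEquiv K).symm (AdicCompletion.liftAlgHom K f hf w)) = _
    rw [AdicCompletion.mk_ofAlgEquiv_symm, AdicCompletion.evalₐ_liftAlgHom]
  have h2 : f 1 w = φ 0 w := by rw [← AlgHom.congr_fun (hcomp (Nat.zero_le 1)) w]
  rw [← hφ 0 w, ← h2, ← h1]
  rfl

section Away

variable {R : Type u} [CommRing R] [IsNoetherianRing R] (J : Ideal R) [IsHausdorff J R] {f : R}
  (hreg : ∀ k, ∀ w : R ⧸ J ^ k, Ideal.Quotient.mk (J ^ k) f * w = 0 → w = 0)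
  {B M : Type u} [CommRing B] [Algebra R B] [CommRing M] [Algebra R M] (φ : M →ₐ[R] B)

include hreg in
/-- iso after inverting `f` from iso modulo `J` -/
theorem bijective_awayMap [Module.Finite (Localization.Away f) (Localization.Away f ⊗[R] B)]
    [Algebra.Etale (Localization.Away f) (Localization.Away f ⊗[R] B)]
    [Module.Finite (Localization.Away f) (Localization.Away f ⊗[R] M)]
    [Algebra.Etale (Localization.Away f) (Localization.Away f ⊗[R] M)]
    (hs : ∀ v : B, ∃ (i : ℕ) (w : M), f ^ i • v - φ w ∈ J • (⊤ : Submodule R B))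
    (hi : ∀ w, φ w = 0 → ∃ i : ℕ, f ^ i • w ∈ J • (⊤ : Submodule R M)) :
    Function.Bijective (awayMap φ f) := by
  have hu : ∀ (n : ℕ) {K : Type u} [CommRing K] [Algebra R K] (z : Localization.Away f ⊗[R] K),
      f ^ n • z ∈ J • (⊤ : Submodule R (Localization.Away f ⊗[R] K)) →
        z ∈ J • (⊤ : Submodule R (Localization.Away f ⊗[R] K)) := by
    intro n K _ _ z hz
    let u := ((IsLocalization.Away.algebraMap_isUnit (S := Localization.Away f) f).pow n).unit
    have h1 := Submodule.mem_map_of_mem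
      (f := ((LinearMap.lsmul (Localization.Away f) (Localization.Away f ⊗[R] K) (↑u⁻¹ : Localization.Away f)).restrictScalars R)) hz
    rw [Submodule.map_smul''] at h1
    have h2 : _ ∈ J • (⊤ : Submodule R (Localization.Away f ⊗[R] K)) := Submodule.smul_mono le_rfl le_top h1
    convert h2 using 1
    show z = (↑u⁻¹ : Localization.Away f) • (f ^ n • z)
    rw [← algebraMap_smul (Localization.Away f) (f ^ n) z, smul_smul, map_pow, IsUnit.val_inv_mul, one_smul]
  have hsm : ∀ (n : ℕ) (z : Localization.Away f ⊗[R] M), awayMap φ f (f ^ n • z) = f ^ n • awayMap φ f z := fun n z =>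
    LinearMap.map_smul_of_tower (awayMap φ f).toLinearMap _ _
  refine bijective_of_mod J hreg (Q := Localization.Away f) (awayMap φ f) (fun c => ?_) fun z hz => ?_
  · obtain ⟨v, n, hv⟩ := away_surj f c
    obtain ⟨i, w, hw⟩ := hs v
    obtain ⟨z, hz⟩ := away_div (i + n) (away f M w)
    refine ⟨z, hu (i + n) _ ?_⟩
    have h1 := Submodule.mem_map_of_mem (f := (away f B).toLinearMap) hw
    rw [Submodule.map_smul''] at h1
    have h2 : _ ∈ J • (⊤ : Submodule R (Localization.Away f ⊗[R] B)) := Submodule.smul_mono le_rfl le_top h1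
    convert h2 using 1
    show f ^ (i + n) • (c - awayMap φ f z) = away f B (f ^ i • v - φ w)
    rw [smul_sub, ← hsm, hz, awayMap_away, map_sub, map_smul, ← hv, ← mul_smul, ← pow_add]
  · obtain ⟨w, n, hw⟩ := away_surj f z
    have h0 : away f B (φ w) = 0 := by rw [← awayMap_away, ← hw, hsm, hz, smul_zero]
    obtain ⟨c, hc⟩ := away_eq_zero.1 h0
    obtain ⟨i, hiw⟩ := hi (f ^ c • w) (by rw [map_smul, hc])
    refine hu (i + c + n) _ ?_
    have h1 := Submodule.mem_map_of_mem (f := (away f M).toLinearMap) hiw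
    rw [Submodule.map_smul''] at h1
    have h2 : _ ∈ J • (⊤ : Submodule R (Localization.Away f ⊗[R] M)) := Submodule.smul_mono le_rfl le_top h1
    convert h2 using 1
    show f ^ (i + c + n) • z = away f M (f ^ i • f ^ c • w)
    rw [map_smul, map_smul, ← hw, ← mul_smul, ← mul_smul, ← pow_add, ← pow_add, add_assoc]

omit [IsNoetherianRing R] [IsHausdorff J R] in
/-- a map of saturated algebras bijective on two basic opens is bijective -/
theorem bijective_of_away {x y : R} (hB : RegPair (algebraMap R B x) (algebraMap R B y))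
    (hM : RegPair (algebraMap R M x) (algebraMap R M y))
    (hx : Function.Bijective (awayMap φ x)) (hy : Function.Bijective (awayMap φ y)) : Function.Bijective φ := by
  have hinj : Function.Injective φ := fun a b hab => away_injective hM.reg (hx.1 (by rw [awayMap_away, awayMap_away, hab]))
  refine ⟨hinj, fun b => ?_⟩
  have hsurj : ∀ g : R, Function.Surjective (awayMap φ g) → ∃ (n : ℕ) (u : M), φ u = g ^ n • b := by
    intro g hg
    obtain ⟨z, hz⟩ := hg (away g B b)
    obtain ⟨w, n, hw⟩ := away_surj g z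
    have h0 : away g B (φ w - g ^ n • b) = 0 := by
      rw [map_sub, map_smul, ← awayMap_away, ← hw, ← hz, sub_eq_zero]
      exact LinearMap.map_smul_of_tower (awayMap φ g).toLinearMap _ _
    obtain ⟨c, hc⟩ := away_eq_zero.1 h0
    exact ⟨c + n, g ^ c • w, by rw [map_smul, ← sub_eq_zero, pow_add, mul_smul, ← smul_sub, hc]⟩
  obtain ⟨n, u, hu⟩ := hsurj x hx.2
  obtain ⟨m, v, hv⟩ := hsurj y hy.2
  have e : u * algebraMap R M y ^ m = v * algebraMap R M x ^ n := hinj (by
    rw [map_mul, map_mul, map_pow, map_pow, AlgHom.commutes, AlgHom.commutes, hu, hv, Algebra.smul_def, Algebra.smul_def,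
      map_pow, map_pow]
    ring)
  obtain ⟨z, hz, -⟩ := hM.glue e
  refine ⟨z, away_injective hB.reg (away_cancel n ?_)⟩
  rw [← map_smul, ← map_smul, ← map_smul, ← hu, hz, Algebra.smul_def, map_pow]

end Away

section Main

variable [IsNoetherianRing A] {R : Type u} [CommRing R] [IsLocalRing R] [IsNoetherianRing R] [Algebra A R]
  [IsLocalHom (algebraMap A R)] [Module.Flat A R] (J : Ideal R) [IsAdicComplete J R]

omit [IsNoetherianRing A] [IsNoetherianRing R] [IsAdicComplete J R] [IsLocalHom (algebraMap A R)] [Module.Flat A R] in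
/-- base change at `f` of a finite etale algebra -/
theorem fEt_away_baseChange {C : Type u} [CommRing C] [Algebra A C] (hC : FEtOff A C) {f : A} (hf : f ∈ maximalIdeal A) :
    Module.Finite (Localization.Away (algebraMap A R f)) (Localization.Away (algebraMap A R f) ⊗[R] (R ⊗[A] C)) ∧
      Algebra.Etale (Localization.Away (algebraMap A R f)) (Localization.Away (algebraMap A R f) ⊗[R] (R ⊗[A] C)) := by
  haveI := (hC f hf).1
  haveI := (hC f hf).2
  let W := Localization.Away (algebraMap A R f)
  have hu : IsUnit (algebraMap A W f) := by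
    rw [IsScalarTower.algebraMap_apply A R W]
    exact IsLocalization.Away.algebraMap_isUnit _
  letI : Algebra (Localization.Away f) W := (IsLocalization.Away.lift f (g := algebraMap A W) hu).toAlgebra
  haveI : IsScalarTower A (Localization.Away f) W := IsScalarTower.of_algebraMap_eq fun z =>
    (IsLocalization.Away.lift_eq f hu z).symm
  let e := (Algebra.TensorProduct.cancelBaseChange A (Localization.Away f) W W C).trans
    (Algebra.TensorProduct.cancelBaseChange A R W W C).symm
  exact ⟨Module.Finite.equiv e.toLinearEquiv, Algebra.Etale.of_equiv e⟩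

/-- descent of etaleness to the base through a point over the closed point -/
theorem etale_of_bijective (P : Ideal R) [P.IsPrime] (hPm : P ≠ maximalIdeal R)
    (hP : (maximalIdeal A).map (algebraMap A R) ≤ P) {C M : Type u} [CommRing C] [Algebra A C] [Module.Finite A C]
    [CommRing M] [Algebra R M] (hM : FEtOff R M) (e : M ≃ₐ[R] R ⊗[A] C) : Algebra.Etale A C := by
  let L := Localization.AtPrime P
  haveI : IsLocalHom (algebraMap A L) := ⟨fun a ha => by
    by_contra hu
    rw [IsScalarTower.algebraMap_apply A R L] at ha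
    exact (IsLocalization.AtPrime.isUnit_to_map_iff L P _).1 ha (hP (Ideal.mem_map_of_mem _ hu))⟩
  haveI : Module.Flat A L := Module.Flat.trans A R L
  haveI : Module.FaithfullyFlat A L := Module.FaithfullyFlat.of_flat_of_isLocalHom
  obtain ⟨-, -, het⟩ := hM.atPrime P hPm
  haveI := het
  haveI : Algebra.Etale L (L ⊗[A] C) := Algebra.Etale.of_equiv
    ((Algebra.TensorProduct.congr (AlgEquiv.refl : L ≃ₐ[L] L) e).trans (Algebra.TensorProduct.cancelBaseChange A R L L C))
  exact Algebra.Etale.of_etale_tensorProduct_of_faithfullyFlat (R := A) L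

variable {x y : A} (hx : x ∈ maximalIdeal A) (hy : y ∈ maximalIdeal A) (hxy : RegPair x y)
  (hflat : ∀ k, Module.Flat A (R ⧸ J ^ k))

omit [IsNoetherianRing A] [IsLocalHom (algebraMap A R)] [Module.Flat A R] [IsLocalRing R] [IsAdicComplete J R] in
include hflat in
theorem regPair_thickening {C : Type u} [CommRing C] [Algebra A C] {a b : A}
    (h : RegPair (algebraMap A C a) (algebraMap A C b)) (k : ℕ) :
    RegPair (algebraMap A ((R ⊗[A] C) ⧸ (J.map (algebraMap R (R ⊗[A] C))) ^ k) a)
      (algebraMap A ((R ⊗[A] C) ⧸ (J.map (algebraMap R (R ⊗[A] C))) ^ k) b) := by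
  haveI := hflat k
  rw [← Ideal.map_pow]
  let e := ((Algebra.TensorProduct.quotIdealMapEquivQuotTensor (R ⊗[A] C) (J ^ k)).trans
    (Algebra.TensorProduct.cancelBaseChange A R (R ⧸ J ^ k) (R ⧸ J ^ k) C)).symm
  have h1 := (h.map (C ⊗[A] (R ⧸ J ^ k))).of_ringEquiv
    ((Algebra.TensorProduct.comm A C (R ⧸ J ^ k)).toRingEquiv.trans e.toRingEquiv)
  have he : ∀ z : A, ((Algebra.TensorProduct.comm A C (R ⧸ J ^ k)).toRingEquiv.trans e.toRingEquiv)
      (algebraMap A (C ⊗[A] (R ⧸ J ^ k)) z) = algebraMap A _ z := fun z => by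
    show e ((Algebra.TensorProduct.comm A C (R ⧸ J ^ k)) (algebraMap A _ z)) = _
    rw [AlgEquiv.commutes, IsScalarTower.algebraMap_apply A (R ⧸ J ^ k) ((R ⧸ J ^ k) ⊗[A] C), AlgEquiv.commutes]
    rfl
  rw [← IsScalarTower.algebraMap_apply, ← IsScalarTower.algebraMap_apply, he, he] at h1
  exact h1

include hx hy hxy hflat in
/-- the algebra comes from the base -/
theorem exists_equiv_baseChange [Algebra R A] [IsScalarTower A R A]
    (hker : RingHom.ker (algebraMap R A) = J) {M : Type u} [CommRing M] [Algebra R M] [Module.Finite R M]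
    (hM : FEtOff R M) (hS : Sat R M) :
    ∃ (C : Type u) (_ : CommRing C) (_ : Algebra A C), Module.Finite A C ∧ FEtOff A C ∧ Sat A C ∧
      Nonempty (M ≃ₐ[R] R ⊗[A] C) := by
  obtain ⟨x₀, y₀, hx₀, hy₀, hp₀⟩ := hS
  have hmem : ∀ a ∈ maximalIdeal A, algebraMap A R a ∈ maximalIdeal R := fun a ha hu => ha (isUnit_of_map_unit _ a hu)
  have hpM : RegPair (algebraMap R M (algebraMap A R x)) (algebraMap R M (algebraMap A R y)) :=
    hM.changePair hx₀ hy₀ hp₀ (hxy.map R)
  have hsec : ∀ a : A, algebraMap R A (algebraMap A R a) = a := fun a => (IsScalarTower.algebraMap_apply A R A a).symm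
  have hsur : Function.Surjective (algebraMap R A) := fun a => ⟨_, hsec a⟩
  have hN : FEtOff A (A ⊗[R] M) := hM.baseChange A
    ((IsLocalRing.map_maximalIdeal_of_surjective (algebraMap R A) hsur).ge.trans Ideal.le_radical)
  obtain ⟨hsat, hfin⟩ := sat_satAlg hN hx hy hxy
  refine ⟨satAlg (A ⊗[R] M) x y, inferInstance, inferInstance, hfin, fEtOff_satAlg hN hxy, hsat, ?_⟩
  obtain ⟨C, _, _, ν, hCf, hCF, hCp, hsν, hiν⟩ : ∃ (C : Type u) (_ : CommRing C) (_ : Algebra A C)
      (ν : A ⊗[R] M →ₐ[A] C), Module.Finite A C ∧ FEtOff A C ∧ RegPair (algebraMap A C x) (algebraMap A C y) ∧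
      (∀ f ∈ maximalIdeal A, ∀ c : C, ∃ (i : ℕ) (w : A ⊗[R] M), f ^ i • c = ν w) ∧
      (∀ f ∈ maximalIdeal A, ∀ w, ν w = 0 → ∃ n : ℕ, f ^ n • w = 0) ∧ Nonempty (C ≃ₐ[A] satAlg (A ⊗[R] M) x y) :=
    ⟨satAlg (A ⊗[R] M) x y, inferInstance, inferInstance, toSat x y, hfin, fEtOff_satAlg hN hxy,
      regPair_satAlg hN hy hxy, fun f hf c => exists_pow_smul_eq_toSat hN hxy hf c, fun f hf w hw => away_eq_zero.1
        ((bijective_map_toSat hN hxy hf).1 (by
          rw [map_zero]
          show Algebra.TensorProduct.map _ _ ((1 : Localization.Away f) ⊗ₜ[A] w) = 0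
          rw [Algebra.TensorProduct.map_tmul, hw, tmul_zero])), ⟨AlgEquiv.refl⟩⟩
  obtain ⟨hiν, ⟨εC⟩⟩ := hiν
  letI : Algebra R C := ((algebraMap A C).comp (algebraMap R A)).toAlgebra
  haveI : IsScalarTower R A C := IsScalarTower.of_algebraMap_eq' rfl
  haveI : IsScalarTower A R C := IsScalarTower.of_algebraMap_eq fun a => by
    show algebraMap A C a = algebraMap A C (algebraMap R A (algebraMap A R a))
    rw [hsec]
  let B := R ⊗[A] C
  let π : B →ₐ[R] C := Algebra.TensorProduct.lift (Algebra.ofId R C) (AlgHom.id A C) fun _ _ => .all _ _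
  have hπ : Function.Surjective π := fun c => ⟨1 ⊗ₜ c, by
    show Algebra.TensorProduct.lift _ _ _ ((1 : R) ⊗ₜ[A] c) = c
    rw [Algebra.TensorProduct.lift_tmul, map_one, one_mul, AlgHom.id_apply]⟩
  set K : Ideal B := J.map (algebraMap R B) with hK
  have hkerπ : RingHom.ker π.toRingHom = K := by
    refine le_antisymm (fun b hb => ?_) ?_
    · have key : ∀ b : B, b - (1 : R) ⊗ₜ[A] π b ∈ K := by
        intro b
        induction b using TensorProduct.induction_on with
        | zero => simp
        | add u v hu hv => rw [map_add, tmul_add, add_sub_add_comm]; exact K.add_mem hu hv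
        | tmul r c =>
          have hr : r - algebraMap A R (algebraMap R A r) ∈ J := by
            rw [← hker, RingHom.mem_ker, map_sub, hsec, sub_self]
          have h1 : r ⊗ₜ[A] c - (1 : R) ⊗ₜ[A] π (r ⊗ₜ[A] c) =
              algebraMap R B (r - algebraMap A R (algebraMap R A r)) * ((1 : R) ⊗ₜ[A] c) := by
            rw [Algebra.TensorProduct.algebraMap_apply, Algebra.TensorProduct.tmul_mul_tmul]
            simp only [Algebra.algebraMap_self_apply, mul_one, one_mul, sub_tmul]
            congr 1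
            show (1 : R) ⊗ₜ[A] (Algebra.TensorProduct.lift _ _ _ (r ⊗ₜ[A] c)) = _
            rw [Algebra.TensorProduct.lift_tmul, Algebra.algebraMap_eq_smul_one (algebraMap R A r), TensorProduct.smul_tmul]
            congr 1
            show algebraMap A C (algebraMap R A r) * c = _
            rw [Algebra.smul_def]
          rw [h1]
          exact Ideal.mul_mem_right _ _ (Ideal.mem_map_of_mem _ hr)
      have h0 : π b = 0 := hb
      simpa [h0] using key b
    · rw [hK, Ideal.map_le_iff_le_comap]
      intro r hr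
      show π (algebraMap R B r) = 0
      rw [AlgHom.commutes]
      show algebraMap A C (algebraMap R A r) = 0
      rw [show algebraMap R A r = 0 from (hker.symm ▸ hr : r ∈ RingHom.ker (algebraMap R A)), map_zero]
  haveI : Module.Finite R B := inferInstance
  haveI : IsAdicComplete K B := by
    haveI := CplFin.isAdicComplete_of_finite R J B
    exact (IsAdicComplete.map_algebraMap_iff _ B).2 inferInstance
  let ψ : M →ₐ[R] C := (ν.restrictScalars R).comp Algebra.TensorProduct.includeRight
  have hBk : ∀ k, RegPair (algebraMap R (B ⧸ K ^ k) (algebraMap A R x)) (algebraMap R (B ⧸ K ^ k) (algebraMap A R y)) := fun k => by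
    rw [← IsScalarTower.algebraMap_apply, ← IsScalarTower.algebraMap_apply]
    exact regPair_thickening J hflat hCp k
  have hBpair : RegPair (algebraMap R B (algebraMap A R x)) (algebraMap R B (algebraMap A R y)) := by
    rw [← IsScalarTower.algebraMap_apply, ← IsScalarTower.algebraMap_apply]
    have h1 := (hCp.map (C ⊗[A] R)).of_ringEquiv (Algebra.TensorProduct.comm A C R).toRingEquiv
    have e : ∀ z : A, (Algebra.TensorProduct.comm A C R).toRingEquiv (algebraMap A (C ⊗[A] R) z) = algebraMap A B z :=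
      fun z => (Algebra.TensorProduct.comm A C R).commutes z
    rw [← IsScalarTower.algebraMap_apply, ← IsScalarTower.algebraMap_apply, e, e] at h1
    exact h1
  obtain ⟨φ, hφ⟩ := exists_lift_complete (hmem x hx) (hmem y hy) hM π hπ K hkerπ hBk (fun w hw => hCp.reg w (by
    rwa [← IsScalarTower.algebraMap_apply] at hw)) ψ
  have hloc : ∀ f ∈ maximalIdeal A, (∀ k, ∀ w : R ⧸ J ^ k, Ideal.Quotient.mk (J ^ k) (algebraMap A R f) * w = 0 → w = 0) →
      Function.Bijective (awayMap φ (algebraMap A R f)) := by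
    intro f hf hreg
    haveI := (fEt_away_baseChange (R := R) hCF hf).1
    haveI := (fEt_away_baseChange (R := R) hCF hf).2
    haveI := (hM _ (hmem f hf)).1
    haveI := (hM _ (hmem f hf)).2
    have hsmC : ∀ (i : ℕ) (c : C), algebraMap A R f ^ i • c = f ^ i • c := fun i c => by rw [← map_pow, algebraMap_smul]
    refine bijective_awayMap J hreg φ (fun v => ?_) fun w hw => ?_
    · obtain ⟨i, w', hw'⟩ := hsν f hf (π v)
      obtain ⟨w, rfl⟩ := Algebra.TensorProduct.includeRight_surjective M (R := R) (S := A) hsur w'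
      refine ⟨i, w, ?_⟩
      have h0 : π (algebraMap A R f ^ i • v - φ w) = 0 := by
        rw [map_sub, map_smul, hφ, sub_eq_zero, hsmC]
        exact hw'
      have h1 : algebraMap A R f ^ i • v - φ w ∈ K := by rw [← hkerπ]; exact h0
      rw [Ideal.smul_top_eq_map]
      exact h1
    · obtain ⟨n, hn⟩ := hiν f hf ((1 : A) ⊗ₜ[R] w) (by
        show ψ w = 0
        rw [← hφ, hw, map_zero])
      refine ⟨n, ?_⟩
      have hn' : (1 : A) ⊗ₜ[R] ((algebraMap A R f) ^ n • w) = 0 := by
        rw [TensorProduct.tmul_smul, ← map_pow, ← hn, ← algebraMap_smul A (algebraMap A R (f ^ n)) ((1 : A) ⊗ₜ[R] w), hsec]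
      let ε : (R ⧸ J) →ₐ[R] A := Ideal.Quotient.liftₐ J (Algebra.ofId R A) fun r hr => (hker.symm ▸ hr : r ∈ RingHom.ker (algebraMap R A))
      have hε : Function.Bijective ε := by
        refine ⟨(injective_iff_map_eq_zero ε).2 fun z hz => ?_, fun a => ?_⟩
        · obtain ⟨z, rfl⟩ := Ideal.Quotient.mk_surjective z
          rw [Ideal.Quotient.eq_zero_iff_mem, ← hker]
          exact hz
        · obtain ⟨r, rfl⟩ := hsur a
          exact ⟨Ideal.Quotient.mk J r, rfl⟩
      have hinj : Function.Injective (TensorProduct.map ε.toLinearMap (LinearMap.id : M →ₗ[R] M)) :=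
        (TensorProduct.congr (AlgEquiv.ofBijective ε hε).toLinearEquiv (LinearEquiv.refl R M)).injective
      have h2 : (1 : R ⧸ J) ⊗ₜ[R] ((algebraMap A R f) ^ n • w) = 0 := hinj (by
        rw [TensorProduct.map_tmul, map_zero]
        show (ε 1) ⊗ₜ[R] _ = 0
        rw [map_one]
        exact hn')
      exact (mem_smul_top_iff_tmul J _).1 h2
  have hregx : ∀ k, ∀ w : R ⧸ J ^ k, Ideal.Quotient.mk (J ^ k) (algebraMap A R x) * w = 0 → w = 0 := fun k => by
    haveI := hflat k
    exact (hxy.map (R ⧸ J ^ k)).reg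
  have hyx : RegPair y x := regPair_of_isWeaklyRegular
    (IsLocalRing.isWeaklyRegular_of_perm_of_subset_maximalIdeal hxy.isWeaklyRegular (List.Perm.swap y x [])
      (fun r hr => by rcases List.mem_pair.1 hr with rfl | rfl <;> assumption))
  have hregy : ∀ k, ∀ w : R ⧸ J ^ k, Ideal.Quotient.mk (J ^ k) (algebraMap A R y) * w = 0 → w = 0 := fun k => by
    haveI := hflat k
    exact (hyx.map (R ⧸ J ^ k)).reg
  have hb := bijective_of_away φ hBpair hpM (hloc x hx hregx) (hloc y hy hregy)
  exact ⟨(AlgEquiv.ofBijective φ hb).trans (Algebra.TensorProduct.congr AlgEquiv.refl εC)⟩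

include hx hy hxy hflat in
/-- purity for a complete algebra with a section -/
theorem pure_of_section [Algebra R A] [IsScalarTower A R A] (hker : RingHom.ker (algebraMap R A) = J)
    (P : Ideal R) [P.IsPrime] (hPm : P ≠ maximalIdeal R) (hP : (maximalIdeal A).map (algebraMap A R) ≤ P) :
    Pure R := by
  intro M _ _ _ hM hS
  obtain ⟨C, _, _, hCf, -, -, ⟨e⟩⟩ := exists_equiv_baseChange J hx hy hxy hflat hker hM hS
  haveI := hCf
  haveI := etale_of_bijective P hPm hP hM e
  exact Algebra.Etale.of_equiv e.symm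

end Main

end Groth.Agent.PurityReg
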