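import Groth.Agent.LimSch.DescendObj
import Mathlib

/-!
# Spreading finite etale algebras and maps out of a localization
-/

set_option autoImplicit false
set_option backward.isDefEq.respectTransparency false
set_option backward.isDefEq.respectTransparency.types false
set_option linter.style.haveILetI false
set_option maxHeartbeats 1000000

noncomputable section

universe u

open TensorProduct CategoryTheory

namespace Groth.Agent.PurityReg

variable {R : Type u} [CommRing R] (S : Submonoid R)

/-- maps out of finitely presented algebras into a localization come from a single denominator -/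
theorem exists_away_lift {E : Type u} [CommRing E] [Algebra R E] [Algebra.FinitePresentation R E]
    {M : Type u} [CommRing M] [Algebra R M] {M' : Type u} [CommRing M'] [Algebra M M'] [Algebra R M']
    [IsScalarTower R M M'] [IsLocalization (Algebra.algebraMapSubmonoid M S) M'] (β : E →ₐ[R] M') :
    ∃ r ∈ S, ∀ (L : Type u) [CommRing L] [Algebra M L] [Algebra R L] [IsScalarTower R M L]
      [IsLocalization.Away (algebraMap R M r) L] (ψ : L →ₐ[M] M'), ∃ γ : E →ₐ[R] L, ∀ e, ψ (γ e) = β e := by
  classical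
  obtain ⟨n, π, hπ, s, hs⟩ := Algebra.FinitePresentation.out (R := R) (A := E)
  choose md hdi using fun i : Fin n =>
    IsLocalization.surj (Algebra.algebraMapSubmonoid M S) (β (π (MvPolynomial.X i)))
  choose σ hσS hσ using fun i : Fin n => Submonoid.mem_map.1 (md i).2.2
  let r₀ : R := ∏ i, σ i
  have hr₀ : r₀ ∈ S := S.prod_mem fun i _ => hσS i
  let L₀ := Localization.Away (algebraMap R M r₀)
  let ν : MvPolynomial (Fin n) R →ₐ[R] L₀ := MvPolynomial.aeval fun i =>
    IsLocalization.mk' L₀ ((md i).1 * algebraMap R M (∏ j ∈ Finset.univ.erase i, σ j))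
      (⟨algebraMap R M r₀, Submonoid.mem_powers _⟩ : Submonoid.powers (algebraMap R M r₀))
  have hu₀ : IsUnit (algebraMap M M' (algebraMap R M r₀)) :=
    IsLocalization.map_units M' (⟨_, r₀, hr₀, rfl⟩ : Algebra.algebraMapSubmonoid M S)
  let ψ₀ : L₀ →+* M' := IsLocalization.Away.lift (algebraMap R M r₀) hu₀
  have hψ₀ : ∀ m, ψ₀ (algebraMap M L₀ m) = algebraMap M M' m := fun m => IsLocalization.Away.lift_eq _ hu₀ m
  let ψ₀' : L₀ →ₐ[R] M' :=
    { toRingHom := ψ₀
      commutes' := fun z => by
        show ψ₀ (algebraMap R L₀ z) = algebraMap R M' z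
        rw [IsScalarTower.algebraMap_apply R M L₀, hψ₀, ← IsScalarTower.algebraMap_apply] }
  have hν : ψ₀'.comp ν = β.comp π := MvPolynomial.algHom_ext fun i => by
    refine hu₀.mul_left_cancel ?_
    show _ * ψ₀ (ν (MvPolynomial.X i)) = _ * β (π (MvPolynomial.X i))
    rw [← hψ₀, ← map_mul, show ν (MvPolynomial.X i) = IsLocalization.mk' L₀
      ((md i).1 * algebraMap R M (∏ j ∈ Finset.univ.erase i, σ j))
      (⟨algebraMap R M r₀, Submonoid.mem_powers _⟩ : Submonoid.powers (algebraMap R M r₀)) from MvPolynomial.aeval_X _ i,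
      IsLocalization.mk'_spec'_mk, hψ₀, hψ₀, map_mul, ← hdi, ← hσ i]
    have hprod : r₀ = σ i * ∏ j ∈ Finset.univ.erase i, σ j := (Finset.mul_prod_erase _ _ (Finset.mem_univ i)).symm
    rw [hprod, map_mul, map_mul]
    ring
  have hzero : ∀ z ∈ s, ∃ τ ∈ S, algebraMap M L₀ (algebraMap R M τ) * ν z = 0 := by
    intro z hz
    obtain ⟨μ, ⟨_, k, rfl⟩, hμ⟩ := IsLocalization.exists_mk'_eq (Submonoid.powers (algebraMap R M r₀)) (ν z)
    have h0 : algebraMap M M' μ = 0 := by
      have h1 := congrArg ψ₀ (IsLocalization.mk'_spec' L₀ μ (⟨_, k, rfl⟩ : Submonoid.powers (algebraMap R M r₀)))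
      rw [hμ, map_mul, hψ₀, hψ₀, show ψ₀ (ν z) = β (π z) from AlgHom.congr_fun hν z,
        show π z = 0 from (hs ▸ Ideal.subset_span hz : z ∈ RingHom.ker π), map_zero, mul_zero] at h1
      exact h1.symm
    obtain ⟨⟨_, τ, hτ, rfl⟩, hτμ⟩ := (IsLocalization.map_eq_zero_iff (Algebra.algebraMapSubmonoid M S) M' μ).1 h0
    refine ⟨τ, hτ, ?_⟩
    rw [← hμ, IsLocalization.mul_mk'_eq_mk'_of_mul, hτμ, IsLocalization.mk'_zero]
  choose τ hτS hτ using hzero
  let T : R := ∏ z ∈ s.attach, τ z.1 z.2
  refine ⟨r₀ * T, S.mul_mem hr₀ (S.prod_mem fun z _ => hτS z.1 z.2), fun L _ _ _ _ _ ψ => ?_⟩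
  have huL : IsUnit (algebraMap M L (algebraMap R M (r₀ * T))) := IsLocalization.Away.algebraMap_isUnit _
  rw [map_mul, map_mul, IsUnit.mul_iff] at huL
  let χ : L₀ →+* L := IsLocalization.Away.lift (algebraMap R M r₀) huL.1
  have hχ : ∀ m, χ (algebraMap M L₀ m) = algebraMap M L m := fun m => IsLocalization.Away.lift_eq _ huL.1 m
  let χ' : L₀ →ₐ[R] L :=
    { toRingHom := χ
      commutes' := fun z => by
        show χ (algebraMap R L₀ z) = algebraMap R L z
        rw [IsScalarTower.algebraMap_apply R M L₀, hχ, ← IsScalarTower.algebraMap_apply] }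
  have hker : RingHom.ker π ≤ RingHom.ker (χ'.comp ν) := by
    show RingHom.ker π.toRingHom ≤ _
    rw [← hs, Ideal.span_le]
    intro z hz
    have hdvd : τ z hz ∣ T := Finset.dvd_prod_of_mem (fun y : s => τ y.1 y.2) (Finset.mem_attach s ⟨z, hz⟩)
    have h1 := congrArg χ (hτ z hz)
    rw [map_mul, hχ, map_zero] at h1
    exact (isUnit_of_dvd_unit (map_dvd (algebraMap M L) (map_dvd (algebraMap R M) hdvd)) huL.2).mul_right_eq_zero.1 h1
  let γ : E →ₐ[R] L := AlgHom.liftOfSurjective π hπ (χ'.comp ν) hker
  have hψχ : ∀ w, ψ (χ w) = ψ₀ w := fun w => by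
    have : ψ.toRingHom.comp χ = ψ₀ :=
      IsLocalization.ringHom_ext (Submonoid.powers (algebraMap R M r₀)) (RingHom.ext fun m => by
        show ψ (χ (algebraMap M L₀ m)) = ψ₀ (algebraMap M L₀ m)
        rw [hχ, hψ₀, AlgHom.commutes])
    exact RingHom.congr_fun this w
  refine ⟨γ, fun e => ?_⟩
  obtain ⟨z, rfl⟩ := hπ e
  rw [show γ (π z) = χ' (ν z) from AlgHom.liftOfSurjective_apply π hπ _ hker z]
  exact (hψχ (ν z)).trans (AlgHom.congr_fun hν z)

theorem exists_good_denominator {A : Type u} [CommRing A] [Algebra R A] [IsLocalization S A]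
    {B : Type u} [CommRing B] [Algebra A B] [Algebra R B] [IsScalarTower R A B]
    [Module.Finite A B] [Algebra.Etale A B] {E : Type u} [CommRing E] [Algebra R E] [Algebra E B] [IsScalarTower R E B]
    [Algebra.FinitePresentation R E] [IsLocalization (Algebra.algebraMapSubmonoid E S) B] :
    ∃ r ∈ S, ∀ (R' : Type u) [CommRing R'] [Algebra R R'], IsUnit (algebraMap R R' r) →
        Module.Finite R' (R' ⊗[R] E) ∧ Algebra.Etale R' (R' ⊗[R] E) := by
  classical
  -- integrality of generators
  obtain ⟨G, hG⟩ := (inferInstance : Algebra.FiniteType R E).out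
  have hint : ∀ e : E, ∃ τ ∈ S, IsIntegral R (algebraMap R E τ * e) := fun e => by
    obtain ⟨τ, hτ⟩ := (Algebra.IsIntegral.isIntegral (R := A) (algebraMap E B e)).exists_multiple_integral_of_isLocalization S
    obtain ⟨q, hq, hq0⟩ := hτ
    have h1 : algebraMap E B (Polynomial.aeval (algebraMap R E τ * e) q) = 0 := by
      rw [← Polynomial.aeval_algebraMap_apply, map_mul, ← IsScalarTower.algebraMap_apply, ← Algebra.smul_def]
      exact hq0
    obtain ⟨⟨_, τ', hτ', rfl⟩, h2⟩ := (IsLocalization.map_eq_zero_iff (Algebra.algebraMapSubmonoid E S) B _).1 h1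
    refine ⟨τ * τ', S.mul_mem τ.2 hτ', ?_⟩
    rw [show algebraMap R E (τ * τ') * e = algebraMap R E τ' * (algebraMap R E τ * e) by rw [map_mul]; ring]
    rcases Nat.eq_zero_or_pos q.natDegree with h0 | h0
    · have h3 : algebraMap R E τ' = 0 := by
        rw [hq.natDegree_eq_zero.1 h0, map_one, mul_one] at h2
        exact h2
      rw [h3, zero_mul]
      exact isIntegral_zero
    · refine ⟨q.scaleRoots τ', (Polynomial.monic_scaleRoots_iff τ').2 hq, ?_⟩
      rw [Polynomial.scaleRoots_eval₂_mul, ← Nat.succ_pred_eq_of_pos h0, pow_succ, mul_assoc]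
      rw [show algebraMap R E τ' * Polynomial.eval₂ (algebraMap R E) (algebraMap R E τ * e) q = 0 from h2, mul_zero]
  choose τ hτS hτ using hint
  let r₁ : R := ∏ g ∈ G, τ g
  -- etale locus
  let Z : Set (PrimeSpectrum E) := (Algebra.etaleLocus R E)ᶜ
  have hcl : IsClosed Z := (Algebra.isOpen_etaleLocus (R := R) (A := E)).isClosed_compl
  have hdis : ∀ Q : PrimeSpectrum E, Disjoint (Algebra.algebraMapSubmonoid E S : Set E) Q.asIdeal →
      Algebra.IsEtaleAt R Q.asIdeal := fun Q hQ => by
    let Q' : Ideal B := Q.asIdeal.map (algebraMap E B)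
    haveI : Q'.IsPrime := IsLocalization.isPrime_of_isPrime_disjoint _ B _ Q.isPrime hQ
    haveI : IsLocalization.AtPrime (Localization.AtPrime Q') Q.asIdeal := by
      have h := IsLocalization.isLocalization_isLocalization_atPrime_isLocalization (Algebra.algebraMapSubmonoid E S) (Localization.AtPrime Q') Q'
      simp only [Q', IsLocalization.comap_map_of_isPrime_disjoint (Algebra.algebraMapSubmonoid E S) B Q.isPrime hQ] at h
      exact h
    haveI : Algebra.FormallyEtale R A := Algebra.FormallyEtale.of_isLocalization S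
    haveI : Algebra.FormallyEtale R B := Algebra.FormallyEtale.comp R A B
    haveI : Algebra.FormallyEtale B (Localization.AtPrime Q') := Algebra.FormallyEtale.of_isLocalization Q'.primeCompl
    haveI : Algebra.FormallyEtale R (Localization.AtPrime Q') := Algebra.FormallyEtale.comp R B _
    show Algebra.FormallyEtale R (Localization.AtPrime Q.asIdeal)
    exact Algebra.FormallyEtale.of_equiv
      ((IsLocalization.algEquiv Q.asIdeal.primeCompl (Localization.AtPrime Q') (Localization.AtPrime Q.asIdeal)).restrictScalars R)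
  obtain ⟨J, hJ⟩ := PrimeSpectrum.isClosed_iff_zeroLocus_ideal Z |>.1 hcl
  have hJS : ¬ Disjoint (Algebra.algebraMapSubmonoid E S : Set E) J := fun hd => by
    obtain ⟨Q, hQ, hJQ, hQd⟩ := Ideal.exists_le_prime_disjoint J (Algebra.algebraMapSubmonoid E S) hd.symm
    have h1 : (⟨Q, hQ⟩ : PrimeSpectrum E) ∈ Z := by rw [hJ]; exact hJQ
    exact h1 (hdis ⟨Q, hQ⟩ hQd.symm)
  obtain ⟨_, ⟨r₂, hr₂, rfl⟩, hr₂J⟩ := Set.not_disjoint_iff.1 hJS
  have hsub : (PrimeSpectrum.basicOpen (algebraMap R E r₂) : Set (PrimeSpectrum E)) ⊆ Algebra.etaleLocus R E :=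
    fun Q hQ => by_contra fun hn => hQ ((hJ ▸ (hn : Q ∈ Z) : Q ∈ PrimeSpectrum.zeroLocus (J : Set E)) hr₂J)
  haveI het : Algebra.Etale R (Localization.Away (algebraMap R E r₂)) := Algebra.basicOpen_subset_etaleLocus_iff_etale.1 hsub
  refine ⟨r₁ * r₂, S.mul_mem (S.prod_mem fun g _ => hτS g) hr₂, fun R' _ _ hu => ?_⟩
  rw [map_mul, IsUnit.mul_iff] at hu
  constructor
  · haveI : Algebra.IsIntegral R' (R' ⊗[R] E) := by
      refine ⟨fun z => ?_⟩
      have hgen : ∀ g ∈ G, IsIntegral R' ((1 : R') ⊗ₜ[R] g) := fun g hg => by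
        have h1 : IsIntegral R' ((1 : R') ⊗ₜ[R] (algebraMap R E (τ g) * g)) :=
          ((hτ g).map (Algebra.TensorProduct.includeRight : E →ₐ[R] R' ⊗[R] E)).tower_top
        have hug : IsUnit (algebraMap R R' (τ g)) :=
          isUnit_of_dvd_unit (map_dvd _ (Finset.dvd_prod_of_mem τ hg)) hu.1
        have e : (1 : R') ⊗ₜ[R] (algebraMap R E (τ g) * g) = algebraMap R R' (τ g) • ((1 : R') ⊗ₜ[R] g) := by
          rw [← Algebra.smul_def, TensorProduct.tmul_smul, algebraMap_smul]
        rw [e] at h1
        obtain ⟨w, hw⟩ := hug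
        have h2 := h1.smul (↑w⁻¹ : R')
        rwa [smul_smul, ← hw, Units.inv_mul, one_smul] at h2
      induction z using TensorProduct.induction_on with
      | zero => exact isIntegral_zero
      | add a b ha hb => exact ha.add hb
      | tmul a e =>
        have he : IsIntegral R' ((1 : R') ⊗ₜ[R] e) := by
          have : e ∈ Algebra.adjoin R (G : Set E) := hG ▸ Algebra.mem_top
          induction this using Algebra.adjoin_induction with
          | mem g hg => exact hgen g hg
          | algebraMap z =>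
            rw [show (1 : R') ⊗ₜ[R] algebraMap R E z = algebraMap R' _ (algebraMap R R' z) by
              rw [Algebra.algebraMap_eq_smul_one, TensorProduct.tmul_smul, ← IsScalarTower.algebraMap_apply,
                Algebra.algebraMap_eq_smul_one]; rfl]
            exact isIntegral_algebraMap
          | add a b _ _ ha hb => rw [TensorProduct.tmul_add]; exact ha.add hb
          | mul a b _ _ ha hb => rw [← one_mul (1 : R'), ← Algebra.TensorProduct.tmul_mul_tmul]; exact ha.mul hb
        rw [show a ⊗ₜ[R] e = a • ((1 : R') ⊗ₜ[R] e) by rw [TensorProduct.smul_tmul', smul_eq_mul, mul_one]]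
        exact he.smul a
    exact Algebra.IsIntegral.finite
  · let Rr := Localization.Away r₂
    letI : Algebra Rr R' := (IsLocalization.Away.lift r₂ (g := algebraMap R R') hu.2).toAlgebra
    haveI : IsScalarTower R Rr R' := IsScalarTower.of_algebraMap_eq fun z => (IsLocalization.Away.lift_eq r₂ hu.2 z).symm
    let L := Localization.Away (algebraMap R E r₂)
    have hul : IsUnit (algebraMap R L r₂) := by
      rw [IsScalarTower.algebraMap_apply R E L]; exact IsLocalization.Away.algebraMap_isUnit _
    letI : Algebra Rr L := (IsLocalization.Away.lift r₂ (g := algebraMap R L) hul).toAlgebra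
    haveI : IsScalarTower R Rr L := IsScalarTower.of_algebraMap_eq fun z => (IsLocalization.Away.lift_eq r₂ hul z).symm
    haveI : IsLocalization (Algebra.algebraMapSubmonoid E (Submonoid.powers r₂)) L := by
      rw [Algebra.algebraMapSubmonoid, Submonoid.map_powers]; infer_instance
    haveI : Algebra.IsPushout R Rr E L :=
      .symm <| Algebra.isPushout_of_isLocalization (Submonoid.powers r₂) Rr E L
    haveI : Algebra.Etale Rr L := Algebra.Etale.of_restrictScalars R Rr L
    haveI : Algebra.Etale Rr (Rr ⊗[R] E) := Algebra.Etale.of_equiv (Algebra.IsPushout.equiv R Rr E L).symm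
    exact Algebra.Etale.of_equiv (Algebra.TensorProduct.cancelBaseChange R Rr R' R' E)


/-- a finite etale algebra over a localization has a model that is finite etale after inverting one element -/
theorem exists_model [IsNoetherianRing R] {A : Type u} [CommRing A] [Algebra R A] [IsLocalization S A]
    [IsLocalRing A] (B : Type u) [CommRing B] [Algebra A B] [Algebra R B] [IsScalarTower R A B]
    [Module.Finite A B] [Algebra.Etale A B] :
    ∃ (E : Type u) (_ : CommRing E) (_ : Algebra R E) (_ : Algebra E B) (_ : IsScalarTower R E B),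
      Algebra.FinitePresentation R E ∧ IsLocalization (Algebra.algebraMapSubmonoid E S) B ∧
      ∃ r ∈ S, ∀ (R' : Type u) [CommRing R'] [Algebra R R'], IsUnit (algebraMap R R' r) →
        Module.Finite R' (R' ⊗[R] E) ∧ Algebra.Etale R' (R' ⊗[R] E) := by
  classical
  obtain ⟨n, π, hπ, s, hs⟩ := Algebra.FinitePresentation.out (R := A) (A := B)
  letI : Algebra (MvPolynomial (Fin n) R) (MvPolynomial (Fin n) A) := MvPolynomial.algebraMvPolynomial
  haveI : IsLocalization (S.map (MvPolynomial.C (σ := Fin n))) (MvPolynomial (Fin n) A) := MvPolynomial.isLocalization (σ := Fin n) S A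
  choose qd hqd using fun z : s => IsLocalization.surj (S.map (MvPolynomial.C (σ := Fin n))) (z.1 : MvPolynomial (Fin n) A)
  let t : s → MvPolynomial (Fin n) R := fun z => (qd z).1
  have hker : RingHom.ker π.toRingHom = Ideal.span (Set.range fun k => MvPolynomial.map (algebraMap R A) (t k)) := by
    rw [← hs]
    have hu : ∀ z : s, ∃ w : MvPolynomial (Fin n) A, IsUnit w ∧ MvPolynomial.map (algebraMap R A) (t z) = w * z.1 := fun z =>
      ⟨_, IsLocalization.map_units (MvPolynomial (Fin n) A) (qd z).2, by rw [mul_comm]; exact (hqd z).symm⟩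
    refine le_antisymm (Ideal.span_le.2 fun z hz => ?_) (Ideal.span_le.2 ?_)
    · obtain ⟨w, hw, e⟩ := hu ⟨z, hz⟩
      obtain ⟨w, rfl⟩ := hw
      have : (↑w⁻¹ : MvPolynomial (Fin n) A) * MvPolynomial.map (algebraMap R A) (t ⟨z, hz⟩) = z := by
        rw [e, ← mul_assoc, Units.inv_mul, one_mul]
      rw [SetLike.mem_coe, ← this]
      exact Ideal.mul_mem_left _ _ (Ideal.subset_span ⟨_, rfl⟩)
    · rintro _ ⟨z, rfl⟩
      obtain ⟨w, -, e⟩ := hu z
      show MvPolynomial.map (algebraMap R A) (t z) ∈ _
      rw [e]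
      exact Ideal.mul_mem_left _ _ (Ideal.subset_span z.2)
  let E := MvPolynomial (Fin n) R ⧸ Ideal.span (Set.range t)
  obtain ⟨θ, hθ⟩ := LimSch.isPushout_model (CommRingCat.ofHom (algebraMap R A)) (CommRingCat.ofHom (algebraMap A B))
    π.toRingHom (RingHom.ext fun a => π.commutes a) hπ t hker
  letI : Algebra E B := θ.hom.toAlgebra
  haveI : IsScalarTower R E B := IsScalarTower.of_algebraMap_eq (R := R) (S := E) (A := B) fun z => by
    refine (IsScalarTower.algebraMap_apply R A B z).trans ?_
    exact congr($(hθ.w) z)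
  haveI hpo : Algebra.IsPushout R E A B := by
    rw [← CommRingCat.isPushout_iff_isPushout]
    exact hθ.flip
  haveI hloc : IsLocalization (Algebra.algebraMapSubmonoid E S) B :=
    (Algebra.isLocalization_iff_isPushout S A).2 hpo
  haveI : Algebra.FinitePresentation R E := Algebra.FinitePresentation.of_finiteType.1 inferInstance
  refine ⟨E, inferInstance, inferInstance, inferInstance, inferInstance, inferInstance, hloc,
    exists_good_denominator S (A := A) (B := B) (E := E)⟩

end Groth.Agent.PurityReg
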