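import Groth.Agent.PurityReg.Dense
import Groth.Agent.PurityReg.Extend
import Mathlib

/-!
# Extensions of a cover glue, and extension across a complement with regular local rings
-/

set_option autoImplicit false
set_option backward.isDefEq.respectTransparency false
set_option backward.isDefEq.respectTransparency.types false
set_option linter.style.haveILetI false
set_option maxHeartbeats 1000000

noncomputable section

universe u

open AlgebraicGeometry CategoryTheory CategoryTheory.Limits TopologicalSpace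

namespace Groth.Agent.PurityReg

variable {X : Scheme.{u}} {U : X.Opens} {Z₀ : Scheme.{u}} {g₀ : Z₀ ⟶ U.toScheme}

theorem ext_self (hg₀ : FEt.prop g₀) : Ext g₀ U := by
  refine ⟨le_rfl, Z₀, g₀, 𝟙 _, hg₀, ?_⟩
  rw [Scheme.homOfLE_rfl]
  exact IsPullback.of_horiz_isIso ⟨by simp⟩

theorem Ext.mono {W W' : X.Opens} (h : Ext g₀ W) (h₁ : U ≤ W') (h₂ : W' ≤ W) : Ext g₀ W' := by
  obtain ⟨hUW, Z, g, i, hg, hi⟩ := h
  let k := X.homOfLE h₂
  let l : Z₀ ⟶ pullback g k := pullback.lift i (g₀ ≫ X.homOfLE h₁) (by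
    rw [hi.w, Category.assoc, Scheme.homOfLE_homOfLE])
  refine ⟨h₁, pullback g k, pullback.snd g k, l, MorphismProperty.pullback_snd _ _ hg, ?_⟩
  refine IsPullback.of_right ?_ (pullback.lift_snd _ _ _) (IsPullback.of_hasPullback g k)
  rw [pullback.lift_fst, Scheme.homOfLE_homOfLE]
  exact hi

variable [IsLocallyNoetherian X] (hd : Dense (U : Set X))
  (hreg : ∀ x : X, x ∉ U → IsRegularLocalRing (X.presheaf.stalk x))

include hd in
omit [IsLocallyNoetherian X] in
theorem le_closure (W : X.Opens) : (W : Set X) ⊆ closure (U : Set X) := fun w _ => hd w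

include hd hreg in
/-- maps of extensions are cartesian -/
theorem exists_map {W W' : X.Opens} (hU : U ≤ W) (hU' : U ≤ W') (hle : W ≤ W') {Z Z' : Scheme.{u}}
    (g : Z ⟶ W.toScheme) (g' : Z' ⟶ W'.toScheme) (hg : FEt.prop g) (hg' : FEt.prop g')
    (i : Z₀ ⟶ Z) (i' : Z₀ ⟶ Z') (hi : IsPullback i g₀ g (X.homOfLE hU)) (hi' : IsPullback i' g₀ g' (X.homOfLE hU')) :
    ∃ φ : Z ⟶ Z', i ≫ φ = i' ∧ IsPullback φ g g' (X.homOfLE hle) := by
  let k := X.homOfLE hle
  let l : Z₀ ⟶ pullback g' k := pullback.lift i' (g₀ ≫ X.homOfLE hU) (by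
    rw [hi'.w, Category.assoc, Scheme.homOfLE_homOfLE])
  have hp : FEt.prop (pullback.snd g' k) := MorphismProperty.pullback_snd _ _ hg'
  have hl : IsPullback l g₀ (pullback.snd g' k) (X.homOfLE hU) := by
    refine IsPullback.of_right ?_ (pullback.lift_snd _ _ _) (IsPullback.of_hasPullback g' k)
    rw [pullback.lift_fst, Scheme.homOfLE_homOfLE]
    exact hi'
  have hr : ∀ x : X, x ∈ W → x ∉ U → IsRegularLocalRing (X.presheaf.stalk x) := fun x _ h => hreg x h
  have hc := le_closure hd W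
  obtain ⟨m, hm, hm'⟩ := exists_hom_ext hU hr hc g (pullback.snd g' k) hg hp i l hi hl
  obtain ⟨n, hn, hn'⟩ := exists_hom_ext hU hr hc (pullback.snd g' k) g hp hg l i hl hi
  have h1 : m ≫ n = 𝟙 Z := hom_unique_ext hU hc g g hg hg i hi
    (by rw [Category.assoc, hn, hm]) (Category.id_comp _) (by rw [reassoc_of% hm', hn', Category.comp_id])
  have h2 : n ≫ m = 𝟙 (pullback g' k) := hom_unique_ext hU hc _ _ hp hp l hl
    (by rw [Category.assoc, hm, hn]) (Category.id_comp _) (by rw [reassoc_of% hn', hm', Category.comp_id])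
  refine ⟨m ≫ pullback.fst g' k, by rw [reassoc_of% hm', pullback.lift_fst], ?_⟩
  exact (IsPullback.of_hasPullback g' k).of_iso (⟨n, m, h2, h1⟩ : pullback g' k ≅ Z) (Iso.refl _) (Iso.refl _)
    (Iso.refl _) (by simp [reassoc_of% h2]) (by simp [hn]) (by simp) (by simp [k])

include hd in
omit [IsLocallyNoetherian X] in
/-- maps of extensions are unique -/
theorem map_unique {W W' : X.Opens} (hU : U ≤ W) (hle : W ≤ W') {Z Z' : Scheme.{u}}
    (g : Z ⟶ W.toScheme) (g' : Z' ⟶ W'.toScheme) (hg : FEt.prop g) (hg' : FEt.prop g')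
    (i : Z₀ ⟶ Z) (hi : IsPullback i g₀ g (X.homOfLE hU)) {a b : Z ⟶ Z'}
    (ha : a ≫ g' = g ≫ X.homOfLE hle) (hb : b ≫ g' = g ≫ X.homOfLE hle) (hab : i ≫ a = i ≫ b) : a = b := by
  let k := X.homOfLE hle
  have h := hom_unique_ext hU (le_closure hd W) g (pullback.snd g' k) hg (MorphismProperty.pullback_snd _ _ hg') i hi
    (a := pullback.lift a g ha) (b := pullback.lift b g hb) (pullback.lift_snd _ _ _) (pullback.lift_snd _ _ _)
    (pullback.hom_ext (by simpa [pullback.lift_fst] using hab) (by simp [pullback.lift_snd]))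
  simpa [pullback.lift_fst] using congrArg (fun m => m ≫ pullback.fst g' k) h

/-- the opens over which the cover extends -/
abbrev Idx (g₀ : Z₀ ⟶ U.toScheme) : Type u := {W : X.Opens // Ext g₀ W}

/-- the union of the opens over which the cover extends -/
abbrev maxOpen (g₀ : Z₀ ⟶ U.toScheme) : X.Opens := ⨆ W : Idx g₀, W.1

/-- the cover of the union -/
def famCover (g₀ : Z₀ ⟶ U.toScheme) : (maxOpen g₀).toScheme.OpenCover where
  I₀ := Idx g₀
  X W := W.1.toScheme
  f W := X.homOfLE (le_iSup (fun W : Idx g₀ => W.1) W)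
  mem₀ := by
    rw [Scheme.presieve₀_mem_precoverage_iff]
    refine ⟨fun x => ?_, fun _ => inferInstance⟩
    obtain ⟨W, hW⟩ := Opens.mem_iSup.1 x.2
    exact ⟨W, ⟨x.1, hW⟩, (maxOpen g₀).ι.isOpenEmbedding.injective (by
      show (X.homOfLE (le_iSup (fun W : Idx g₀ => W.1) W) ≫ (maxOpen g₀).ι) _ = _
      rw [Scheme.homOfLE_ι]; rfl)⟩

instance (g₀ : Z₀ ⟶ U.toScheme) : Preorder (famCover g₀).I₀ := inferInstanceAs (Preorder (Idx g₀))

instance (g₀ : Z₀ ⟶ U.toScheme) : Quiver.IsThin (famCover g₀).I₀ := inferInstanceAs (Quiver.IsThin (Idx g₀))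

instance (g₀ : Z₀ ⟶ U.toScheme) : Small.{u} (famCover g₀).I₀ := inferInstanceAs (Small.{u} (Idx g₀))

instance famCoverDirected (g₀ : Z₀ ⟶ U.toScheme) : (famCover g₀).LocallyDirected where
  trans {V W} h := X.homOfLE (show V.1 ≤ W.1 from leOfHom h)
  trans_id W := Scheme.homOfLE_rfl X W.1
  trans_comp _ _ := (Scheme.homOfLE_homOfLE X _ _).symm
  w {V W} h := Scheme.homOfLE_homOfLE X (show V.1 ≤ W.1 from leOfHom h) (le_iSup (fun W : Idx g₀ => W.1) W)
  directed {V W} x := by
    let k : Idx g₀ := ⟨V.1 ⊓ W.1, V.2.mono (le_inf V.2.1 W.2.1) inf_le_left⟩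
    let p := pullback.fst ((famCover g₀).f V) ((famCover g₀).f W)
    let q := pullback.snd ((famCover g₀).f V) ((famCover g₀).f W)
    have he : ((p ≫ (famCover g₀).f V) ≫ (maxOpen g₀).ι) x = V.1.ι (p x) := by
      show ((p ≫ X.homOfLE (le_iSup (fun W : Idx g₀ => W.1) V)) ≫ (maxOpen g₀).ι) x = _
      rw [Category.assoc, Scheme.homOfLE_ι]; rfl
    have he' : ((p ≫ (famCover g₀).f V) ≫ (maxOpen g₀).ι) x = W.1.ι (q x) := by
      rw [pullback.condition]
      show ((q ≫ X.homOfLE (le_iSup (fun W : Idx g₀ => W.1) W)) ≫ (maxOpen g₀).ι) x = _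
      rw [Category.assoc, Scheme.homOfLE_ι]; rfl
    have hmem : V.1.ι (p x) ∈ V.1 ⊓ W.1 := ⟨(p x).2, (he.symm.trans he') ▸ (q x).2⟩
    refine ⟨k, homOfLE (show V.1 ⊓ W.1 ≤ V.1 from inf_le_left), homOfLE (show V.1 ⊓ W.1 ≤ W.1 from inf_le_right),
      ⟨V.1.ι (p x), hmem⟩, p.isOpenEmbedding.injective ?_⟩
    rw [← Scheme.Hom.comp_apply, pullback.lift_fst]
    apply V.1.ι.isOpenEmbedding.injective
    show (X.homOfLE (inf_le_left : V.1 ⊓ W.1 ≤ V.1) ≫ V.1.ι) _ = _
    rw [Scheme.homOfLE_ι]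
    rfl

omit [IsLocallyNoetherian X] in
theorem ext_of_gluingData (d : (famCover g₀).RelativeGluingData) (hg : ∀ W, FEt.prop (d.natTrans.app W)) (W₀ : (famCover g₀).I₀) (hW₀ : U ≤ W₀.1)
    (i : Z₀ ⟶ d.functor.obj W₀) (hi : IsPullback i g₀ (d.natTrans.app W₀) (X.homOfLE hW₀)) :
    Ext g₀ (maxOpen g₀) := by
  have hprop : FEt.prop d.toBase := by
    refine (IsZariskiLocalAtTarget.iff_of_openCover (P := FEt.prop) (famCover g₀)).2 fun W => ?_
    rw [Scheme.Cover.pullbackHom, ← (d.isPullback_natTrans_ι_toBase W).flip.isoPullback_inv_snd]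
    exact (MorphismProperty.cancel_left_of_respectsIso FEt.prop _ _).2 (hg W)
  have hle : W₀.1 ≤ maxOpen g₀ := le_iSup (fun W : Idx g₀ => W.1) W₀
  refine ⟨hW₀.trans hle, d.glued, d.toBase, i ≫ colimit.ι d.functor W₀, hprop, ?_⟩
  have := hi.paste_horiz (d.isPullback_natTrans_ι_toBase W₀).flip
  have e : X.homOfLE hW₀ ≫ (famCover g₀).f W₀ = X.homOfLE (hW₀.trans hle) := Scheme.homOfLE_homOfLE X hW₀ hle
  rwa [e] at this

include hd hreg in
/-- all the extensions glue -/
theorem ext_maxOpen (hg₀ : FEt.prop g₀) : Ext g₀ (maxOpen g₀) := by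
  choose hU Z g i hg hi using fun W : Idx g₀ => W.2
  choose φ hφi hφ using fun (V W : Idx g₀) (h : V.1 ≤ W.1) =>
    exists_map hd hreg (hU V) (hU W) h (g V) (g W) (hg V) (hg W) (i V) (i W) (hi V) (hi W)
  let F : (famCover g₀).I₀ ⥤ Scheme.{u} :=
    { obj := fun W => Z W
      map := fun {V W} h => φ V W (leOfHom h)
      map_id := fun W => map_unique hd (hU W) le_rfl (g W) (g W) (hg W) (hg W) (i W) (hi W)
        (hφ _ _ _).w (by rw [Category.id_comp, Scheme.homOfLE_rfl, Category.comp_id])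
        (by rw [hφi, Category.comp_id])
      map_comp := fun {A B C} f h => map_unique hd (hU A) ((leOfHom f).trans (leOfHom h)) (g A) (g C) (hg A) (hg C)
        (i A) (hi A) (hφ _ _ _).w (by
          rw [Category.assoc, (hφ _ _ _).w, reassoc_of% (hφ A B (leOfHom f)).w, Scheme.homOfLE_homOfLE])
        (by rw [hφi, reassoc_of% hφi A B (leOfHom f), hφi]) }
  let d : (famCover g₀).RelativeGluingData :=
    { functor := F
      natTrans := { app := fun W => g W, naturality := fun V W h => (hφ V W (leOfHom h)).w }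
      equifibered := fun {V W} h => hφ V W (leOfHom h) }
  exact ext_of_gluingData d (fun W => hg W) ⟨U, ext_self hg₀⟩ (hU ⟨U, ext_self hg₀⟩) (i _) (hi _)

end Groth.Agent.PurityReg
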